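import Mathlib
import Cfsg.Agent.H23.CR
import Cfsg.Agent.Block.Mod2
import Cfsg.Agent.Block.Height

/-! The number of regular classes of a finite group with a split (B,N)-pair. -/

set_option autoImplicit false
set_option linter.unusedSectionVars false

namespace Cfsg.Agent.H23
open Cfsg.Agent.BN Cfsg.Agent.Block Finset MonoidAlgebra
open scoped _root_.Classical

theorem card_reg {G : Type*} [Group G] [Finite G] {p : ℕ} {M : Ideal AlgInt} (hM : IsPModular p M)
    (S : MS M G) :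
    Nat.card {c : ConjClasses G // ∃ g, ConjClasses.mk g = c ∧ ¬ p ∣ orderOf g} = S.S.n := by
  set R := {c : ConjClasses G // ∃ g, ConjClasses.mk g = c ∧ ¬ p ∣ orderOf g}
  have := Fintype.ofFinite R
  have h1 : ∀ {f : G → ℂ}, IsClassFunction G f → ∀ (c : R) g, ConjClasses.mk g = c →
      f c.2.choose = f g := fun hf c g e => by
    obtain ⟨x, hx⟩ := isConj_iff.mp (ConjClasses.mk_eq_mk_iff_isConj.mp (e.trans c.2.choose_spec.1.symm))
    rw [← hx, hf]
  have h2 : LinearIndependent ℂ fun (i : Fin S.S.n) (c : R) => S.φ i c.2.choose := by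
    refine Fintype.linearIndependent_iff.mpr fun a h j => ?_
    have h3 := Char.classFun_sum univ fun i _ => Char.classFun_smul (a i) (S.classFun_φ i)
    have := lin_idem_eq_zero hM (S.isV_e j) (S.e_mul_self j) h3 fun g hg => by
      rw [← h1 h3 ⟨_, g, rfl, hg⟩ g rfl]
      simpa using congrFun h ⟨_, g, rfl, hg⟩
    simpa [lin_sum_left, lin_smul_left, S.lin_φ_e] using this
  rw [Nat.card_eq_fintype_card, ← Module.finrank_fintype_fun_eq_card ℂ,
    Module.finrank_eq_card_basis (Module.Basis.mk h2 fun v _ => ?_), Fintype.card_fin]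
  let f : G → ℂ := fun g => if h : ¬ p ∣ orderOf g then v ⟨_, g, rfl, h⟩ else 0
  have h3 : IsClassFunction G f := fun g x => by
    have h4 : ConjClasses.mk (x * g * x⁻¹) = ConjClasses.mk g :=
      ConjClasses.mk_eq_mk_iff_isConj.mpr (isConj_iff.mpr ⟨x, rfl⟩).symm
    simp only [f, h4, show orderOf (x * g * x⁻¹) = orderOf g from (MulAut.conj x).orderOf_eq g]
  refine (Submodule.mem_span_range_iff_exists_fun _).mpr ⟨fun i => lin f (S.e i), funext fun c => ?_⟩
  have := S.apply_regular hM h3 c.2.choose_spec.2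
  simp only [f, c.2.choose_spec.2, c.2.choose_spec.1, not_false_eq_true, dite_true] at this
  simpa [f] using this.symm

namespace SB
variable {p : ℕ} [hp : Fact p.Prime] {G : Type*} [Group G] [Fintype G] {W : Type*} [Group W]
  [Fintype W] {ι : Type*} {S : SB p G W ι} {A : Type*} [Group A] [Fintype A] {Q : S.Par A}
  {k : Type*} [Field k] [CharP k p]

/-- right translation of functions -/
def rt (k G : Type*) [Field k] [Group G] : G →* Module.End k (G → k) where
  toFun g := LinearMap.funLeft k k (· * g)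
  map_one' := LinearMap.ext fun f => funext fun x => congrArg f (mul_one x)
  map_mul' a b := LinearMap.ext fun f => funext fun x => congrArg f (mul_assoc x a b).symm

theorem exists_ind (χ : S.H →* kˣ) : ∃ y, S.Fix (rt k G) y ∧ S.Eig (rt k G) χ y ∧
    ∀ a w, S.M a w → S.T (rt k G) a y a⁻¹ = 1 ∧ ∀ x, S.T (rt k G) a y x ≠ 0 → S.Cell x w⁻¹ := by
  let y : G → k := fun x => ∑ h : S.H, if x * h ∈ S.U then (χ h⁻¹ : k) else 0
  have h1 : ∀ u ∈ S.U, y u = 1 := fun u hu => by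
    refine (sum_eq_single 1 (fun h _ e => if_neg fun h2 => e
      (Subtype.ext (eq_one_of_U_H ((S.U.mul_mem_cancel_left hu).mp h2) h.2))) (by simp)).trans ?_
    simp [hu]
  have h2 : ∀ x, y x ≠ 0 → x ∈ S.B := fun x hx => by
    obtain ⟨h, -, h3⟩ := exists_ne_zero_of_sum_ne_zero hx
    exact (S.B.mul_mem_cancel_right (H_le_P _ h.2)).mp (U_le_P _ (by_contra fun e => h3 (if_neg e)))
  have h3 : S.Fix (rt k G) y := fun u hu => funext fun x => sum_congr rfl fun h _ =>
    if_congr (by rw [show x * u * h = x * h * ((h : G)⁻¹ * u * h) by simp [mul_assoc],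
      S.U.mul_mem_cancel_right (S.H_U' h.2 hu)]) rfl rfl
  refine ⟨y, h3, fun t => funext fun x => ?_, fun a w ha => ⟨?_, fun x hx => ?_⟩⟩
  · change y (x * t) = χ t * y x
    rw [mul_sum]
    refine Fintype.sum_equiv (Equiv.mulLeft t) _ _ fun h => ?_
    simp [mul_assoc, mul_left_comm (χ t : k)]
  · rw [T_apply, Finset.sum_apply, sum_eq_single (a : G ⧸ S.U), h3.out]
    · exact h1 _ (by simp)
    · intro c hc hne
      obtain ⟨u, hu, rfl⟩ := mem_orb.mp hc
      rw [h3.out]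
      by_contra h4
      exact hne (QuotientGroup.eq.mpr (conj_U_of_B (a := a⁻¹) hu (by
        simpa [mul_assoc] using h2 _ h4) |> fun h => by simpa [mul_assoc] using h)).symm
    · exact fun h => absurd (mem_orb.mpr ⟨1, one_mem _, by simp⟩) h
  · rw [T_apply, Finset.sum_apply] at hx
    obtain ⟨c, hc, h4⟩ := exists_ne_zero_of_sum_ne_zero hx
    simpa using (cell_of_mem_orb (g := c.out) ha (by simpa)).inv.B_mul (h2 _ h4)

theorem comp_cjH_mul {a b c : G} {u v w : W} (ha : S.M a v) (hb : S.M b w) (hc : S.M c u)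
    (e : a * b = c) (χ : S.H →* kˣ) : χ.comp (cjH hc) = (χ.comp (cjH hb)).comp (cjH ha) :=
  MonoidHom.ext fun _ => congrArg χ (Subtype.ext (by simp [cjH, mul_assoc, ← e]))

theorem comp_cjH_H {a : G} {w : W} (ha : S.M a w) (h : a ∈ S.H) (χ : S.H →* kˣ) :
    χ.comp (cjH ha) = χ :=
  MonoidHom.ext fun t => congrArg χ (Subtype.ext (by simp [cjH, mul_assoc, S.H_comm _ t.2 _ h]))

theorem Par.comp_cjH_sq (χ : S.H →* kˣ) (i : ι) :
    (χ.comp (cjH (Q.M_n i))).comp (cjH (Q.M_n i)) = χ := by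
  rw [← comp_cjH_mul _ _ (S.M_mul (Q.M_n i) (Q.M_n i)) rfl, comp_cjH_H _ (Q.sq_mem i)]

theorem Par.comp_cjH {χ : S.H →* kˣ} {i : ι} (h : χ.comp (Q.α i) = 1) :
    χ.comp (cjH (Q.M_n i)) = χ := by
  obtain ⟨y, h1, h2, h3⟩ := exists_ind (S := S) χ
  have h4 := (h2.T h1 (Q.M_n i)).T (h1.T _) (Q.M_n i)
  rw [Q.T_sq h1 h2, if_pos h, Q.comp_cjH_sq] at h4
  refine (h2.T h1 (Q.M_n i)).unique (fun e => ?_) fun t => neg_injective ?_
  · simpa [e] using (h3 _ _ (Q.M_n i)).1
  · simpa using h4 t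

theorem Par.comp_cjH_of_mem {χ : S.H →* kˣ} {K : Set ι} (h : ∀ i ∈ K, χ.comp (Q.α i) = 1) {w : W}
    (hw : w ∈ WJ S.s K) {a : G} (ha : S.M a w) : χ.comp (cjH ha) = χ := by
  induction hw using S.cx.WJ_ind_left generalizing a with
  | h1 => exact comp_cjH_H _ (S.M_one.mp ha) _
  | hs j hj v hv _ ih =>
    have h1 := S.M_mul (M_inv_s (Q.M_n j)) ha
    rw [S.cx.inv.cancel_left] at h1
    rw [comp_cjH_mul (Q.M_n j) h1 ha (by simp), ih h1, Q.comp_cjH (h j hj)]

section
variable {V : Type*} [AddCommGroup V] [Module k V] {ρ : G →* Module.End k V}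

theorem Par.T_desc {v : V} (hv : S.Fix ρ v) {χ : S.H →* kˣ} (h : S.Eig ρ χ v) {a : G} {w : W}
    (ha : S.M a w) {i : ι} (hl : len S.s (S.s i * w) < len S.s w) :
    S.T ρ (Q.n i) (S.T ρ a v) =
      (if (χ.comp (cjH ha)).comp (Q.α i) = 1 then (-1 : k) else 0) • S.T ρ a v := by
  have h1 := S.M_mul (M_inv_s (Q.M_n i)) ha
  have h2 := T_mul hv (Q.M_n i) h1 (by
    have := S.cx.len_sl i w
    rw [S.cx.inv.cancel_left, S.cx.len_s]; omega)
  rw [mul_inv_cancel_left] at h2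
  rw [h2, Q.T_sq (hv.T _) (h.T hv h1), comp_cjH_mul (Q.M_n i) h1 ha (by simp)]
  refine congrArg (· • _) (if_congr ⟨fun h => by rwa [Q.comp_cjH h], fun h => ?_⟩ rfl rfl)
  rwa [← Q.comp_cjH h, Q.comp_cjH_sq] at h

end

theorem Par.exists_of_adm {χ : S.H →* kˣ} {J : Set ι} (h : ∀ i ∈ J, χ.comp (Q.α i) = 1) :
    ∃ v ≠ 0, Q.Wt (rt k G) χ J v := by
  set K := {i | χ.comp (Q.α i) = 1 ∧ i ∉ J}
  have h0 := S.M_nu (S.cx.w0 Set.univ)
  set n := S.nu (S.cx.w0 Set.univ)
  obtain ⟨y, h1, h2, h3⟩ := exists_ind (χ.comp (cjH (S.M_inv h0)))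
  have h4 : ∀ {a w} (ha : S.M a w), w ∈ WJ S.s K →
      (χ.comp (cjH (S.M_inv h0))).comp (cjH (S.M_mul ha h0)) = χ := fun ha hw => by
    rw [comp_cjH_mul ha h0 _ rfl, ← comp_cjH_mul h0 _ S.M_one' (by simp), comp_cjH_H _ (one_mem _),
      Q.comp_cjH_of_mem (fun _ h => h.1) hw]
  have h5 : ∀ {a w} (ha : S.M a w), w ∈ WJ S.s K → S.Eig (rt k G) χ (S.T (rt k G) (a * n) y) :=
    fun ha hw => h4 ha hw ▸ h2.T h1 (S.M_mul ha h0)
  have h6 : ∀ {a w} (ha : S.M a w), w ∈ WJ S.s K → ∀ i, len S.s w < len S.s (S.s i * w) →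
      S.T (rt k G) (Q.n i) (S.T (rt k G) (a * n) y) =
        (if χ.comp (Q.α i) = 1 then (-1 : k) else 0) • S.T (rt k G) (a * n) y :=
    fun {a w} ha hw i hl => by
      have e1 := S.cx.len_mul_w0 (S.cx.mem_WJ_univ w)
      have e2 := S.cx.len_mul_w0 (S.cx.mem_WJ_univ (S.s i * w))
      rw [Q.T_desc h1 h2 (S.M_mul ha h0) (by rw [← mul_assoc]; omega), h4 ha hw]
  have h7 := h5 S.M_one' (one_mem _)
  let t : G → W → G → k := fun a w => ((-1) ^ len S.s w *
    S.T (rt k G) a⁻¹ (S.T (rt k G) (1 * n) y) n⁻¹) • S.T (rt k G) (a * n) y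
  have h8 : ∀ {a a' w}, S.M a w → S.M a' w → w ∈ WJ S.s K → t a' w = t a w :=
    fun {a a' w} ha ha' hw => by
      have e := mem_H_of_M ha' ha
      rw [← inv_mul_cancel_right a' a]
      simp only [t]
      rw [mul_inv_rev, T_mul_B (h1.T _) (H_le_P _ (inv_mem e)), h7 ⟨_, inv_mem e⟩, mul_assoc _ a,
        T_B_mul h1 (H_le_P _ e), h5 ha hw ⟨_, e⟩, map_smul, smul_smul, Pi.smul_apply, smul_eq_mul,
        mul_comm (χ _ : k), mul_assoc, mul_assoc, ← Units.val_mul, ← map_mul]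
      rw [show (⟨_, inv_mem e⟩ * ⟨_, e⟩ : S.H) = 1 from Subtype.ext (inv_mul_cancel _)]
      simp
  have h9 : ∀ i ∈ K, ∀ w ∈ WJ S.s K, len S.s (S.s i * w) < len S.s w →
      S.T (rt k G) (Q.n i) (t (S.nu w) w) + S.T (rt k G) (Q.n i) (t (S.nu (S.s i * w)) (S.s i * w))
        = 0 := fun i hi w hw hl => by
    have ha := S.M_nu w
    have hb := S.M_mul (Q.M_n i) ha
    have hw' := mul_mem (s_mem_WJ (s := S.s) hi) hw
    have e0 := S.cx.len_sl i w
    have e1 := S.cx.len_mul_w0 (S.cx.mem_WJ_univ w)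
    have e2 := S.cx.len_mul_w0 (S.cx.mem_WJ_univ (S.s i * w))
    have e3 := T_mul (h1.T (1 * n)) (S.M_inv hb) (Q.M_n i) (by
      rw [S.cx.len_s, S.cx.len_inv, mul_inv_rev, S.cx.s_inv, S.cx.inv.cancel_right, S.cx.len_inv]
      omega)
    rw [h6 S.M_one' (one_mem _) i (by simp [S.cx.len_s]), if_pos hi.1, mul_inv_rev,
      inv_mul_cancel_right, ← mul_inv_rev, map_smul] at e3
    rw [h8 hb (S.M_nu _) hw']
    simp only [t, map_smul]
    rw [h6 hb hw' i (by rw [S.cx.inv.cancel_left]; exact hl), if_pos hi.1, e3,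
      ← T_mul h1 (Q.M_n i) (S.M_mul ha h0) (by rw [← mul_assoc, S.cx.len_s]; omega),
      show len S.s w = len S.s (S.s i * w) + 1 by omega, mul_assoc (Q.n i)]
    simp [pow_succ]
  refine ⟨∑ w with w ∈ WJ S.s K, t (S.nu w) w, fun e => ?_, fun u hu => ?_, fun u => ?_,
    fun i hi => ?_, fun i hi => ?_⟩
  · have e1 := congrFun e n⁻¹
    rw [Finset.sum_apply, sum_eq_single 1, h8 S.M_one' (S.M_nu 1) (one_mem _)] at e1
    · simp [t, T_one (h1.T _), (h3 _ _ h0).1] at e1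
    · intro w _ hw
      refine mul_eq_zero_of_right _ (by_contra fun e2 => hw ?_)
      simpa using ((h3 _ _ (S.M_mul (S.M_nu w) h0)).2 _ e2).unique (Cell.of_M (S.M_inv h0))
    · simp
  · rw [map_sum]
    exact sum_congr rfl fun w _ => (h1.T _).smul _ u hu
  · rw [map_sum, smul_sum]
    exact sum_congr rfl fun w hw => by
      rw [map_smul, h5 (S.M_nu w) (mem_filter.mp hw).2, smul_comm]
  · rw [map_sum, ← sum_neg_distrib]
    refine sum_congr rfl fun w hw => ?_
    rw [map_smul, h6 (S.M_nu w) (mem_filter.mp hw).2 i (not_le.mp fun e =>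
      (S.cx.mem_of_desc_left (mem_filter.mp hw).2 e).2 hi), if_pos (h i hi), neg_one_smul, smul_neg]
  · rw [map_sum]
    by_cases h10 : χ.comp (Q.α i) = 1
    · refine sum_involution (fun w _ => S.s i * w) (fun w hw => ?_) (fun w _ _ e => ?_)
        (fun w hw => ?_) fun w _ => S.cx.inv.cancel_left i w
      · have hw' := (mem_filter.mp hw).2
        rcases S.cx.len_sl i w with e | e
        · have := h9 i ⟨h10, hi⟩ _ (mul_mem (s_mem_WJ ⟨h10, hi⟩) hw')
            (by rw [S.cx.inv.cancel_left]; omega)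
          rwa [S.cx.inv.cancel_left, add_comm] at this
        · exact h9 i ⟨h10, hi⟩ w hw' (by omega)
      · have := S.cx.len_sl i w
        rw [e] at this; omega
      · simpa using mul_mem (s_mem_WJ (J := K) ⟨h10, hi⟩) (mem_filter.mp hw).2
    · refine sum_eq_zero fun w hw => ?_
      rw [map_smul, h6 (S.M_nu w) (mem_filter.mp hw).2 i (not_le.mp fun e =>
        h10 (S.cx.mem_of_desc_left (mem_filter.mp hw).2 e).1), if_neg h10, zero_smul, smul_zero]

section
variable {V : Type*} [AddCommGroup V] [Module k V] {ρ : Representation k G V}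
  {V' : Type*} [AddCommGroup V'] [Module k V'] {ρ' : Representation k G V'} {χ : S.H →* kˣ}
  {J : Set ι}

theorem Par.Wt.of_ann {v : V} {z : V'} (h : Q.Wt ρ χ J v)
    (hz : ∀ x, ρ.asAlgebraHom x v = 0 → ρ'.asAlgebraHom x z = 0) : Q.Wt ρ' χ J z :=
  have h1 : ∀ x y, ρ.asAlgebraHom x v = ρ.asAlgebraHom y v →
      ρ'.asAlgebraHom x z = ρ'.asAlgebraHom y z := fun x y e => by
    have := hz (x - y) (by rw [map_sub, LinearMap.sub_apply, e, sub_self])
    rwa [map_sub, LinearMap.sub_apply, sub_eq_zero] at this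
  ⟨fun u hu => by simpa using h1 (single u 1) 1 (by simp [h.fix u hu]),
    fun t => by simpa using h1 (single t 1) (single 1 (χ t : k)) (by simp [h.eig t]),
    fun i hi => by
      simpa [T_apply] using h1 (∑ c ∈ S.orb (Q.n i), single c.out 1) (single 1 (-1))
        (by simpa [T_apply] using h.neg i hi),
    fun i hi => by
      simpa [T_apply] using hz (∑ c ∈ S.orb (Q.n i), single c.out 1)
        (by simpa [T_apply] using h.zero i hi)⟩

theorem alg_kill {v : V} {f : V →ₗ[k] k} (h : ∀ g, f (ρ g v) = 0) (x : MonoidAlgebra k G) :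
    f (ρ.asAlgebraHom x v) = 0 := by
  rw [eq_sum_single x]; simp [h]

theorem Par.Wt.kill {v : V} (h : Q.Wt ρ χ J v) {f : V →ₗ[k] k} (hf : S.Fix ρ.dual f)
    (h0 : f (ρ (S.nu (S.cx.w0 Set.univ)) v) = 0) (g : G) : f (ρ g v) = 0 := by
  refine (Submodule.span_le (p := LinearMap.ker f)).mpr ?_ (h.mem_spn g)
  rintro _ ⟨u, hu, rfl⟩
  simpa [h0, Module.Dual.transpose_apply] using
    DFunLike.congr_fun (hf _ (inv_mem hu)) (ρ (S.nu (S.cx.w0 Set.univ)) v)

theorem Par.Wt.rel {v : V} {v' : V'} (h : Q.Wt ρ χ J v) (h' : Q.Wt ρ' χ J v') {f : V →ₗ[k] k}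
    (hf : S.Fix ρ.dual f) {f' : V' →ₗ[k] k} (hf' : S.Fix ρ'.dual f') (x : MonoidAlgebra k G) :
    f' (ρ' (S.nu (S.cx.w0 Set.univ)) v') * f (ρ.asAlgebraHom x v) =
      f (ρ (S.nu (S.cx.w0 Set.univ)) v) * f' (ρ'.asAlgebraHom x v') := by
  have h1 := ((h.map (ρ' := ρ.prod ρ') (LinearMap.inl k V V') (by simp)).add
    (h'.map (LinearMap.inr k V V') (by simp))).kill
    (f := f' (ρ' (S.nu (S.cx.w0 Set.univ)) v') • f ∘ₗ LinearMap.fst k V V' -
      f (ρ (S.nu (S.cx.w0 Set.univ)) v) • f' ∘ₗ LinearMap.snd k V V') (fun u hu =>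
      LinearMap.ext fun z => by
        have h1 := DFunLike.congr_fun (hf u hu) z.1
        have h2 := DFunLike.congr_fun (hf' u hu) z.2
        simp_all [Module.Dual.transpose_apply]) (by simp [mul_comm])
  rw [eq_sum_single x]
  simp only [map_sum, Representation.asAlgebraHom_single, LinearMap.sum_apply, mul_sum,
    LinearMap.smul_apply, map_smul, smul_eq_mul]
  refine sum_congr rfl fun g _ => ?_
  rw [mul_left_comm, mul_left_comm (f _)]
  exact congrArg _ (by simpa [sub_eq_zero] using h1 g)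

theorem exists_dual_ne {v : V} (hv : v ≠ 0) : (⊤ : Submodule k (Module.Dual k V)) ≠ ⊥ := fun h =>
  hv ((Module.forall_dual_apply_eq_zero_iff k v).mp fun f => by
    rw [(Submodule.mem_bot k).mp (h.le (Submodule.mem_top (x := f)))]; rfl)

theorem Par.Wt.unique_of_simple [IsAlgClosed k] (hs : ∀ v ≠ 0, ∀ w, ∃ x, ρ.asAlgebraHom x v = w)
    {v v' : V} (hv : v ≠ 0) (hv' : v' ≠ 0) {χ' : S.H →* kˣ} {J' : Set ι} (h : Q.Wt ρ χ J v)
    (h' : Q.Wt ρ χ' J' v') : χ = χ' ∧ J = J' := by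
  obtain ⟨f, -, h1, ψ, K, h2⟩ := Q.exists_wt (ρ := ρ.dual) (M := ⊤) (by simp) (exists_dual_ne hv)
  have h3 : ∀ z, S.Fix ρ z → ρ.dual (S.nu (S.cx.w0 Set.univ)) f z = 0 → z = 0 := fun z hz h3 => by
    by_contra h4
    refine h1 (LinearMap.ext fun w => ?_)
    obtain ⟨x, rfl⟩ := hs z h4 w
    refine alg_kill (fun g => ?_) x
    simpa [Module.Dual.transpose_apply] using h2.kill (f := Module.Dual.eval k V z)
      (fun u hu => LinearMap.ext fun φ => by simp [Module.Dual.transpose_apply, hz u hu]) h3 g⁻¹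
  set φ := ρ.dual (S.nu (S.cx.w0 Set.univ)) f
  have h4 : φ v ≠ 0 := fun e => hv (h3 v h.fix e)
  have h5 := h3 _ ((h.fix.smul (φ v' / φ v)).add (h'.fix.smul (-1))) (by simp [h4])
  rw [neg_one_smul, add_neg_eq_zero] at h5
  exact Par.Wt.unique hv' (h5 ▸ h.map (ρ' := ρ) ((φ v' / φ v) • LinearMap.id) (by simp)) h'

end

theorem Par.card_adm [IsAlgClosed k] (Q : S.Par A) {n : ℕ} {d : Fin n → ℕ} (hd : ∀ i, 0 < d i)
    (π : MonoidAlgebra k G →ₐ[k] Π i, Matrix (Fin (d i)) (Fin (d i)) k)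
    (h1 : Function.Surjective π) (h2 : IsNilpotent (RingHom.ker π)) :
    Nat.card {z : (S.H →* kˣ) × Set ι // ∀ j ∈ z.2, z.1.comp (Q.α j) = 1} = n := by
  let ρ : ∀ i, Representation k G (Fin (d i) → k) := fun i =>
    (Matrix.toLinAlgEquiv'.toAlgHom.comp ((Pi.evalAlgHom k _ i).comp π)).toMonoidHom.comp (of k G)
  have h3 : ∀ i x v, (ρ i).asAlgebraHom x v = (π x i).mulVec v := fun i x v => by
    rw [show (ρ i).asAlgebraHom = Matrix.toLinAlgEquiv'.toAlgHom.comp
      ((Pi.evalAlgHom k _ i).comp π) by ext g; simp [ρ]]; rfl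
  have h4 : ∀ i, ∀ v ≠ 0, ∀ w, ∃ x, (ρ i).asAlgebraHom x v = w ∧ ∀ j ≠ i, π x j = 0 :=
    fun i v hv w => by
      obtain ⟨a, ha⟩ := Function.ne_iff.mp hv
      obtain ⟨x, e⟩ := h1 (Pi.single i (Matrix.vecMulVec w (Pi.single a (v a)⁻¹)))
      refine ⟨x, ?_, fun j hj => by rw [e, Pi.single_eq_of_ne hj]⟩
      rw [h3, e, Pi.single_eq_same, Matrix.vecMulVec_mulVec, single_dotProduct, inv_mul_cancel₀ ha]
      simp
  have h5 : ∀ i, ∃ v ≠ 0, ∃ χ J, Q.Wt (ρ i) χ J v := fun i =>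
    let ⟨v, _, h⟩ := Q.exists_wt (ρ := ρ i) (M := ⊤) (by simp) fun h => one_ne_zero (congrFun
      ((Submodule.mem_bot k).mp (h.le (Submodule.mem_top (x := 1)))) ⟨0, hd i⟩); ⟨v, h⟩
  choose v hv χ J hw using h5
  refine (Nat.card_congr (Equiv.ofBijective (fun i => ⟨(χ i, J i), fun j => (hw i).adm (hv i)⟩)
    ⟨fun i j e => by_contra fun hne => ?_, fun z => ?_⟩).symm).trans (Nat.card_fin n)
  · have h5 : ∀ i, ∃ f ≠ 0, S.Fix (ρ i).dual f := fun i =>
      let ⟨f, _, h⟩ := exists_fix (S := S) (ρ := (ρ i).dual) (by simp) (exists_dual_ne (hv i)); ⟨f, h⟩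
    obtain ⟨f, h6, h7⟩ := h5 i
    obtain ⟨f', h6', h7'⟩ := h5 j
    simp only [Subtype.mk.injEq, Prod.mk.injEq] at e
    refine h6' (LinearMap.ext fun w => ?_)
    obtain ⟨x, rfl, h8⟩ := h4 j _ (hv j) w
    have := (hw i).rel (e.1 ▸ e.2 ▸ hw j) h7 h7' x
    rw [h3, h8 i hne, Matrix.zero_mulVec, map_zero, mul_zero, eq_comm, mul_eq_zero] at this
    refine this.resolve_left fun h9 => h6 (LinearMap.ext fun w => ?_)
    obtain ⟨x, rfl, -⟩ := h4 i _ (hv i) w
    exact alg_kill ((hw i).kill h7 h9) x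
  · obtain ⟨y, hy, h6⟩ := Q.exists_of_adm z.2
    let L : Ideal (MonoidAlgebra k G) :=
      { carrier := {x | Representation.asAlgebraHom (rt k G) x y = 0}
        add_mem' := fun h h' => by simp_all
        zero_mem' := by simp
        smul_mem' := fun c x h => by simp_all }
    obtain ⟨e, he, h7⟩ := IsSemisimpleRing.ideal_eq_span_idempotent (L.map π)
    have h8 : 1 - e ≠ 0 := fun h => by
      obtain ⟨x, hx, h8⟩ := (Ideal.mem_map_iff_of_surjective π h1).mp
        (h7.ge (Ideal.subset_span rfl))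
      have h9 := (isNilpotent_of_mem_nilpotent h2 (x := 1 - x) (by
        rwa [RingHom.mem_ker, map_sub, map_one, h8])).isUnit_one_sub
      rw [sub_sub_cancel] at h9
      have h10 := L.mul_mem_left h9.unit⁻¹.1 hx
      rw [h9.val_inv_mul] at h10
      exact hy (by simpa [L] using h10)
    obtain ⟨i, h9⟩ := Function.ne_iff.mp h8
    obtain ⟨a, h10⟩ := Function.ne_iff.mp (Matrix.transpose_injective.ne h9)
    have h11 := h6.of_ann (ρ' := ρ i) (z := ((1 - e) i).transpose a) fun x hx => by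
      obtain ⟨c, hc⟩ := Ideal.mem_span_singleton'.mp (h7.le (Ideal.mem_map_of_mem π hx))
      have := congrFun (congrArg Matrix.transpose (congrFun
        (show π x * (1 - e) = 0 by rw [← hc, mul_assoc, he.mul_one_sub_self, mul_zero]) i)) a
      rw [h3]
      exact this
    obtain ⟨h12, h13⟩ := Par.Wt.unique_of_simple (fun v hv w => (h4 i v hv w).imp fun _ => And.left)
      (hv i) h10 (hw i) h11
    exact ⟨i, Subtype.ext (Prod.ext h12 h13)⟩

end SB

theorem card_adm_eq {H A C ι : Type*} [CommGroup H] [Finite H] [CommGroup A] [Finite A]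
    [CommGroup C] [Fintype ι] (h1 : Nat.card (H →* C) = Nat.card H)
    (h2 : Nat.card (A →* C) = Nat.card A)
    (α : ι → A →* H) (r : H →* ι → A) (hr : ∀ i a, r (α i a) = Pi.mulSingle i a) :
    Nat.card {z : (H →* C) × Set ι // ∀ j ∈ z.2, z.1.comp (α j) = 1} *
      Nat.card A ^ Fintype.card ι = Nat.card H * (Nat.card A + 1) ^ Fintype.card ι := by
  have : Finite (H →* C) := Nat.finite_of_card_ne_zero (h1 ▸ Nat.card_pos.ne')
  have : Finite (A →* C) := Nat.finite_of_card_ne_zero (h2 ▸ Nat.card_pos.ne')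
  have := Fintype.ofFinite (A →* C)
  let R : (H →* C) →* ι → A →* C := ⟨⟨fun χ i => χ.comp (α i), rfl⟩, fun _ _ => rfl⟩
  let σ : (ι → A →* C) → H →* C := fun f => ∏ i, (f i).comp ((Pi.evalMonoidHom _ i).comp r)
  have h3 : ∀ f, R (σ f) = f := fun f => funext fun i => MonoidHom.ext fun a => by
    simp only [R, σ, MonoidHom.coe_mk, OneHom.coe_mk, MonoidHom.comp_apply,
      MonoidHom.finsetProd_apply, hr, Pi.evalMonoidHom_apply]
    rw [prod_eq_single i (fun j _ h => by rw [Pi.mulSingle_eq_of_ne h, map_one]) (by simp),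
      Pi.mulSingle_eq_same]
  have h4 : Nat.card {χ // R χ = 1} * Nat.card A ^ Fintype.card ι = Nat.card H := by
    rw [← h1, ← h2, ← Nat.card_eq_fintype_card (α := ι), ← Nat.card_fun, ← Nat.card_prod]
    refine Nat.card_congr (Equiv.ofBijective (fun z => z.1 * σ z.2) ⟨fun z z' e => ?_, fun χ =>
      ⟨⟨⟨χ * (σ (R χ))⁻¹, by simp [h3]⟩, R χ⟩, inv_mul_cancel_right _ _⟩⟩)
    have h5 := congrArg R e
    simp only [map_mul, h3, z.1.2, z'.1.2, one_mul] at h5
    exact Prod.ext (Subtype.ext (by simpa [h5] using e)) h5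
  rw [← h4, mul_right_comm]
  congr 1
  rw [← h2, ← Finite.card_option, ← Nat.card_eq_fintype_card (α := ι), ← Nat.card_fun,
    ← Nat.card_prod]
  refine Nat.card_congr (Equiv.ofBijective (fun z =>
    ⟨(z.1 * σ fun i => (z.2 i).getD 1, {j | z.2 j = none}), fun j (hj : z.2 j = none) => ?g1⟩)
      ⟨?g2, ?g3⟩).symm
  case g1 =>
    change R _ j = 1
    rw [map_mul, h3, z.1.2, one_mul, hj]; rfl
  case g2 =>
    rintro ⟨χ, f⟩ ⟨χ', f'⟩ e
    simp only [Subtype.mk.injEq, Prod.mk.injEq] at e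
    have h5 := congrArg R e.1
    rw [map_mul, map_mul, h3, h3, χ.2, χ'.2, one_mul, one_mul] at h5
    obtain rfl : f = f' := funext fun i => by
      have h6 : f i = none ↔ f' i = none := Set.ext_iff.mp e.2 i
      have h7 := congrFun h5 i
      cases h8 : f i <;> cases h9 : f' i <;> simp_all
    exact Prod.ext (Subtype.ext (mul_right_cancel e.1)) rfl
  case g3 =>
    rintro ⟨⟨χ, J⟩, h⟩
    have h5 : (fun i => (if i ∈ J then none else some (R χ i)).getD 1) = R χ := funext fun i => by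
      split_ifs with hi
      exacts [(h i hi).symm, rfl]
    refine ⟨⟨⟨χ * (σ (R χ))⁻¹, by simp [h3]⟩, fun i => if i ∈ J then none else some (R χ i)⟩,
      Subtype.ext (Prod.ext ?_ ?_)⟩
    · simp only [h5, inv_mul_cancel_right]
    · simp

theorem SB.Par.card_reg {p : ℕ} [hp : Fact p.Prime] {G : Type*} [Group G] [Fintype G] {W : Type*}
    [Group W] [Fintype W] {ι : Type*} [Fintype ι] {S : SB p G W ι} {A : Type*} [CommGroup A]
    [Fintype A] (Q : S.Par A) (hA : ¬ p ∣ Nat.card A) (r : S.H →* ι → A)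
    (hr : ∀ i a, r (Q.α i a) = Pi.mulSingle i a) :
    Nat.card {c : ConjClasses G // ∃ g, ConjClasses.mk g = c ∧ (orderOf g).Coprime p} *
      Nat.card A ^ Fintype.card ι = Nat.card S.H * (Nat.card A + 1) ^ Fintype.card ι := by
  obtain ⟨M, hM⟩ := exists_isPModular hp.out
  obtain ⟨T⟩ := exists_ms M G
  have := charP_F hM
  have := isAlgClosed_F M
  let _ := S.commH
  simp only [Nat.coprime_comm, hp.out.coprime_iff_not_dvd]
  rw [H23.card_reg hM T, ← Q.card_adm T.S.pos T.π (fun x =>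
    let ⟨y, e⟩ := T.S.surj x; ⟨_, (T.hρ y).symm.trans e⟩) T.nil]
  exact card_adm_eq (card_dual SB.card_H_ne)
    (card_dual ((CharP.cast_eq_zero_iff _ p _).not.mpr hA)) Q.α r hr

end Cfsg.Agent.H23
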