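import Mathlib
import Cfsg.Agent.H23.Brc
import Cfsg.Agent.H23.BlkC
import Cfsg.Agent.H23.MatB
import Cfsg.Agent.Chev.Smith

/-! The number of semisimple classes of Chevalley groups and linear groups. -/

set_option autoImplicit false
set_option linter.unusedSectionVars false

namespace Cfsg.Agent.H23
open Cfsg.Lie Cfsg.Agent.Chev Finset
open scoped _root_.Classical

theorem not_dvd_card_units {F : Type*} [Field F] [Finite F] (p : ℕ) [Fact p.Prime] [CharP F p] :
    ¬ p ∣ Nat.card Fˣ := fun h => by
  have := Fintype.ofFinite F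
  have h2 := (CharP.cast_eq_zero_iff F p _).mpr h
  simp [Fintype.card_units, Nat.cast_sub Fintype.card_pos] at h2

theorem card_units_succ {F : Type*} [Field F] [Finite F] : Nat.card Fˣ + 1 = Nat.card F := by
  rw [Nat.card_units, Nat.sub_add_cancel Nat.card_pos]

theorem st_card_reg {D : ChevalleyDatum} [g : Good2 D] {F : Type*} [Field F] {G : Type*} [Group G]
    [Finite F] (p : ℕ) [Fact p.Prime] [CharP F p] {S : StSys D F G} (hS : S.grp = ⊤) (h3 : S.R3)
    (h : Function.Injective h3.hT) :
    Nat.card {c : ConjClasses G // ∃ g, ConjClasses.mk g = c ∧ (orderOf g).Coprime p} =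
      Nat.card F ^ D.rank := by
  have := finite_of_top hS h3
  have := Fintype.ofFinite G
  have := Fintype.ofFinite F
  let e := (MonoidHom.ofInjective h).trans (MulEquiv.subgroupCongr h3.range_hT)
  have h1 := (parOf p hS h3).card_reg (not_dvd_card_units p) e.symm.toMonoidHom fun i a =>
    e.symm_apply_eq.mpr (Subtype.ext (by
      change h3.hT _ = h3.hT _
      congr 1
      ext j
      by_cases hj : j = i <;> simp [hj]))
  rw [card_units_succ, show Nat.card (sbOf p S hS h3).H = _ from (Nat.card_congr e.toEquiv).symm,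
    Nat.card_fun, Nat.card_eq_fintype_card (α := Ix D), mul_comm, Fintype.card_fin] at h1
  exact Nat.eq_of_mul_eq_mul_left (pow_pos Nat.card_pos _) h1

theorem ch_card_reg {D : ChevalleyDatum} [g : Good2 D] {F : Type*} [Field F] [Finite F] (p : ℕ)
    [Fact p.Prime] [CharP F p] (h : Nat.card (pw Fˣ (cartanM D)).ker = 1) :
    Nat.card {c : ConjClasses (D.group F) // ∃ g, ConjClasses.mk g = c ∧ (orderOf g).Coprime p} =
      Nat.card F ^ D.rank :=
  st_card_reg p ch_grp ch_R3 ((injective_iff_map_eq_one _).mpr fun c hc =>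
    (Subgroup.card_eq_one.mp h).le ((ch_R3.θ_hT_eq_one c).mp (by rw [hc, map_one])))

namespace MG
variable {m : ℕ} {G : Type*} [Group G] {F : Type*} [Field F] (Γ : MG G m F)

/-- diagonal entries -/
noncomputable def dE : Γ.H →* Fin (m + 1) → Fˣ where
  toFun h k := Units.mk0 _ (M.ne_zero h.2 k)
  map_one' := funext fun k => Units.ext (by simp)
  map_mul' a b := funext fun k => Units.ext (H_mul_apply b.2 k k)

theorem dE_inj : Function.Injective Γ.dE := fun a b e =>
  Subtype.ext (M.ext a.2 b.2 fun k => congrArg Units.val (congrFun e k))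

theorem card_reg [Fintype G] [Finite F] (p : ℕ) [Fact p.Prime] [CharP F p] :
    Nat.card {c : ConjClasses G // ∃ g, ConjClasses.mk g = c ∧ (orderOf g).Coprime p} *
      Nat.card Fˣ ^ m = Nat.card Γ.H * Nat.card F ^ m := by
  have := Fintype.ofFinite F
  let r : Γ.H →* Fin m → Fˣ := ⟨⟨fun h i => ∏ k with k ≤ i.castSucc, Γ.dE h k, by ext; simp⟩,
      fun a b => by ext1; simp [prod_mul_distrib]⟩
  have h1 := (Γ.par p).card_reg (not_dvd_card_units p) r fun i a => funext fun j => Units.ext (by
        refine ((map_prod (Units.coeHom F) _ _).trans (prod_congr rfl (g := fun k =>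
          (if k = i.castSucc then (a : F) else 1) * if k = i.succ then (a : F)⁻¹ else 1)
          fun k _ => (α_apply _ a k).trans (by
            by_cases h1 : k = i.castSucc <;> simp [h1, Fin.castSucc_lt_succ.ne]))).trans ?_
        rw [prod_mul_distrib]
        rcases lt_trichotomy i j with h | rfl | h
        · simp [h.le, h.ne', Fin.succ_le_castSucc_iff, h]
        · simp
        · simp [h.not_ge, h.ne, Fin.succ_le_castSucc_iff, h.not_gt])
  rwa [card_units_succ, Fintype.card_fin] at h1

end MG

theorem gl_card_H (m : ℕ) (F : Type*) [Field F] : Nat.card (glMG m F).H = Nat.card Fˣ ^ (m + 1) := by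
  rw [Nat.card_congr (Equiv.ofBijective _ ⟨(glMG m F).dE_inj, fun d => ?_⟩), Nat.card_fun,
    Nat.card_fin]
  refine ⟨⟨Matrix.GeneralLinearGroup.mkOfDetNeZero (Matrix.diagonal fun i => d i)
    (by simp [prod_ne_zero_iff]), fun i j h => Matrix.diagonal_apply_ne _ h⟩, ?_⟩
  exact funext fun k => Units.ext (Matrix.diagonal_apply_eq _ k)

theorem sl_card_H (m : ℕ) (F : Type*) [Field F] : Nat.card (slMG m F).H = Nat.card Fˣ ^ m := by
  have h1 : ∀ h, ∏ k, (slMG m F).dE h k = 1 := fun h => Units.ext (by
    have := h.1.2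
    rw [show h.1.1 = _ from MG.φ_H h.2, Matrix.det_diagonal] at this
    simpa [MG.dE] using this)
  rw [Nat.card_congr (Equiv.ofBijective (fun h => Fin.tail ((slMG m F).dE h)) ⟨fun a b e =>
    (slMG m F).dE_inj ?_, fun d => ?_⟩), Nat.card_fun, Nat.card_fin]
  · have h2 := (h1 a).trans (h1 b).symm
    rw [Fin.prod_univ_succ, Fin.prod_univ_succ] at h2
    exact funext (Fin.cases (mul_right_cancel (h2.trans (congrArg _ (prod_congr rfl fun i _ =>
      (congrFun e i).symm)))) (congrFun e))
  · refine ⟨⟨⟨Matrix.diagonal fun i => Fin.cons (α := fun _ => Fˣ) (∏ i, d i)⁻¹ d i, ?_⟩,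
      fun i j h => Matrix.diagonal_apply_ne _ h⟩, ?_⟩
    · simp [Fin.prod_univ_succ, prod_ne_zero_iff]
    · exact funext fun k => Units.ext (Matrix.diagonal_apply_eq _ k.succ)

end Cfsg.Agent.H23
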