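import Mathlib
import Cfsg.Agent.S4106
import Cfsg.Agent.Char.Central
import Cfsg.Agent.Transfer.Wielandt
import Cfsg.Agent.Transfer.Abelian

/-!
# Counting conjugacy classes that meet a given set
-/

set_option autoImplicit false

namespace Cfsg.Agent.H23.Cnt

open Subgroup Cfsg.Agent.BG Cfsg.Agent.BG.Amb Cfsg.Agent.FGS
open scoped _root_.Classical Pointwise

section Part

variable {π ρ : Set ℕ} {m n k : ℕ}

/-- The `π`-part of a natural number. -/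
noncomputable def pp (π : Set ℕ) (n : ℕ) : ℕ :=
  if h : n = 0 then 1 else (exists_pi_factor π h).choose

theorem pp_spec (π : Set ℕ) (hn : n ≠ 0) :
    ∃ b, n = pp π n * b ∧ IsPiNat π (pp π n) ∧ IsPiNat πᶜ b := by
  rw [pp, dif_neg hn]
  exact (exists_pi_factor π hn).choose_spec

theorem pp_dvd (π : Set ℕ) (hn : n ≠ 0) : pp π n ∣ n :=
  let ⟨b, h, _⟩ := pp_spec π hn
  ⟨b, h⟩

theorem pp_pos (π : Set ℕ) (hn : n ≠ 0) : 0 < pp π n :=
  Nat.pos_of_dvd_of_pos (pp_dvd π hn) (Nat.pos_of_ne_zero hn)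

theorem pp_pi (π : Set ℕ) (hn : n ≠ 0) : IsPiNat π (pp π n) :=
  let ⟨_, _, h, _⟩ := pp_spec π hn
  h

theorem dvd_pp (hn : n ≠ 0) (hk : IsPiNat π k) (h : k ∣ n) : k ∣ pp π n :=
  let ⟨_, h1, _, h3⟩ := pp_spec π hn
  piNat_dvd_of_dvd_mul hk h3 (h1 ▸ h)

theorem pp_eq {a b : ℕ} (hn : n ≠ 0) (h : n = a * b) (ha : IsPiNat π a) (hb : IsPiNat πᶜ b) :
    pp π n = a :=
  Nat.dvd_antisymm (piNat_dvd_of_dvd_mul (pp_pi π hn) hb (h ▸ pp_dvd π hn))
    (dvd_pp hn ha ⟨b, h⟩)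

theorem pp_dvd_pp (hn : n ≠ 0) (h : m ∣ n) : pp π m ∣ pp π n :=
  have hm : m ≠ 0 := fun e => hn (Nat.eq_zero_of_zero_dvd (e ▸ h))
  dvd_pp hn (pp_pi π hm) ((pp_dvd π hm).trans h)

theorem pp_mul (hm : m ≠ 0) (hn : n ≠ 0) : pp π (m * n) = pp π m * pp π n := by
  obtain ⟨a, h1, h2, h3⟩ := pp_spec π hm
  obtain ⟨b, h4, h5, h6⟩ := pp_spec π hn
  refine pp_eq (b := a * b) (mul_ne_zero hm hn) ?_ (piNat_mul h2 h5) (piNat_mul h3 h6)
  rw [mul_mul_mul_comm, ← h1, ← h4]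

theorem pp_split (π ρ : Set ℕ) (hn : n ≠ 0) : pp π n = pp (π ∩ ρ) n * pp (π ∩ ρᶜ) n := by
  obtain ⟨b, h1, h2, h3⟩ := pp_spec π hn
  obtain ⟨c, h4, h5, h6⟩ := pp_spec ρ (pp_pos π hn).ne'
  have h7 := piNat_mul_iff.1 (h4 ▸ h2)
  rw [pp_eq (π := π ∩ ρ) (b := c * b) hn (by rw [← mul_assoc, ← h4, ← h1]) (piNat_inter h7.1 h5)
    (piNat_mul (piNat_mono (Set.compl_subset_compl.2 Set.inter_subset_right) h6)
      (piNat_mono (Set.compl_subset_compl.2 Set.inter_subset_left) h3)),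
    pp_eq (π := π ∩ ρᶜ) (a := c) (b := pp ρ (pp π n) * b) hn
      (by rw [← mul_assoc, mul_comm c, ← h4, ← h1]) (piNat_inter h7.2 h6)
      (piNat_mul (piNat_mono (Set.subset_compl_comm.1 Set.inter_subset_right) h5)
        (piNat_mono (Set.compl_subset_compl.2 Set.inter_subset_left) h3)),
    ← h4]

theorem mul_le_of_dvd_of_ne {p : ℕ} (hn : n ≠ 0) (hp : ∀ q : ℕ, q.Prime → q ∣ n → p ≤ q)
    (h : m ∣ n) (hne : m ≠ n) : p * m ≤ n := by
  obtain ⟨c, rfl⟩ := h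
  have hc : c ≠ 1 := fun e => hne (by rw [e, mul_one])
  rw [mul_comm]
  exact Nat.mul_le_mul_left _ ((hp _ (Nat.minFac_prime hc) ((Nat.minFac_dvd c).mul_left m)).trans
    (Nat.minFac_le (Nat.pos_of_ne_zero (right_ne_zero_of_mul hn))))

end Part

variable {G : Type*} [Group G] [Finite G] {π ρ : Set ℕ}

theorem pp_card {H : Subgroup G} (h : IsPiHall π H) : pp π (Nat.card G) = Nat.card H :=
  pp_eq Nat.card_pos.ne' H.card_mul_index.symm h.1 (piNat_compl_iff.2 h.2)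

theorem isPiHall_of_card {H : Subgroup G} (h : Nat.card H = pp π (Nat.card G)) : IsPiHall π H := by
  obtain ⟨b, h1, h2, h3⟩ := pp_spec π (Nat.card_pos (α := G)).ne'
  refine ⟨h ▸ h2, piNat_compl_iff.1 ?_⟩
  rw [← h, ← H.card_mul_index] at h1
  rwa [Nat.eq_of_mul_eq_mul_left Nat.card_pos h1]

theorem sylow_hall {q : ℕ} [hq : Fact q.Prime] (Q : Sylow q G) : IsPiHall {q} (Q : Subgroup G) :=
  ⟨pi_of_isPGroup Q.2 rfl, fun _ _ h => h ▸ Q.not_dvd_index⟩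

theorem kpi_le_pp (π : Set ℕ) (G : Type*) [Group G] [Finite G] : kpi π G ≤ pp π (Nat.card G) :=
  S4106.aux _ G π (pp_pos π Nat.card_pos.ne') fun _ hq hq' k hk =>
    dvd_pp Nat.card_pos.ne' (piNat_pow ((piNat_prime hq').2 hq) k) hk

theorem kpi_le_mul_pp (π ρ : Set ℕ) : kpi π G ≤ kpi (π ∩ ρ) G * pp (π ∩ ρᶜ) (Nat.card G) :=
  kpi_le_mul_of_centralizer π ρ fun _ => (kpi_le_pp _ _).trans (Nat.le_of_dvd
    (pp_pos _ Nat.card_pos.ne') (pp_dvd_pp Nat.card_pos.ne' (card_subgroup_dvd_card _)))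

/-- A lower bound for the proportion of classes of `π`-elements passes to subsets of `π`. -/
theorem lt_of_subset (h : ρ ⊆ π) {a b : ℕ} (hab : a * pp π (Nat.card G) < b * kpi π G) :
    a * pp ρ (Nat.card G) < b * kpi ρ G := by
  have h1 := kpi_le_mul_pp (G := G) π ρ
  rw [pp_split π ρ Nat.card_pos.ne'] at hab
  rw [Set.inter_eq_right.2 h] at h1 hab
  refine Nat.lt_of_mul_lt_mul_right (a := pp (π ∩ ρᶜ) (Nat.card G)) ?_
  rw [mul_assoc, mul_assoc]
  exact hab.trans_le (Nat.mul_le_mul_left _ h1)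

/-- The number of conjugacy classes that meet a set. -/
noncomputable def kS (S : Set G) : ℕ := (ConjClasses.mk '' S).ncard

variable {S T : Set G}

omit [Finite G] in
theorem card_eq_kS {P : ConjClasses G → Prop} (h : ∀ x, P (ConjClasses.mk x) ↔ x ∈ S) :
    Nat.card {c // P c} = kS S := by
  refine congrArg Set.ncard (?_ : {c | P c} = _)
  ext c
  obtain ⟨x, rfl⟩ := ConjClasses.exists_rep c
  exact ⟨fun hx => ⟨x, (h x).1 hx, rfl⟩, fun ⟨y, hy, e⟩ => e ▸ (h y).2 hy⟩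

omit [Finite G] in
theorem kpi_eq : kpi π G = kS {x : G | IsPiNat π (orderOf x)} := card_eq_kS fun _ => kpi_pred_mk

theorem card_eq_kpi {P : ℕ → Prop} (h : ∀ n, n ≠ 0 → (P n ↔ IsPiNat π n)) :
    Nat.card {c : ConjClasses G // ∀ x ∈ c.carrier, P (orderOf x)} = kpi π G := by
  rw [kpi_eq]
  refine card_eq_kS fun x => ⟨fun hx => (h _ (orderOf_pos x).ne').1 (hx x ConjClasses.mem_carrier_mk),
    fun hx y hy => (h _ (orderOf_pos y).ne').2 ?_⟩
  obtain ⟨g, rfl⟩ := isConj_iff.1 (ConjClasses.mk_eq_mk_iff_isConj.1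
    (ConjClasses.mem_carrier_iff_mk_eq.1 hy)).symm
  exact piElem_conj hx

omit [Finite G] in
theorem kS_univ : kS (Set.univ : Set G) = Nat.card (ConjClasses G) := by
  rw [kS, Set.image_univ, ConjClasses.mk_surjective.range_eq, Set.ncard_univ]

theorem kS_le_of_conj (h : ∀ x ∈ S, ∃ y ∈ T, IsConj x y) : kS S ≤ kS T := by
  refine Set.ncard_le_ncard ?_
  rintro _ ⟨x, hx, rfl⟩
  obtain ⟨y, hy, e⟩ := h x hx
  exact ⟨y, hy, (ConjClasses.mk_eq_mk_iff_isConj.2 e).symm⟩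

omit [Finite G] in
theorem kS_union_le (S T : Set G) : kS (S ∪ T) ≤ kS S + kS T := by
  rw [kS, Set.image_union]
  exact Set.ncard_union_le _ _

theorem kS_le_ncard (S : Set G) : kS S ≤ S.ncard := Set.ncard_image_le

theorem mul_kS_le {r : ℕ} (h : ∀ x ∈ S, r ≤ {y ∈ S | IsConj x y}.ncard) : r * kS S ≤ S.ncard := by
  have hS := Set.toFinite S
  rw [kS, ← hS.coe_toFinset, ← Finset.coe_image, Set.ncard_coe_finset, Set.ncard_coe_finset]
  refine Finset.mul_card_image_le_card _ _ fun c hc => ?_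
  obtain ⟨x, hx, rfl⟩ := Finset.mem_image.1 hc
  refine (h x (hS.mem_toFinset.1 hx)).trans_eq ?_
  rw [← Set.ncard_coe_finset]
  congr 1
  ext y
  simp only [Finset.coe_filter, hS.mem_toFinset, ConjClasses.mk_eq_mk_iff_isConj,
    isConj_comm (g := y), Set.mem_ofPred_eq]

theorem kS_mul_le {D : Subgroup G} {r : G} (hr : D ≤ centralizer {r}) (B : Set D) :
    kS ((fun b : D => r * b) '' B) ≤ kS B := by
  refine le_trans (Set.ncard_le_ncard ?_) (Set.ncard_image_le (s := ConjClasses.mk '' B)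
    (f := fun c => ConjClasses.mk (r * (c.out : D))))
  rintro _ ⟨_, ⟨b, hb, rfl⟩, rfl⟩
  refine ⟨_, ⟨b, hb, rfl⟩, ConjClasses.mk_eq_mk_iff_isConj.2 ?_⟩
  obtain ⟨d, hd⟩ := isConj_iff.1 (ConjClasses.mk_eq_mk_iff_isConj.1 (ConjClasses.mk b).out_eq)
  refine isConj_iff.2 ⟨d, ?_⟩
  rw [← mul_assoc, mem_centralizer_singleton_iff.1 (hr d.2), mul_assoc, mul_assoc, ← mul_assoc d.1]
  exact congrArg (fun z : D => r * z) hd

theorem kS_le_classes (H : Subgroup G) : kS (H : Set G) ≤ Nat.card (ConjClasses H) := by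
  rw [← kS_univ]
  refine le_trans (kS_le_of_conj fun x hx => ?_)
    (kS_mul_le (r := 1) (fun x _ => by simp [mem_centralizer_singleton_iff]) _)
  exact ⟨x, ⟨⟨x, hx⟩, trivial, one_mul x⟩, IsConj.refl x⟩

omit [Finite G] in
theorem exists_reps (S : Set G) : ∃ R ⊆ S, R.ncard ≤ kS S ∧ ∀ x ∈ S, ∃ r ∈ R, IsConj x r := by
  obtain ⟨R, h1, h2⟩ := (Set.surjOn_image ConjClasses.mk S).exists_subset_injOn_image_eq
  refine ⟨R, h1, by rw [kS, ← h2.2, h2.1.ncard_image], fun x hx => ?_⟩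
  obtain ⟨r, hr, e⟩ : ConjClasses.mk x ∈ ConjClasses.mk '' R := h2.2.symm ▸ ⟨x, hx, rfl⟩
  exact ⟨r, hr, ConjClasses.mk_eq_mk_iff_isConj.1 e.symm⟩

theorem kS_le_mul {R : Set G} {D : G → Subgroup G} {m : ℕ} (hD : ∀ r ∈ R, D r ≤ centralizer {r})
    (hm : ∀ r ∈ R, kpi ρ (D r) ≤ m)
    (h : ∀ x ∈ T, ∃ r ∈ R, ∃ b ∈ D r, IsPiNat ρ (orderOf b) ∧ IsConj x (r * b)) :
    kS T ≤ R.ncard * m := by
  induction R, Set.toFinite R using Set.Finite.induction_on generalizing T with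
  | empty =>
    rw [Set.eq_empty_of_forall_notMem (s := T) fun x hx => by simpa using h x hx]
    simp [kS]
  | @insert a R ha hR ih =>
    rw [Set.ncard_insert_of_notMem ha, add_mul, one_mul]
    refine (kS_le_of_conj (T := {x | ∃ r ∈ R, ∃ b ∈ D r, IsPiNat ρ (orderOf b) ∧ IsConj x (r * b)} ∪
      (fun b : D a => a * b) '' {b | IsPiNat ρ (orderOf b)}) fun x hx => ?_).trans
      ((kS_union_le _ _).trans (Nat.add_le_add (ih (fun r hr => hD r (Or.inr hr))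
        (fun r hr => hm r (Or.inr hr)) fun _ hx => hx)
        ((kS_mul_le (hD a (Or.inl rfl)) _).trans (kpi_eq.ge.trans (hm a (Or.inl rfl))))))
    obtain ⟨r, rfl | hr, b, hb, h1, h2⟩ := h x hx
    · exact ⟨_, Or.inr ⟨⟨b, hb⟩, by simpa using h1, rfl⟩, h2⟩
    · exact ⟨x, Or.inl ⟨r, hr, b, hb, h1, h2⟩, IsConj.refl x⟩

theorem le_ncard_orbit {A : Subgroup G} {r : ℕ} (hr : ∀ s : ℕ, s.Prime → s ∣ Nat.card A → r ≤ s)
    {x : G} (hx : x ∉ centralizer (A : Set G)) : r ≤ {y | ∃ a ∈ A, a * x * a⁻¹ = y}.ncard := by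
  have h1 := MulAction.index_stabilizer (A.map MulAut.conj) x
  have h2 : MulAction.orbit (A.map MulAut.conj) x = {y | ∃ a ∈ A, a * x * a⁻¹ = y} := by
    ext y
    exact ⟨fun ⟨⟨_, a, ha, rfl⟩, e⟩ => ⟨a, ha, e⟩, fun ⟨a, ha, e⟩ => ⟨⟨_, a, ha, rfl⟩, e⟩⟩
  rw [← h2, ← h1]
  have h3 : (MulAction.stabilizer (A.map MulAut.conj) x).index ≠ 1 := fun e => hx fun a ha => by
    have : a * x * a⁻¹ = x := (index_eq_one.1 e).ge (mem_top ⟨_, a, ha, rfl⟩)
    rwa [mul_inv_eq_iff_eq_mul] at this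
  exact (hr _ (Nat.minFac_prime h3) ((Nat.minFac_dvd _).trans ((index_dvd_card _).trans
    (card_map_dvd _ _)))).trans (Nat.minFac_le (Nat.pos_of_ne_zero index_ne_zero_of_finite))

theorem mul_kS_sdiff_le {H A : Subgroup G} (hA : A ≤ 𝐍(H)) {r : ℕ}
    (hr : ∀ s : ℕ, s.Prime → s ∣ Nat.card A → r ≤ s) :
    r * kS ((H : Set G) \ (H ⊓ 𝐂(A) :)) + Nat.card (H ⊓ 𝐂(A) :) ≤ Nat.card H := by
  have h3 := mul_kS_le (S := (H : Set G) \ (H ⊓ 𝐂(A) :)) (r := r) fun x hx =>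
    (le_ncard_orbit hr fun h => hx.2 ⟨hx.1, h⟩).trans (Set.ncard_le_ncard (by
      rintro _ ⟨a, ha, rfl⟩
      refine ⟨⟨(mem_normalizer_iff.1 (hA ha) x).1 hx.1, fun h => hx.2 ⟨hx.1, ?_⟩⟩,
        isConj_iff.2 ⟨a, rfl⟩⟩
      exact (mem_normalizer_iff.1 (le_norm_cent le_normalizer ha) x).2 h.2))
  exact (Nat.add_le_add_right h3 _).trans_eq (Set.ncard_sdiff_add_ncard_of_subset
    (s := ((H ⊓ 𝐂(A) :) : Set G)) (t := H) (inf_le_left (a := H)))

/-- The basic orbit count. -/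
theorem orbit_bound {H A : Subgroup G} (hA : A ≤ 𝐍(H)) {r : ℕ}
    (hr : ∀ s : ℕ, s.Prime → s ∣ Nat.card A → r ≤ s) :
    r * kS (H : Set G) + Nat.card (H ⊓ 𝐂(A) :) ≤ r * Nat.card (H ⊓ 𝐂(A) :) + Nat.card H := by
  have h1 := kS_union_le ((H ⊓ 𝐂(A) :) : Set G) ((H : Set G) \ (H ⊓ 𝐂(A) :))
  rw [Set.union_sdiff_cancel (by exact inf_le_left (a := H))] at h1
  have h2 : _ ≤ Nat.card (H ⊓ 𝐂(A) :) := kS_le_ncard ((H ⊓ 𝐂(A) :) : Set G)
  have h3 := mul_kS_sdiff_le hA hr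
  have h5 := Nat.mul_le_mul_left r (h1.trans (Nat.add_le_add_right h2 _))
  rw [mul_add] at h5
  omega

theorem mul_card_le_of_lt {H K : Subgroup G} {p : ℕ} (hp : ∀ q : ℕ, q.Prime → q ∣ Nat.card K → p ≤ q)
    (h : H < K) : p * Nat.card H ≤ Nat.card K :=
  mul_le_of_dvd_of_ne Nat.card_pos.ne' hp (card_dvd_of_le h.le) (Core.card_lt_of_lt h).ne

theorem sq_mul_center_le {H : Subgroup G} {p : ℕ} (hp : ∀ q : ℕ, q.Prime → q ∣ Nat.card H → p ≤ q)
    (h : ¬ IsMulCommutative H) : p ^ 2 * Nat.card (H ⊓ 𝐂(H) :) ≤ Nat.card H := by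
  rw [isMulCommutative_iff_forall] at h
  push Not at h
  obtain ⟨x, hx, y, hy, hxy⟩ := h
  have h1 : H ⊓ 𝐂[x] < H := lt_of_le_of_ne inf_le_left fun e =>
    hxy (mem_centralizer_singleton_iff.1 (e.ge hy).2).symm
  have h2 : H ⊓ 𝐂(H) < H ⊓ 𝐂[x] := lt_of_le_of_ne (inf_le_inf_left _ (centralizer_le (by simpa)))
    fun e => hxy ((e.ge ⟨hx, self_mem_centralizer x⟩).2 y hy).symm
  rw [sq, mul_assoc]
  exact (Nat.mul_le_mul_left _ (mul_card_le_of_lt (fun q hq hd => hp q hq (hd.trans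
    (card_dvd_of_le inf_le_left))) h2)).trans (mul_card_le_of_lt hp h1)

theorem comm_of_lt {H : Subgroup G} {p : ℕ} (hp : ∀ q : ℕ, q.Prime → q ∣ Nat.card H → p ≤ q)
    (h : Nat.card H * (p ^ 2 + p - 1) < p ^ 3 * kS (H : Set G)) : IsMulCommutative H := by
  by_contra hc
  have h1 := sq_mul_center_le hp hc
  have h2 := orbit_bound (H := H) le_normalizer hp
  obtain rfl | ⟨t, rfl⟩ : p = 0 ∨ ∃ t, p = t + 1 := by cases p <;> simp
  · simp at h
  rw [show (t + 1) ^ 2 + (t + 1) - 1 = (t + 1) ^ 2 + t from rfl] at h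
  nlinarith [Nat.mul_le_mul_left ((t + 1) ^ 2) h2, Nat.mul_le_mul_left t h1]

theorem card_commutator_le {p : ℕ} (hp : ∀ q : ℕ, q.Prime → q ∣ Nat.card G → p ≤ q)
    (h : Nat.card G < p * Nat.card (ConjClasses G)) : Nat.card (commutator G) ≤ p := by
  have := Fintype.ofFinite G
  choose d hd hd' using fun χ : IrrCharacter G => Char.isIrr_degree χ.2
  have h1 : ∑ χ, d χ ^ 2 = Nat.card G := by
    have := Char.sum_irr_one_sq (G := G)
    simp only [hd'] at this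
    exact_mod_cast this
  have h2 := Char.card_irr_degree_one (G := G)
  rw [Nat.card_eq_fintype_card, Fintype.card_subtype] at h2
  have h3 : p ^ 2 * Nat.card (ConjClasses G) + (commutator G).index ≤
      Nat.card G + p ^ 2 * (commutator G).index := by
    rw [← Char.card_irr_eq_card_conjClasses, ← h1, ← h2, Finset.card_filter, Finset.mul_sum,
      Nat.card_eq_fintype_card, ← Finset.card_univ, Finset.card_eq_sum_ones, Finset.mul_sum,
      ← Finset.sum_add_distrib, ← Finset.sum_add_distrib]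
    refine Finset.sum_le_sum fun χ _ => ?_
    split_ifs with e
    · rw [hd'] at e
      rw [show d χ = 1 by exact_mod_cast e]
      omega
    · have e' : d χ ≠ 1 := fun e' => e (by rw [hd', e', Nat.cast_one])
      have := (hp _ (Nat.minFac_prime e') ((Nat.minFac_dvd _).trans
        (Char.isIrr_degree_dvd_card χ.2 (hd' χ)))).trans (Nat.minFac_le (hd χ))
      simpa using Nat.pow_le_pow_left this 2
  have h4 : Nat.card (ConjClasses G) ≤ Nat.card G :=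
    Nat.card_le_card_of_surjective _ ConjClasses.mk_surjective
  rw [← (commutator G).card_mul_index] at h h3 h4
  have h5 : 0 < (commutator G).index := Nat.pos_of_ne_zero index_ne_zero_of_finite
  generalize (commutator G).index = l at *
  generalize Nat.card (commutator G) = c at *
  generalize Nat.card (ConjClasses G) = k at *
  obtain ⟨t, rfl⟩ : ∃ t, p = t + 2 := ⟨p - 2, by
    have : ¬ p ≤ 1 := fun e => by nlinarith
    omega⟩
  by_contra hc
  obtain ⟨u, rfl⟩ : ∃ u, c = t + 3 + u := ⟨c - (t + 3), by omega⟩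
  nlinarith [Nat.mul_le_mul_left (t + 2) h, Nat.zero_le (u * l * t), Nat.zero_le (u * l)]

theorem le_center_of_card_le {p : ℕ} (hp : ∀ q : ℕ, q.Prime → q ∣ Nat.card G → p ≤ q)
    {N : Subgroup G} [hN : N.Normal] (h : Nat.card N ≤ p) : N ≤ center G := fun x hx => by
  by_contra hc
  have h1 := le_ncard_orbit (A := ⊤) (r := p) (by simpa using hp) (x := x)
    (by simpa [centralizer_univ] using hc)
  have h2 : {y | ∃ a ∈ (⊤ : Subgroup G), a * x * a⁻¹ = y} ⊂ (N : Set G) := by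
    refine ⟨by rintro _ ⟨a, -, rfl⟩; exact hN.conj_mem x hx a, fun e => ?_⟩
    obtain ⟨a, -, ha⟩ := e N.one_mem
    rw [conj_eq_one_iff] at ha
    exact hc (ha ▸ one_mem _)
  exact (Set.ncard_lt_ncard h2).not_ge (h.trans h1)

theorem nilpotent_of_lt {p : ℕ} (hp : ∀ q : ℕ, q.Prime → q ∣ Nat.card G → p ≤ q)
    (h : Nat.card G < p * Nat.card (ConjClasses G)) : Group.IsNilpotent G :=
  Subgroup.nilpotent_iff_lowerCentralSeries.2 ⟨2, commutator_eq_bot_iff_le_centralizer.2 (by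
    rw [coe_top, centralizer_univ]
    exact le_center_of_card_le hp (card_commutator_le hp h))⟩

theorem classes_le_kS {H : Subgroup G}
    (h : ∀ x ∈ H, ∀ g : G, g * x * g⁻¹ ∈ H → ∃ v ∈ H, v * x * v⁻¹ = g * x * g⁻¹) :
    Nat.card (ConjClasses H) ≤ kS (H : Set G) := by
  rw [← Set.ncard_univ]
  refine Set.ncard_le_ncard_of_injOn (ConjClasses.map H.subtype) ?_ ?_
  · rintro ⟨x⟩ -
    exact ⟨x, x.2, rfl⟩
  · rintro ⟨x⟩ - ⟨y⟩ - e
    obtain ⟨g, hg⟩ := isConj_iff.1 (ConjClasses.mk_eq_mk_iff_isConj.1 e)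
    obtain ⟨v, hv, e'⟩ := h x x.2 g (hg ▸ y.2)
    exact ConjClasses.mk_eq_mk_iff_isConj.2 (isConj_iff.2 ⟨⟨v, hv⟩, Subtype.ext (e'.trans hg)⟩)

omit [Finite G] in
theorem card_classes_of_comm (h : IsMulCommutative G) : Nat.card (ConjClasses G) = Nat.card G :=
  (Nat.card_eq_of_bijective ConjClasses.mk ⟨fun x y e => by
    obtain ⟨g, rfl⟩ := isConj_iff.1 (ConjClasses.mk_eq_mk_iff_isConj.1 e)
    rw [h.is_comm.comm g, mul_inv_cancel_right], ConjClasses.mk_surjective⟩).symm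

end Cfsg.Agent.H23.Cnt
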