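import Mathlib
import Cfsg.Agent.H23.Cnt1
import Cfsg.Agent.FGS.EqOrd
import Cfsg.Agent.Transfer.ThompsonMin

/-!
# Classes of `p`-elements and normal `p`-complements
-/

set_option autoImplicit false

namespace Cfsg.Agent.H23.Cnt

open Subgroup Cfsg.Agent.BG Cfsg.Agent.BG.Amb Cfsg.Agent.FGS
open scoped _root_.Classical Pointwise commutatorElement

variable {G : Type*} [Group G] [Finite G] {π : Set ℕ} {q : ℕ} [hq : Fact q.Prime]

theorem le_of_dvd_card {Q : Subgroup G} (hQ : IsPGroup q Q) :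
    ∀ s : ℕ, s.Prime → s ∣ Nat.card Q → q ≤ s := fun s hs h =>
  (pi_of_isPGroup (π := {q}) hQ rfl s hs h).ge

theorem exists_conj_mem (Q : Sylow q G) {x : G} (hx : IsPiNat {q} (orderOf x)) :
    ∃ y ∈ (Q : Subgroup G), IsConj x y := by
  obtain ⟨g, hg⟩ := Transfer.exists_conj_mem_sylow Q (isPGroup_of_pi (pi_zpowers.2 hx))
  exact ⟨_, hg x (mem_zpowers x), isConj_iff.2 ⟨g, rfl⟩⟩

theorem kpi_eq_kS (Q : Sylow q G) : kpi {q} G = kS ((Q : Subgroup G) : Set G) := by
  rw [kpi_eq]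
  exact le_antisymm (kS_le_of_conj fun x hx => exists_conj_mem Q hx)
    (kS_le_of_conj fun x hx => ⟨x, piElem_of_mem (sylow_hall Q).1 hx, IsConj.refl x⟩)

theorem kpi_eq_of_npc (Q : Sylow q G) (h : HasNormalPComplement q G) :
    kpi {q} G = Nat.card (ConjClasses (Q : Subgroup G)) := by
  rw [kpi_eq_kS Q]
  exact le_antisymm (kS_le_classes _) (classes_le_kS fun x hx g hg =>
    Transfer.control_of_isComplement' (Transfer.isComplement'_pResidual h Q) hx hg)

theorem exists_elt (Q : Sylow q G) (hc : IsMulCommutative (Q : Subgroup G))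
    (h : ¬ HasNormalPComplement q G) : ∃ (s k : ℕ) (g : G), s.Prime ∧ s ≠ q ∧ orderOf g = s ^ k ∧
      zpowers g ≤ 𝐍((Q : Subgroup G)) ∧ (Q : Subgroup G) ⊓ 𝐂(zpowers g) < Q := by
  by_contra hn
  push Not at hn
  refine h (Transfer.hasNormalPComplement_of_normalizer_le_centralizer Q
    (Transfer.le_of_forall_prime_pow_mem fun s hs _ g hg ⟨k, hk⟩ => ?_))
  by_cases e : s = q
  · subst e
    exact fun y hy => isMulCommutative_iff_forall.1 hc y hy g (mem_sylow_of_mem_normalizer Q hk hg)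
  · have := hn s k g hs e hk (zpowers_le.2 hg)
    rw [lt_iff_le_and_ne, not_and, not_not] at this
    exact fun y hy => (((this inf_le_left).ge hy).2 g (mem_zpowers g)).symm

omit [Finite G] hq in
theorem le_of_dvd_zpowers {g : G} {s k r : ℕ} (hs : s.Prime) (h : orderOf g = s ^ k) (hr : r ≤ s) :
    ∀ t : ℕ, t.Prime → t ∣ Nat.card (zpowers g) → r ≤ t := fun t ht hd => by
  rw [Nat.card_zpowers, h] at hd
  exact hr.trans ((Nat.prime_dvd_prime_iff_eq ht hs).1 (ht.dvd_of_dvd_pow hd)).ge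

theorem npc_of_lt (Q : Sylow q G) (h : (q + 1) * Nat.card (Q : Subgroup G) < 2 * q * kpi {q} G) :
    HasNormalPComplement q G ∧ IsMulCommutative (Q : Subgroup G) := by
  rw [kpi_eq_kS Q] at h
  have hc : IsMulCommutative (Q : Subgroup G) := by
    refine comm_of_lt (le_of_dvd_card Q.2) ?_
    obtain ⟨t, rfl⟩ : ∃ t, q = t + 2 := ⟨q - 2, by have := hq.out.two_le; omega⟩
    rw [show (t + 2) ^ 2 + (t + 2) - 1 = (t + 2) ^ 2 + (t + 1) from rfl]
    generalize Nat.card (Q : Subgroup G) = n at *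
    nlinarith [Nat.mul_le_mul_left ((t + 2) ^ 2) h, Nat.zero_le (t * t * t * n),
      Nat.zero_le (t * t * n), Nat.zero_le (t * n)]
  refine ⟨by_contra fun hn => ?_, hc⟩
  obtain ⟨s, k, g, hs, -, hk, h1, h2⟩ := exists_elt Q hc hn
  have h3 := orbit_bound h1 (le_of_dvd_zpowers hs hk hs.two_le)
  have h4 := mul_card_le_of_lt (le_of_dvd_card Q.2) h2
  nlinarith [Nat.mul_le_mul_left q h3]

theorem npc_two_of_comm (P : Sylow 2 G) (hc : IsMulCommutative (P : Subgroup G))
    (h : Nat.card (P : Subgroup G) < 2 * kpi {2} G) : HasNormalPComplement 2 G := by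
  rw [kpi_eq_kS P] at h
  by_contra hn
  obtain ⟨s, k, g, hs, hs2, hk, h1, h2⟩ := exists_elt P hc hn
  have h3 := orbit_bound h1 (le_of_dvd_zpowers hs hk (r := 3) (by have := hs.two_le; omega))
  have := Fact.mk hs
  have h4 := Transfer.card_modEq_card_inf_centralizer (isPGroup_zpowers hk) h1
  obtain ⟨t, ht⟩ := card_dvd_of_le h2.le
  have h5 := Core.card_lt_of_lt h2
  have h6 : ¬ s ∣ Nat.card ((P : Subgroup G) ⊓ 𝐂(zpowers g) :) := fun e =>
    hs2 ((sylow_hall P).1 s hs (e.trans (card_dvd_of_le inf_le_left)))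
  have h7 : t ≠ 3 := fun e => absurd ((sylow_hall P).1 3 Nat.prime_three ⟨_, by
    rw [ht, e, mul_comm]⟩) (by simp)
  generalize Nat.card ((P : Subgroup G) ⊓ 𝐂(zpowers g) :) = c at *
  rw [ht] at h h3 h4 h5
  have h8 : t ≠ 2 := by
    rintro rfl
    exact h6 (by simpa [mul_two] using (Nat.modEq_iff_dvd' (by omega)).1 h4.symm)
  obtain ⟨u, rfl⟩ : ∃ u, t = u + 4 := ⟨t - 4, by
    have : ¬ t ≤ 1 := fun e => by nlinarith
    omega⟩
  nlinarith [Nat.zero_le (c * u)]

theorem npc_two (P : Sylow 2 G) (h : Nat.card (P : Subgroup G) < 2 * kpi {2} G) :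
    HasNormalPComplement 2 G := by
  by_cases hc : IsMulCommutative (P : Subgroup G)
  · exact npc_two_of_comm P hc h
  have h1 : Nat.card (commutator (P : Subgroup G)) ≤ 2 := card_commutator_le (le_of_dvd_card P.2)
    (h.trans_le (Nat.mul_le_mul_left _ ((kpi_eq_kS P).trans_le (kS_le_classes _))))
  have h2 := le_center_of_card_le (le_of_dvd_card P.2) h1
  obtain ⟨D, hD⟩ : ∃ D, D = ⁅(P : Subgroup G), (P : Subgroup G)⁆ := ⟨_, rfl⟩
  have h3 : D = (commutator (P : Subgroup G)).map (P : Subgroup G).subtype :=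
    hD.trans (map_subtype_commutator _).symm
  have hDc : Nat.card D = 2 := by
    have : Nat.card D ≠ 1 := fun e => hc (der_eq_bot_iff.1 (hD ▸ card_eq_one.1 e))
    have := Nat.card_pos (α := D)
    rw [h3, card_subtype] at *
    omega
  have hDP : D ≤ P := h3 ▸ map_subtype_le _
  have hDZ : D ≤ 𝐂((P : Subgroup G)) := by
    rw [h3]
    rintro _ ⟨x, hx, rfl⟩ y hy
    exact congrArg Subtype.val (mem_center_iff.1 (h2 hx) ⟨y, hy⟩)
  obtain ⟨z, hz, hz2⟩ := exists_prime_orderOf_mem Nat.prime_two hDc.symm.dvd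
  have hz1 : z ≠ 1 := ne_one_of_orderOf_prime Nat.prime_two hz2
  have hDz : zpowers z = D := zpowers_eq_of_card_prime Nat.prime_two hDc hz hz1
  have huniq : ∀ x ∈ D, x ≠ 1 → x = z := fun x hx hx1 => by
    obtain ⟨y, -, hy⟩ := (Nat.card_eq_two_iff' (1 : D)).1 hDc
    exact congrArg Subtype.val ((hy ⟨x, hx⟩ (by simpa using hx1)).trans
      (hy ⟨z, hz⟩ (by simpa using hz1)).symm)
  have hN : ∀ v ∈ 𝐍(D), v * z * v⁻¹ = z := fun v hv =>
    huniq _ ((mem_normalizer_iff.1 hv z).1 hz) (by simpa using hz1)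
  by_cases hw : ∀ g : G, g * z * g⁻¹ ∈ (P : Subgroup G) → g * z * g⁻¹ = z
  · have hW : IsWeaklyClosed D (P : Subgroup G) := ⟨hDP, fun g hg => by
      rw [← hDz, MonoidHom.map_zpowers] at hg ⊢
      exact congrArg zpowers (hw g (zpowers_le.1 hg))⟩
    have hPN : (P : Subgroup G) ≤ 𝐍(D) := (le_centralizer_iff.1 hDZ).trans
      (centralizer_le_normalizer _)
    have hctl := fun x hx g hg => Transfer.control_of_isWeaklyClosed' hDZ hW (x := x) (g := g) hx hg
    refine Transfer.hasNormalPComplement_of_control P hPN hctl ?_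
    let E := D.subgroupOf 𝐍(D)
    have hE : Nat.card E = 2 := by
      rw [← hDc]
      exact Nat.card_congr (subgroupOfEquivOfLe le_normalizer).toEquiv
    refine Transfer.hasNormalPComplement_of_ker_le_center (QuotientGroup.mk' E) ?_ ?_
    · rw [QuotientGroup.ker_mk']
      intro x hx
      refine mem_center_iff.2 fun v => Subtype.ext ?_
      by_cases hx1 : (x : G) = 1
      · simp [hx1]
      · have := hN v v.2
        rw [← huniq x hx hx1, mul_inv_eq_iff_eq_mul] at this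
        exact this
    let R := (P.subtype hPN).mapSurjective (QuotientGroup.mk'_surjective E)
    have hR : (R : Subgroup (𝐍(D) ⧸ E)) = ((P : Subgroup G).subgroupOf 𝐍(D)).map
      (QuotientGroup.mk' E) := rfl
    refine npc_two_of_comm R ?_ ?_
    · rw [hR, ← der_eq_bot_iff, ← map_commutator, Subgroup.map_eq_bot_iff, QuotientGroup.ker_mk',
        commutator_le]
      exact fun a ha b hb => mem_subgroupOf.2 (hD.ge (commutator_mem_commutator ha hb))
    · have e1 : Nat.card (P : Subgroup G) = 2 * Nat.card (R : Subgroup (𝐍(D) ⧸ E)) := by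
        rw [hR, ← relIndex_ker, QuotientGroup.ker_mk', relIndex_subgroupOf hPN,
          PGrp.card_eq_card_mul_relIndex hDP, hDc]
      have e2 : kpi {2} G ≤ kpi {2} 𝐍(D) := by
        rw [kpi_eq_kS P, kpi_eq_kS (P.subtype hPN)]
        refine le_trans (kS_le_of_conj fun x hx => ?_)
          (kS_mul_le (r := 1) (fun x _ => by simp [mem_centralizer_singleton_iff]) _)
        exact ⟨x, ⟨⟨x, hPN hx⟩, hx, one_mul x⟩, IsConj.refl x⟩
      have e3 := kpi_le_mul {2} E
      have e4 : kpi {2} E ≤ 2 := (kpi_le_pp _ _).trans (Nat.le_of_dvd two_pos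
        ((pp_dvd _ Nat.card_pos.ne').trans hE.dvd))
      have e5 := Nat.mul_le_mul_right (kpi {2} (𝐍(D) ⧸ E)) e4
      omega
  · push Not at hw
    obtain ⟨g, hg, hgz⟩ := hw
    obtain ⟨c, hc, h4⟩ := Transfer.exists_conj_mem_sylow_of_le (P := P) (H := 𝐂[z])
      (A := MulAut.conj g⁻¹ • ((P : Subgroup G) ⊓ 𝐂((P : Subgroup G))))
      (fun x hx => mem_centralizer_singleton_iff.2 (hDZ hz x hx))
      (Transfer.isPGroup_conj_smul (P.2.to_inf_left) _) (by
        rw [Transfer.conj_smul_le_iff]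
        intro x hx
        have := hx.2 _ hg
        rw [mem_centralizer_singleton_iff, inv_inv]
        calc g⁻¹ * x * g * z = g⁻¹ * (x * (g * z * g⁻¹)) * g := by group
          _ = z * (g⁻¹ * x * g) := by rw [← this]; group)
    have h5 : ∀ u ∈ (P : Subgroup G) ⊓ 𝐂((P : Subgroup G)),
        (c * g⁻¹) * u * (c * g⁻¹)⁻¹ ∈ (P : Subgroup G) := fun u hu => by
      have := h4 _ (Transfer.conj_mem_conj_smul (g := g⁻¹) hu)
      simpa [mul_assoc] using this
    have h6 : (c * g⁻¹) * (g * z * g⁻¹) * (c * g⁻¹)⁻¹ = z := by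
      have := mem_centralizer_singleton_iff.1 hc
      calc _ = c * z * c⁻¹ := by group
        _ = z := by rw [this, mul_inv_cancel_right]
    generalize c * g⁻¹ = a at h5 h6
    let Z := (P : Subgroup G) ⊓ 𝐂((P : Subgroup G))
    let Z₀ := Z ⊓ MulAut.conj a⁻¹ • Z
    have h7 : Z₀ < Z := lt_of_le_of_ne inf_le_left fun e => by
      have e1 := Transfer.mem_conj_smul_iff.1 (e.ge (⟨hDP hz, hDZ hz⟩ : z ∈ Z)).2
      rw [inv_inv] at e1
      obtain ⟨b, hb, e2⟩ := Transfer.exists_smul_sylow_eq_of_le (P := a • P) (Q := P)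
        (H := 𝐂[a * z * a⁻¹]) (fun x hx => by
          have := hDZ hz _ (Transfer.mem_smul_sylow_iff.1 hx)
          rw [mem_centralizer_singleton_iff]
          calc x * (a * z * a⁻¹) = a * (a⁻¹ * x * a * z) * a⁻¹ := by group
            _ = _ := by rw [this]; group)
        (fun x hx => mem_centralizer_singleton_iff.2 (e1.2 x hx))
      rw [smul_smul, Sylow.smul_eq_iff_mem_normalizer] at e2
      have e3 := hN _ (hD ▸ le_norm_comm le_rfl le_rfl e2)
      have e4 := mem_centralizer_singleton_iff.1 hb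
      have e5 : a * z * a⁻¹ = z := by
        rw [← e3]
        nth_rw 1 [e3]
        calc _ = b * (a * z * a⁻¹) * b⁻¹ := by rw [e4, mul_inv_cancel_right]
          _ = _ := by group
      exact hgz (by simpa using h6.trans e5.symm)
    have h8 : 2 * Nat.card Z₀ ≤ Nat.card Z := mul_card_le_of_lt (le_of_dvd_card (P.2.to_inf_left)) h7
    have h9 := mul_kS_sdiff_le (H := (P : Subgroup G)) le_normalizer (le_of_dvd_card P.2)
    have h10 : kS ((P : Subgroup G) : Set G) ≤ Nat.card Z₀ + kS ((P : Subgroup G) \ Z : Set G) := by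
      refine le_trans (kS_le_of_conj fun x hx => ?_) ((kS_union_le _ _).trans
        (Nat.add_le_add_right (kS_le_ncard (Z₀ : Set G)) _))
      by_cases hx1 : x ∈ Z
      · by_cases hx2 : a * x * a⁻¹ ∈ Z
        · exact ⟨x, Or.inl ⟨hx1, Transfer.mem_conj_smul_iff.2 (by rwa [inv_inv])⟩, IsConj.refl x⟩
        · exact ⟨_, Or.inr ⟨h5 x hx1, hx2⟩, isConj_iff.2 ⟨a, rfl⟩⟩
      · exact ⟨x, Or.inr ⟨hx, hx1⟩, IsConj.refl x⟩
    rw [kpi_eq_kS P] at h
    exfalso
    change 2 * kS ((P : Subgroup G) \ Z : Set G) + Nat.card Z ≤ _ at h9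
    omega

end Cfsg.Agent.H23.Cnt
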