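import Mathlib

set_option autoImplicit false

namespace Cfsg.Agent.H23.A4Z

open Matrix Subgroup

theorem key {R : Type*} [CommRing R] (u a b c d : R) (hu : u * 3 = 1)
    (h1 : !![a, b; c, d] * !![a, b; c, d] = 1)
    (h2 : !![a, b; c, d] * (!![0, -1; 1, -1] * !![a, b; c, d] * !![-1, 1; -1, 0]) =
      !![-1, 1; -1, 0] * !![a, b; c, d] * !![0, -1; 1, -1])
    (h3 : (!![0, -1; 1, -1] * !![a, b; c, d] * !![-1, 1; -1, 0]) * !![a, b; c, d] =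
      !![-1, 1; -1, 0] * !![a, b; c, d] * !![0, -1; 1, -1]) :
    a + d = 2 ∧ b = c - (a - 1) ∧ 2 * (a - 1) = 0 ∧ 2 * c = 0 := by
  rw [one_fin_two] at h1
  simp only [mul_fin_two] at h1 h2 h3
  have e1 := congrFun (congrFun h1 0) 0
  have e2 := congrFun (congrFun h1 0) 1
  have e3 := congrFun (congrFun h1 1) 0
  have e4 := congrFun (congrFun h1 1) 1
  have f1 := congrFun (congrFun h2 0) 0
  have f2 := congrFun (congrFun h2 0) 1
  have f3 := congrFun (congrFun h2 1) 0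
  have f4 := congrFun (congrFun h2 1) 1
  have g1 := congrFun (congrFun h3 0) 0
  have g2 := congrFun (congrFun h3 0) 1
  have g3 := congrFun (congrFun h3 1) 0
  have g4 := congrFun (congrFun h3 1) 1
  simp at e1 e2 e3 e4 f1 f2 f3 f4 g1 g2 g3 g4
  clear h1 h2 h3
  refine ⟨?_, ?_, ?_, ?_⟩ <;> grind

variable {k : ℕ}

theorem unit_of (hk : 1 ≤ k) {a : ZMod (2 ^ k)}
    (h : ZMod.castHom (dvd_pow_self 2 (by omega : k ≠ 0)) (ZMod 2) a ≠ 0) : IsUnit a := by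
  rw [← ZMod.natCast_zmod_val a] at h ⊢
  rw [map_natCast, Ne, ZMod.natCast_eq_zero_iff] at h
  exact (ZMod.isUnit_iff_coprime _ _).2
    (((Nat.Prime.coprime_iff_not_dvd Nat.prime_two).2 h).symm.pow_right k)

theorem two_tors (hk : 1 ≤ k) {a : ZMod (2 ^ k)} (h : 2 * a = 0) : a = 0 ∨ a = 2 ^ (k - 1) := by
  obtain ⟨k, rfl⟩ : ∃ j, k = j + 1 := ⟨k - 1, by omega⟩
  have h1 := ZMod.val_lt a
  rw [← ZMod.natCast_zmod_val a] at h ⊢
  obtain ⟨c, hc⟩ := (ZMod.natCast_eq_zero_iff (2 * a.val) (2 ^ (k + 1))).1 (by simpa using h)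
  generalize a.val = x at h1 hc
  have h2 : x = 2 ^ k * c := by rw [pow_succ] at hc; linarith
  have : c < 2 := by rw [pow_succ, h2] at h1; exact lt_of_mul_lt_mul_left h1 (Nat.zero_le _)
  rw [h2]
  interval_cases c <;> simp

def r0 (R : Type*) [CommRing R] : GL (Fin 2) R :=
  ⟨!![0, -1; 1, -1], !![-1, 1; -1, 0], by simp [one_fin_two], by simp [one_fin_two]⟩

theorem conj_r0 (hk : 1 ≤ k) {ρ : GL (Fin 2) (ZMod (2 ^ k))} (h3 : ρ ^ 3 = 1) (h1 : ρ ≠ 1) :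
    ∃ g : GL (Fin 2) (ZMod (2 ^ k)), g * ρ * g⁻¹ = r0 _ := by
  let f := ZMod.castHom (dvd_pow_self 2 (by omega : k ≠ 0)) (ZMod 2)
  have h4 : ρ.1 ^ 3 = 1 := by rw [← Units.val_pow_eq_pow_val, h3, Units.val_one]
  have h5 : (f.mapMatrix ρ.1) ^ 3 = 1 := by rw [← map_pow, h4, map_one]
  have h6 : ∀ M : Matrix (Fin 2) (Fin 2) (ZMod 2), M ^ 3 = 1 →
      (M ^ 2 + M + 1).det ≠ 0 ∨ ((M - 1).det ≠ 0 ∧ M 1 0 ≠ 0) := by decide
  have h7 : (ρ.1 - 1) * (ρ.1 ^ 2 + ρ.1 + 1) = 0 := by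
    rw [← sub_eq_zero.2 h4]; noncomm_ring
  rcases h6 _ h5 with h | ⟨h, h'⟩
  · have : IsUnit (ρ.1 ^ 2 + ρ.1 + 1) := (isUnit_iff_isUnit_det _).2 (unit_of hk (by
      rwa [RingHom.map_det, map_add, map_add, map_pow, map_one]))
    exact absurd (Units.ext (sub_eq_zero.1 (this.mul_left_eq_zero.1 h7))) h1
  have h8 : IsUnit (ρ.1 - 1) := (isUnit_iff_isUnit_det _).2 (unit_of hk (by
    rwa [RingHom.map_det, map_sub, map_one]))
  have h9 := h8.mul_right_eq_zero.1 h7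
  obtain ⟨P, hP⟩ : IsUnit !![1, ρ.1 0 0; 0, ρ.1 1 0] := (isUnit_iff_isUnit_det _).2 (by
    simpa using unit_of hk h')
  refine ⟨P⁻¹, ?_⟩
  rw [inv_inv, mul_assoc, inv_mul_eq_iff_eq_mul]
  refine Units.ext ?_
  have e1 := congrFun (congrFun h9 0) 0
  have e2 := congrFun (congrFun h9 1) 0
  rw [Units.val_mul, Units.val_mul, hP]
  simp [pow_two, mul_apply] at e1 e2
  ext i j
  fin_cases i <;> fin_cases j <;> simp [r0, mul_apply]
  · linear_combination e1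
  · linear_combination e2

theorem fin {R : Type*} [CommRing R] {p r p' r' ε : R} (a : p = 0 ∨ p = ε) (b : r = 0 ∨ r = ε)
    (c : p' = 0 ∨ p' = ε) (d : r' = 0 ∨ r' = ε) (h1 : 2 * p = 0) (h2 : 2 * r = 0)
    (h : ¬ (p = 0 ∧ r = 0)) (h' : ¬ (p' = 0 ∧ r' = 0)) :
    (p' = p ∧ r' = r) ∨ (p' = r - p ∧ r' = -p) ∨ (p' = -r ∧ r' = p - r) := by
  grind

theorem conj_v (hk : 1 ≤ k) {v w : GL (Fin 2) (ZMod (2 ^ k))}
    (hv : v ≠ 1 ∧ v * v = 1 ∧ v * (r0 _ * v * (r0 _)⁻¹) = (r0 _)⁻¹ * v * r0 _ ∧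
      (r0 _ * v * (r0 _)⁻¹) * v = (r0 _)⁻¹ * v * r0 _)
    (hw : w ≠ 1 ∧ w * w = 1 ∧ w * (r0 _ * w * (r0 _)⁻¹) = (r0 _)⁻¹ * w * r0 _ ∧
      (r0 _ * w * (r0 _)⁻¹) * w = (r0 _)⁻¹ * w * r0 _) :
    w = v ∨ w = r0 _ * v * (r0 _)⁻¹ ∨ w = (r0 _)⁻¹ * v * r0 _ := by
  obtain ⟨u, hu⟩ : ∃ u : ZMod (2 ^ k), u * 3 = 1 :=
    (unit_of hk (a := 3) (by rw [map_ofNat]; decide)).exists_left_inv
  have H : ∀ v : GL (Fin 2) (ZMod (2 ^ k)), (v ≠ 1 ∧ v * v = 1 ∧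
      v * (r0 _ * v * (r0 _)⁻¹) = (r0 _)⁻¹ * v * r0 _ ∧
      (r0 _ * v * (r0 _)⁻¹) * v = (r0 _)⁻¹ * v * r0 _) → ∃ p r : ZMod (2 ^ k),
      v.1 = !![1 + p, r - p; r, 1 - p] ∧ 2 * p = 0 ∧ 2 * r = 0 ∧ ¬ (p = 0 ∧ r = 0) := by
    rintro v ⟨h1, h2, h3, h4⟩
    have e := eta_fin_two v.1
    obtain ⟨k1, k2, k3, k4⟩ := key u (v.1 0 0) (v.1 0 1) (v.1 1 0) (v.1 1 1) hu
      (by rw [← e]; exact congrArg Units.val h2) (by rw [← e]; exact congrArg Units.val h3)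
      (by rw [← e]; exact congrArg Units.val h4)
    have e' : v.1 = !![1 + (v.1 0 0 - 1), v.1 1 0 - (v.1 0 0 - 1); v.1 1 0, 1 - (v.1 0 0 - 1)] := by
      rw [← k2, show 1 - (v.1 0 0 - 1) = v.1 1 1 by linear_combination -k1, add_sub_cancel, ← e]
    refine ⟨_, _, e', k3, k4, fun h => h1 (Units.ext ?_)⟩
    rw [e', h.1, h.2]
    simp [one_fin_two]
  obtain ⟨p, r, e, h1, h2, h3⟩ := H v hv
  obtain ⟨p', r', e', h1', h2', h3'⟩ := H w hw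
  have k1 : (r0 _ * v * (r0 _)⁻¹).1 = !![1 + (r - p), -p - (r - p); -p, 1 - (r - p)] := by
    show !![0, -1; 1, -1] * v.1 * !![-1, 1; -1, 0] = _
    rw [e]; ext i j; fin_cases i <;> fin_cases j <;> simp <;> ring
  have k2 : ((r0 _)⁻¹ * v * r0 _).1 = !![1 + (-r), (p - r) - (-r); p - r, 1 - (-r)] := by
    show !![-1, 1; -1, 0] * v.1 * !![0, -1; 1, -1] = _
    rw [e]; ext i j; fin_cases i <;> fin_cases j <;> simp <;> ring
  have := fin (two_tors hk h1) (two_tors hk h2) (two_tors hk h1') (two_tors hk h2') h1 h2 h3 h3'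
  simp only [Units.ext_iff]
  rw [k1, k2, e, e']
  rcases this with ⟨h, h'⟩ | ⟨h, h'⟩ | ⟨h, h'⟩ <;> rw [h, h'] <;> simp

theorem gens {G : Type*} [Group G] {H : Subgroup G} (e : H ≃* alternatingGroup (Fin 4)) :
    ∃ ρ v : G, ρ ^ 3 = 1 ∧ ρ ≠ 1 ∧ (v ≠ 1 ∧ v * v = 1 ∧ v * (ρ * v * ρ⁻¹) = ρ⁻¹ * v * ρ ∧
      (ρ * v * ρ⁻¹) * v = ρ⁻¹ * v * ρ) ∧ H = closure {ρ, v} := by
  obtain ⟨r, a, h1, h2, h3, h4, h5, h6, h7⟩ : ∃ r a : alternatingGroup (Fin 4), r ^ 3 = 1 ∧ r ≠ 1 ∧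
      a ≠ 1 ∧ a * a = 1 ∧ a * (r * a * r⁻¹) = r⁻¹ * a * r ∧ (r * a * r⁻¹) * a = r⁻¹ * a * r ∧
      ∀ g, ∃ i j : Fin 3, g = r ^ i.1 ∨ g = r ^ i.1 * a * r ^ j.1 :=
    ⟨⟨Equiv.swap 0 1 * Equiv.swap 1 2, Equiv.Perm.mem_alternatingGroup.2 (by decide)⟩, 
      ⟨Equiv.swap 0 1 * Equiv.swap 2 3, Equiv.Perm.mem_alternatingGroup.2 (by decide)⟩,
      by decide⟩
  let f := H.subtype.comp e.symm.toMonoidHom
  have hf : Function.Injective f := H.subtype_injective.comp e.symm.injective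
  refine ⟨f r, f a, by rw [← map_pow, h1, map_one], (map_ne_one_iff f hf).2 h2,
    ⟨(map_ne_one_iff f hf).2 h3, by rw [← map_mul, h4, map_one], by simpa using congrArg f h5,
      by simpa using congrArg f h6⟩, le_antisymm (fun x hx => ?_) ?_⟩
  · have hr : f r ∈ closure {f r, f a} := subset_closure (by simp)
    have ha : f a ∈ closure {f r, f a} := subset_closure (by simp)
    rw [show x = f (e ⟨x, hx⟩) by simp [f]]
    obtain ⟨i, j, h | h⟩ := h7 (e ⟨x, hx⟩) <;> rw [h]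
    · rw [map_pow]; exact pow_mem hr _
    · rw [map_mul, map_mul, map_pow, map_pow]; exact mul_mem (mul_mem (pow_mem hr _) ha) (pow_mem hr _)
  · rw [closure_le]
    rintro _ (rfl | rfl) <;> exact SetLike.coe_mem _

theorem main (hk : 1 ≤ k) (H₁ H₂ : Subgroup (GL (Fin 2) (ZMod (2 ^ k))))
    (e₁ : H₁ ≃* alternatingGroup (Fin 4)) (e₂ : H₂ ≃* alternatingGroup (Fin 4)) :
    ∃ g, H₂ = H₁.map (MulAut.conj g).toMonoidHom := by
  have H : ∀ H : Subgroup (GL (Fin 2) (ZMod (2 ^ k))), (H ≃* alternatingGroup (Fin 4)) → ∃ g v,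
      (v ≠ 1 ∧ v * v = 1 ∧ v * (r0 _ * v * (r0 _)⁻¹) = (r0 _)⁻¹ * v * r0 _ ∧
      (r0 _ * v * (r0 _)⁻¹) * v = (r0 _)⁻¹ * v * r0 _) ∧
      H.map (MulAut.conj g).toMonoidHom = Subgroup.closure {r0 _, v} := by
    intro H e
    obtain ⟨ρ, v, h1, h2, ⟨h3, h4, h5, h6⟩, rfl⟩ := gens e
    obtain ⟨g, hg⟩ := conj_r0 hk h1 h2
    replace hg : MulAut.conj g ρ = r0 _ := hg
    refine ⟨g, MulAut.conj g v, ?_, by rw [MonoidHom.map_closure, Set.image_pair, ← hg]; rfl⟩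
    rw [← hg]
    simp only [← map_mul, ← map_inv, h4, h5, h6, map_one, and_self, and_true]
    exact (MulEquiv.map_ne_one_iff _).2 h3
  obtain ⟨g, v, hv, h1⟩ := H H₁ e₁
  obtain ⟨g', w, hw, h2⟩ := H H₂ e₂
  have key : ∀ {v w : GL (Fin 2) (ZMod (2 ^ k))},
      (w = v ∨ w = r0 _ * v * (r0 _)⁻¹ ∨ w = (r0 _)⁻¹ * v * r0 _) →
      Subgroup.closure {r0 _, w} ≤ Subgroup.closure {r0 _, v} := by
    intro v w h
    have hr : r0 _ ∈ Subgroup.closure {r0 _, v} := subset_closure (by simp)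
    have ha : v ∈ Subgroup.closure {r0 _, v} := subset_closure (by simp)
    rw [closure_le]
    rintro _ (rfl | rfl)
    · exact hr
    rcases h with rfl | rfl | rfl
    · exact ha
    · exact mul_mem (mul_mem hr ha) (inv_mem hr)
    · exact mul_mem (mul_mem (inv_mem hr) ha) hr
  have h3 := le_antisymm (key (conj_v hk hv hw)) (key (conj_v hk hw hv))
  refine ⟨g'⁻¹ * g, map_injective (f := (MulAut.conj g').toMonoidHom) (MulAut.conj g').injective ?_⟩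
  rw [h2, h3, ← h1, Subgroup.map_map]
  congr 1
  ext x : 1
  simp [mul_assoc]

end Cfsg.Agent.H23.A4Z
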