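import Mathlib
import Cfsg.Agent.Core.PConstrained
import Cfsg.Agent.Core.MinNormal
import Cfsg.Agent.PGrp.Basic
import Cfsg.Agent.FGS.Suppl
import Cfsg.Agent.Transfer.Focal
import Cfsg.Agent.Classical.Borel2
import Cfsg.Agent.Max.L2d
import Cfsg.Agent.S3182
import Cfsg.Agent.S0330
import Cfsg.Agent.S1141
import Cfsg.Agent.Char.Central
import Cfsg.Agent.RankOne.SzLie

set_option autoImplicit false

namespace Cfsg.Agent.H23.AbPP

open Subgroup
open scoped MatrixGroups commutatorElement

universe u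

def AB (p : ℕ) (G : Type*) [Group G] : Prop :=
  ∀ H : Subgroup G, ¬ p ∣ Nat.card H → IsMulCommutative H

variable {p : ℕ}

theorem AB.inj {G H : Type*} [Group G] [Group H] (h : AB p G) (f : H →* G)
    (hf : Function.Injective f) : AB p H := fun K hK => by
  have := h (K.map f) (by rwa [card_map_of_injective hf])
  exact Core.isMulCommutative_of_forall fun x hx y hy => hf (by
    simpa using Core.comm_of_isMulCommutative this (mem_map_of_mem f hx) (mem_map_of_mem f hy))

theorem AB.quot {G : Type*} [Group G] [Finite G] (hp : p.Prime) (h : AB p G) (N : Subgroup G)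
    [N.Normal] : AB p (G ⧸ N) := fun K hK => by
  let L := K.comap (QuotientGroup.mk' N)
  obtain ⟨H, h1, -, h2⟩ := FGS.exists_min_suppl (N.subgroupOf L)
  have h3 : (N.subgroupOf L).index = Nat.card K := by
    have := Core.relIndex_eq_card_map_mk' N L
    rwa [map_comap_eq_self_of_surjective (QuotientGroup.mk'_surjective N)] at this
  have h4 := (h.inj L.subtype L.subtype_injective) H fun hd => hK (h3 ▸ h2 p hp hd)
  have key : ∀ x ∈ K, ∃ a ∈ H, ((a : L) : G ⧸ N) = x := by
    intro x hx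
    obtain ⟨y, rfl⟩ := QuotientGroup.mk_surjective x
    obtain ⟨a, ha, b, hb, e⟩ := mem_sup_of_normal_right.1 (h1 ▸ mem_top (⟨y, hx⟩ : L))
    refine ⟨a, ha, ?_⟩
    have : y = a * b := (congrArg Subtype.val e).symm
    rw [this, QuotientGroup.mk_mul, (QuotientGroup.eq_one_iff (b : G)).2 hb, mul_one]
  refine Core.isMulCommutative_of_forall fun x hx y hy => ?_
  obtain ⟨a, ha, rfl⟩ := key x hx
  obtain ⟨b, hb, rfl⟩ := key y hy
  rw [← QuotientGroup.mk_mul, ← QuotientGroup.mk_mul, ← coe_mul, ← coe_mul,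
    Core.comm_of_isMulCommutative h4 ha hb]

open Classical.PSL2Basic Classical.SL2Basic Classical.P1 Classical.Borel2 Max.L2 in
theorem psl {F : Type*} [Field F] [Finite F] (hp : p.Prime) (h2 : p ≠ 2) (h4 : 3 < Nat.card F) :
    ¬ AB p PSL(2, F) := by
  intro h
  have n2 : ¬ p ∣ 2 := fun hd => h2 ((Nat.prime_dvd_prime_iff_eq hp Nat.prime_two).1 hd)
  by_cases hd : p ∣ Nat.card F + 1
  · have h1 := h (MulAction.stabilizer PSL(2, F) (inf : PL F)) fun hd' => by
      have := card_stabilizer_PSL (inf : PL F) ▸ hd'.mul_left _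
      rcases (Nat.Prime.dvd_mul hp).1 this with e | e
      · exact hp.one_lt.ne' (Nat.dvd_one.1 ((Nat.dvd_add_right e).1 hd))
      · exact n2 ((Nat.dvd_add_right e).1 (by convert hd using 1; omega))
    obtain ⟨a, ha0, ha1⟩ : ∃ a : F, a ≠ 0 ∧ a ^ 2 ≠ 1 := by
      classical
      by_contra hn
      push Not at hn
      have : (Set.univ : Set F) ⊆ {0, 1, -1} := fun a _ => by
        by_cases h : a = 0
        · simp [h]
        · simpa [h] using sq_eq_one_iff.1 (hn a h)
      have h3 := Set.ncard_le_ncard this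
      rw [Set.ncard_univ] at h3
      have := Set.ncard_insert_le (0 : F) {1, -1}
      have := Set.ncard_insert_le (1 : F) {-1}
      rw [Set.ncard_singleton] at this
      omega
    let g : SL(2, F) := mkSL a 0 0 a⁻¹ (by simp [ha0])
    have hg : g 1 0 = 0 := rfl
    have h5 := Core.comm_of_isMulCommutative h1 (x := (g : PSL(2, F))) (y := (upper (1 : F) : SL(2, F)))
      (by rw [MulAction.mem_stabilizer_iff, mk_smul_PSL, smul_inf_eq_inf_iff', hg]) (by rw [MulAction.mem_stabilizer_iff, mk_smul_PSL, upper_smul_inf])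
    rw [← mul_inv_eq_iff_eq_mul, ← QuotientGroup.mk_mul, ← QuotientGroup.mk_inv, ← QuotientGroup.mk_mul,
      conj_upper hg] at h5
    have h6 := congrArg (· • pt (0 : F)) h5
    simp only [mk_smul_PSL, upper_smul_pt] at h6
    exact ha1 (by simpa [g] using h6)
  · obtain ⟨T, D, hT⟩ := exists_tor_plus F
    obtain ⟨M, ⟨e⟩⟩ := exists_sub_PSL.2 ⟨_, inf_le_right, hT.DL.1⟩
    have h5 : 3 ≤ (Nat.card F + 1) / dd F := by
      by_cases h2 : (2 : F) = 0
      · rw [dd, gcd_eq_one h2]; omega
      · have := Nat.odd_iff.1 (odd_card_iff.2 h2)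
        rw [dd, gcd_eq_two h2]; omega
    have h1 := h M fun hd' => by
      rw [Nat.card_congr e.toEquiv, DihedralGroup.nat_card] at hd'
      rcases (Nat.Prime.dvd_mul hp).1 hd' with e | e
      · exact n2 e
      · exact hd (e.trans (Nat.div_dvd_of_dvd gcd_dvd_succ))
    exact DihedralGroup.not_commutative (by omega) (by omega)
      ⟨⟨fun a b => e.symm.injective (by simp [h1.1.1 (e.symm a)])⟩⟩

theorem not_simple {G : Type*} [Group G] [Finite G] [IsSimpleGroup G] (hp : p.Prime) (h2 : p ≠ 2)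
    (h : AB p G) : IsMulCommutative G := by
  by_contra hna
  have syl : ∀ (H : Type) [Group H] (e : G ≃* H) (S : Sylow 2 H), IsMulCommutative S := by
    intro H _ e S
    haveI : Finite H := Finite.of_equiv _ e.toEquiv
    refine h.inj e.symm.toMonoidHom e.symm.injective _ fun hd => ?_
    obtain ⟨k, hk⟩ := IsPGroup.iff_card.1 S.isPGroup'
    exact h2 ((Nat.prime_dvd_prime_iff_eq hp Nat.prime_two).1 (hp.dvd_of_dvd_pow (hk ▸ hd)))
  rcases S3182.result hna (fun S T _ => ⟨S, fun x hx => ⟨⟨x, hx.1⟩, mem_center_iff.2 fun y =>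
    (h S fun hd => by
      obtain ⟨k, hk⟩ := IsPGroup.iff_card.1 S.isPGroup'
      exact h2 ((Nat.prime_dvd_prime_iff_eq hp Nat.prime_two).1
        (hp.dvd_of_dvd_pow (hk ▸ hd)))).1.1 _ _, rfl⟩⟩) with
    ⟨F, _, _, hF, ⟨e⟩⟩ | ⟨-, t, -, -, E, -, F, _, _, -, h3, N, -, ⟨e⟩, -⟩ |
    ⟨m, F, _, _, hm, hF, ⟨e⟩⟩ | ⟨n, F, _, _, hn, hF, ⟨e⟩⟩
  · by_cases h3 : Nat.card F = 3
    · exact hna ⟨⟨IsSimpleGroup.comm_iff_isSolvable.2 (Char.burnside_of_dvd (a := 2) (b := 1)
        Nat.prime_two Nat.prime_three (by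
          rw [Nat.card_congr e.toEquiv, Classical.PSL2Basic.card_PSL_of_card h3]; norm_num))⟩⟩
    · have := Finite.one_lt_card (α := F)
      rw [← Nat.card_eq_fintype_card] at hF
      exact psl hp h2 (by omega) (h.inj e.symm.toMonoidHom e.symm.injective)
  · rw [← Nat.card_eq_fintype_card] at h3
    exact psl hp h2 h3 (((h.inj E.subtype E.subtype_injective).inj N.subtype N.subtype_injective).inj
      e.symm.toMonoidHom e.symm.injective)
  · obtain ⟨S⟩ : Nonempty (Sylow 2 (Cfsg.Sz F m)) := inferInstance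
    have h1 := syl _ (e.trans (RankOne.Sz.lieEquiv hF hm)) S
    obtain ⟨-, -, h3, h4⟩ := S0330.result hm hF S
    rw [h3, (commutator_eq_bot_iff _).2 h1, card_bot] at h4
    exact (Nat.one_lt_pow (by omega) one_lt_two).ne h4
  · obtain ⟨S⟩ : Nonempty (Sylow 2 (Cfsg.PSU 3 F (2 ^ n))) := inferInstance
    obtain ⟨x, y, h3⟩ :=
      (S1141.result hn (by rw [hF, ← pow_mul, mul_comm, pow_mul]; norm_num) S).2.2.2.2.1
    exact h3 ((syl _ e S).1.1 x y)

theorem solvable (hp : p.Prime) (h2 : p ≠ 2) (G : Type u) [Group G] [Finite G] :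
    AB p G → Group.IsSolvable G := by
  refine Core.induction_on_card (P := fun G _ _ => AB p G → Group.IsSolvable G) ?_ G
  intro G _ _ ih h
  rcases subsingleton_or_nontrivial G with hs | hs
  · infer_instance
  by_cases hsim : IsSimpleGroup G
  · exact Group.isSolvable_of_comm (not_simple hp h2 h).1.1
  obtain ⟨N, hN, h1, h3⟩ : ∃ N : Subgroup G, N.Normal ∧ N ≠ ⊥ ∧ N ≠ ⊤ := by
    by_contra hn
    push Not at hn
    exact hsim ⟨fun N hN => or_iff_not_imp_left.2 (hn N hN)⟩
  haveI := ih N (Core.card_lt_of_ne_top N h3) (h.inj N.subtype N.subtype_injective)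
  haveI := ih (G ⧸ N) (Core.card_quotient_lt N h1) (h.quot hp N)
  exact Group.isSolvable_of_ker_le_range N.subtype (QuotientGroup.mk' N) (by simp)

theorem main {G : Type*} [Group G] [Finite G] [hp : Fact p.Prime] (P : Sylow p G) (hcyc : IsCyclic P)
    (hab : AB p G) : Cfsg.HasNormalPComplement p G ∨ (P : Subgroup G).Normal := by
  by_cases hn : normalizer (P : Set G) ≤ centralizer (P : Set G)
  · exact Or.inl (Transfer.hasNormalPComplement_of_normalizer_le_centralizer P hn)
  right
  have hP1 : (P : Subgroup G) ≠ ⊥ := fun e => hn fun x _ y hy => by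
    rw [Subgroup.mem_bot.1 (e ▸ hy : y ∈ (⊥ : Subgroup G))]; simp
  have h2 : p ≠ 2 := by
    rintro rfl
    exact hn (hcyc.normalizer_le_centralizer ((Nat.minFac_eq_two_iff _).2
      ((Core.prime_dvd_card_of_isPGroup P.isPGroup' hP1).trans (card_subgroup_dvd_card _))))
  haveI := solvable hp.out h2 G hab
  have hc : IsMulCommutative (P : Subgroup G) := hcyc.isMulCommutative
  have h1 := Core.PLengthLE.pPrimeCore_sup_normalizer
    (Core.pLengthLE_one_of_centralizer_sylow (Core.isPConstrained_of_solvable p this) P hc) P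
  obtain ⟨k, hk⟩ := IsPGroup.iff_card.1 P.isPGroup'
  obtain ⟨H, h3, -, h4, h5⟩ := Core.exists_complement_in (P : Subgroup G)
    (normalizer ((P : Subgroup G) : Set G)) le_normalizer le_rfl (by
      rw [hk]
      exact Nat.Coprime.pow_left _ ((Nat.Prime.coprime_iff_not_dvd hp.out).2 fun h =>
        P.not_dvd_index (h.trans (Dvd.intro _ (relIndex_mul_index le_normalizer)))))
  have h6 : ¬ p ∣ Nat.card H := fun h =>
    P.not_dvd_index ((h5 ▸ h).trans (Dvd.intro _ (relIndex_mul_index le_normalizer)))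
  have h7 := hab (pPrimeCore p G ⊔ H) fun h => by
    have := PGrp.card_sup_mul_card_inf (N := pPrimeCore p G) (H := H)
      (by rw [normalizer_eq_top]; exact le_top) ▸ h.mul_right _
    rcases (Nat.Prime.dvd_mul hp.out).1 this with e | e
    · exact (Nat.Prime.coprime_iff_not_dvd hp.out).1 (Core.pPrimeCore_coprime p).symm e
    · exact h6 e
  have h8 : H ≤ centralizer (pPrimeCore p G : Set G) := fun x hx y hy =>
    Core.comm_of_isMulCommutative h7 (mem_sup_left hy) (mem_sup_right hx)
  have h9 := Core.commutator_sup_centralizer H P h3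
    (by rw [hk]; exact Nat.Coprime.pow_right _ ((Nat.Prime.coprime_iff_not_dvd hp.out).2 h6).symm)
    (Or.inl inferInstance)
  have h10 : ⁅(P : Subgroup G), H⁆ = P := by
    by_contra hne
    have hne' : (P : Subgroup G) ⊓ centralizer (H : Set G) ≠ P := fun e => hn (by
      refine h4.ge.trans (sup_le (le_centralizer_iff_isMulCommutative.2 hc) ?_)
      exact le_centralizer_iff.1 (inf_eq_left.1 e))
    have key : ∀ A : Subgroup G, A ≤ P → A ≠ P → A ≤ Core.powKer P hc (p ^ (k - 1)) := by
      intro A h1 h2 x hx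
      refine Core.mem_powKer.2 ⟨h1 hx, orderOf_dvd_iff_pow_eq_one.1 ((A.orderOf_dvd_natCard hx).trans ?_)⟩
      obtain ⟨j, hj, e⟩ := (Nat.dvd_prime_pow hp.out).1 (hk ▸ card_dvd_of_le h1)
      have : j ≠ k := by
        rintro rfl; exact h2 (PGrp.eq_of_le_of_card_le h1 (by rw [hk, e]))
      rw [e]; exact pow_dvd_pow p (by omega)
    have h11 := h9.ge.trans (sup_le (key _ (Core.commutator_le_of_le_normalizer h3) hne)
      (key _ inf_le_left hne'))
    obtain ⟨g, hg⟩ := isCyclic_iff_exists_orderOf_eq_natCard.1 hcyc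
    have h12 := orderOf_dvd_of_pow_eq_one (Core.mem_powKer.1 (h11 g.2)).2
    have hk0 : k ≠ 0 := by
      rintro rfl; exact hP1 (card_eq_one.1 hk)
    rw [Subgroup.orderOf_coe, hg, hk, Nat.pow_dvd_pow_iff_le_right hp.out.one_lt] at h12
    omega
  have h11 : (P : Subgroup G) ≤ centralizer (pPrimeCore p G : Set G) :=
    h10.ge.trans ((commutator_mono le_rfl h8).trans (commutator_le_right _ _))
  refine normalizer_eq_top_iff.1 (eq_top_iff.2 (h1.ge.trans (sup_le ?_ le_rfl)))
  exact (le_centralizer_iff.1 h11).trans (centralizer_le_normalizer _)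

end Cfsg.Agent.H23.AbPP
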