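import Mathlib
import Cfsg.Agent.Max.Singer
import Cfsg.Agent.S2904
import Cfsg.Agent.S3784

/-! Abelian subgroups of order `q^n - 1` of `GL_n(q)`. -/

set_option autoImplicit false

namespace Cfsg.Agent.H23.AbSinger

open Subgroup Module

section
variable {F V : Type*} [Field F] [Finite F] [AddCommGroup V] [Module F V] [Finite V]

theorem exists_fix {r : ℕ} (hr : r.Prime) {u : (End F V)ˣ} (hu : u ^ r = 1) (W : Submodule F V)
    (hW : ∀ w ∈ W, u.1 w ∈ W) (h : ¬ r ∣ Nat.card F ^ finrank F W - 1) : ∃ w ∈ W, w ≠ 0 ∧ u.1 w = w := by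
  classical
  haveI : Fact r.Prime := ⟨hr⟩
  haveI := Fintype.ofFinite {x // x ∈ W ∧ x ≠ 0}
  let σ : Equiv.Perm V := MulAction.toPermHom (End F V)ˣ V u
  have h1 : ∀ x, (x ∈ W ∧ x ≠ 0) → (σ x ∈ W ∧ σ x ≠ 0) := fun x hx =>
    ⟨hW x hx.1, fun e => hx.2 (σ.injective (e.trans (map_zero u.1).symm))⟩
  obtain ⟨a, ha⟩ := Equiv.Perm.exists_fixed_point_of_prime (p := r) (n := 1) (σ := σ.subtypePermOfFintype h1) (by
    rw [← Nat.card_eq_fintype_card]
    have : Nat.card {x // x ∈ W ∧ x ≠ 0} = Nat.card W - 1 := by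
      change Nat.card ((W : Set V) \ {0} : Set V) = _
      rw [Nat.card_coe_set_eq, Set.ncard_diff_singleton_of_mem W.zero_mem]
      rfl
    rwa [this, natCard_eq_pow_finrank (K := F)]) (by
    rw [pow_one, Equiv.Perm.subtypePerm_pow]
    ext x
    change (σ ^ r) x = x
    rw [← map_pow, hu, map_one]; rfl)
  exact ⟨a, a.2.1, a.2.2, congrArg Subtype.val ha⟩

theorem irred {r : ℕ} (hr : r.Prime) (hr0 : (r : F) ≠ 0) {u : (End F V)ˣ} (hu : u ^ r = 1) (h1 : u ≠ 1)
    (h : ∀ k, 0 < k → k < finrank F V → ¬ r ∣ Nat.card F ^ k - 1) (W : Submodule F V)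
    (hW : ∀ w ∈ W, u.1 w ∈ W) : W = ⊥ ∨ W = ⊤ := by
  have key : ∀ W : Submodule F V, (∀ w ∈ W, u.1 w ∈ W) → W ≠ ⊥ → W ≠ ⊤ → ∃ w ∈ W, w ≠ 0 ∧ u.1 w = w :=
    fun W hW h0 ht => exists_fix hr hu W hW (h _ (Submodule.one_le_finrank_iff.2 h0) (Submodule.finrank_lt ht))
  by_contra! hc
  obtain ⟨w, -, hw0, hw⟩ := key W hW hc.1 hc.2
  obtain ⟨_, ⟨v, rfl⟩, hv0, hv⟩ := key (LinearMap.range (u.1 - 1))
    (by rintro _ ⟨v, rfl⟩; exact ⟨u.1 v, by simp⟩)
    (fun e => h1 (Units.ext (sub_eq_zero.1 (LinearMap.range_eq_bot.1 e))))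
    (fun e => hw0 ((LinearMap.injective_iff_surjective.2 (LinearMap.range_eq_top.1 e)) (by simp [hw])))
  have h2 : ∀ k : ℕ, (u ^ k).1 v = v + (k : F) • (u.1 - 1) v := fun k => by
    induction k with
    | zero => simp
    | succ k ih =>
      rw [pow_succ', Units.val_mul, End.mul_apply, ih, map_add, map_smul, hv, Nat.cast_succ, add_smul, one_smul]
      simp only [LinearMap.sub_apply, End.one_apply]
      abel
  have h3 := h2 r
  rw [hu, Units.val_one, End.one_apply, left_eq_add, smul_eq_zero] at h3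
  exact h3.elim hr0 hv0

end

theorem main {F K : Type*} [Field F] [Fintype F] [Field K] [Fintype K] [Algebra F K] (hn : 2 ≤ finrank F K)
    (hex1 : ¬ (finrank F K = 6 ∧ Fintype.card F = 2))
    (hex2 : ¬ (finrank F K = 2 ∧ (Fintype.card F).Prime ∧ ∃ a : ℕ, Fintype.card F + 1 = 2 ^ a))
    (U : Subgroup (End F K)ˣ) (hU : IsMulCommutative U) (hcard : Nat.card U = Fintype.card K - 1) :
    ∃ g : (End F K)ˣ, U.map (MulAut.conj g).toMonoidHom = (Max.sgr F K).range := by
  classical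
  obtain ⟨p, hp⟩ := CharP.exists F
  obtain ⟨⟨k, hk0⟩, hpp, hk⟩ := FiniteField.card F p
  obtain ⟨r, hr, h1, h2⟩ := S2904.result (Fintype.card F) (finrank F K) Fintype.one_lt_card hn
    (fun h => hex1 ⟨h.2, h.1⟩) fun ⟨h1, m, h2⟩ => hex2 ⟨h1, by
      have hm : 1 ≤ m := by
        rcases m with _ | m
        · have := Fintype.card_pos (α := F); omega
        · omega
      rcases S3784.result 2 p m k Nat.prime_two hpp hm hk0 (by rw [← h2, hk]; rfl) with h | h | h
      · rw [hk]; simpa [h.2.1] using hpp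
      · have := h.2.2.2
        have := Nat.one_lt_two_pow hk0.ne'
        omega
      · have : 2 ∣ 9 := h.1 ▸ dvd_pow_self 2 (by omega)
        omega, m, h2⟩
  have hK : Fintype.card K = Fintype.card F ^ finrank F K := Module.card_eq_pow_finrank
  haveI : Fact r.Prime := ⟨hr⟩
  haveI : Finite (End F K) := Module.finite_of_finite F
  obtain ⟨⟨u, huU⟩, hu⟩ := exists_prime_orderOf_dvd_card' (G := U) r (by rwa [hcard, hK])
  rw [orderOf_mk] at hu
  have hr0 : (r : F) ≠ 0 := fun e => by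
    have h3 := (Nat.prime_dvd_prime_iff_eq hpp hr).1 ((CharP.cast_eq_zero_iff F p r).1 e)
    subst h3
    have h4 : p ∣ Fintype.card F ^ finrank F K := dvd_pow (hk ▸ dvd_pow_self p hk0.ne') (by omega)
    have := (Nat.dvd_sub_iff_right (Nat.one_le_pow _ _ Fintype.card_pos) h4).1 h1
    exact hr.one_lt.ne' (Nat.dvd_one.1 this)
  have hirr := irred hr hr0 (hu ▸ pow_orderOf_eq_one u) (fun e => by rw [e, orderOf_one] at hu; exact hr.one_lt.ne hu)
    (by rwa [Nat.card_eq_fintype_card])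
  let C := Subalgebra.centralizer F {u.1}
  have hC : ∀ c : C, c ≠ 0 → Function.Injective c.1 := fun c hc => LinearMap.ker_eq_bot.1
    ((hirr _ fun w hw => by
      rw [LinearMap.mem_ker, ← End.mul_apply, ← c.2 u.1 rfl, End.mul_apply, LinearMap.mem_ker.1 hw, map_zero]).resolve_right
      fun e => hc (Subtype.ext (LinearMap.ker_eq_top.1 e)))
  haveI : Nontrivial C := ⟨0, 1, fun e => zero_ne_one (congrArg Subtype.val e)⟩
  haveI : IsDomain C := by
    haveI : NoZeroDivisors C := ⟨fun {a b} e => or_iff_not_imp_left.2 fun ha =>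
      Subtype.ext (LinearMap.ext fun v => hC a ha (by
        simpa using congrArg (fun c : C => c.1 v) e))⟩
    exact NoZeroDivisors.to_isDomain C
  letI : Field C := (Finite.isDomain_to_isField C).toField
  let ev : C →ₗ[F] K := (LinearMap.applyₗ (1 : K)).comp C.val.toLinearMap
  have hev : Function.Injective ev := (injective_iff_map_eq_zero ev).2 fun c hc =>
    by_contra fun h0 => one_ne_zero (hC c h0 (Eq.trans hc (map_zero _).symm))
  have hm : ∀ x : U, x.1.1 ∈ C := fun x y hy => by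
    rw [hy]
    exact congrArg (fun z : U => z.1.1) (hU.is_comm.comm ⟨u, huU⟩ x)
  have hd : finrank F K ≤ finrank F C := by
    have h3 : Nat.card U ≤ Nat.card Cˣ := Nat.card_le_card_of_injective
      (fun x : U => (⟨⟨_, hm x⟩, ⟨_, hm x⁻¹⟩, Subtype.ext x.1.mul_inv, Subtype.ext x.1.inv_mul⟩ : Cˣ))
      fun x y e => Subtype.ext (Units.ext (congrArg (fun z : Cˣ => z.1.1) e))
    rw [Nat.card_units, hcard, hK, natCard_eq_pow_finrank (K := F), Nat.card_eq_fintype_card] at h3
    have h4 := Nat.one_le_pow (finrank F C) _ (Fintype.card_pos (α := F))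
    exact (Nat.pow_le_pow_iff_right (Fintype.one_lt_card (α := F))).1 (by omega)
  have hd' := le_antisymm (LinearMap.finrank_le_finrank_of_injective hev) hd
  obtain ⟨φ⟩ := FiniteField.nonempty_algHom_of_finrank_dvd (F := F) (K := K) (L := C) (hd' ▸ dvd_rfl)
  have hφ : Function.Surjective φ :=
    (LinearMap.injective_iff_surjective_of_finrank_eq_finrank (f := φ.toLinearMap) hd'.symm).1 φ.injective
  let g := LinearEquiv.ofBijective (ev.comp φ.toLinearMap : K →ₗ[F] K) ⟨hev.comp φ.injective,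
    LinearMap.injective_iff_surjective.1 (hev.comp φ.injective)⟩
  have hg : ∀ a b, g (a * b) = (φ a).1 (g b) := fun a b => by
    change ev (φ (a * b)) = _
    rw [map_mul]; rfl
  refine ⟨(LinearMap.GeneralLinearGroup.ofLinearEquiv g)⁻¹, eq_of_le_of_card_ge ?_ ?_⟩
  · rintro _ ⟨x, hx, rfl⟩
    obtain ⟨a, ha⟩ := hφ ⟨_, hm ⟨x, hx⟩⟩
    have h3 : ∀ b, g.symm (x.1 (g b)) = a * b := fun b => by
      rw [LinearEquiv.symm_apply_eq, hg, ha]
    refine Max.mem_sgr_of fun b => ?_
    change g.symm (x.1 (g b)) = b * g.symm (x.1 (g 1))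
    rw [h3, h3, mul_one, mul_comm]
  · rw [card_map_of_injective (MulAut.conj _).injective, hcard,
      ← Nat.card_congr (MonoidHom.ofInjective Max.sgr_injective).toEquiv, Nat.card_units, Nat.card_eq_fintype_card]

end Cfsg.Agent.H23.AbSinger
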