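import Mathlib
import Cfsg.Agent.FGS.SymSyl2

/-! Sylow subgroups of small symmetric and alternating groups. -/

set_option autoImplicit false

namespace Cfsg.Agent.H23.AltSyl

open Subgroup Equiv
open scoped commutatorElement

/-- in a `p`-group a subgroup of index `< p²` contains all commutators -/
theorem comm_mem_of_index {P : Type*} [Group P] [Finite P] {p : ℕ} [hp : Fact p.Prime] (hP : IsPGroup p P)
    (H : Subgroup P) (h : H.index < p ^ 2) (a b : P) : a * b * a⁻¹ * b⁻¹ ∈ H := by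
  obtain ⟨k, hk⟩ := hP.index H
  have hk2 : k < 2 := by
    rw [hk] at h
    exact (Nat.pow_lt_pow_iff_right hp.out.one_lt).1 h
  interval_cases k
  · rw [pow_zero, index_eq_one] at hk
    rw [hk]; trivial
  · rw [pow_one] at hk
    obtain ⟨n, hn⟩ := hP.exists_card_eq
    have hn0 : n ≠ 0 := by
      rintro rfl
      have := H.index_dvd_card
      rw [hk, hn, pow_zero, Nat.dvd_one] at this
      exact hp.out.one_lt.ne' this
    haveI : H.Normal := normal_of_index_eq_minFac_card (by rw [hk, hn, hp.out.pow_minFac hn0])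
    haveI : IsCyclic (P ⧸ H) := isCyclic_of_prime_card (p := p) hk
    letI : CommGroup (P ⧸ H) := IsCyclic.commGroup
    rw [← QuotientGroup.eq_one_iff]
    simp only [QuotientGroup.mk_mul, QuotientGroup.mk_inv]
    rw [mul_comm (a : P ⧸ H) b]
    group

theorem comm_of_small {α : Type*} [Finite α] {p : ℕ} [hp : Fact p.Prime] {P : Type*} [Group P] [Finite P]
    [MulAction P α] [FaithfulSMul P α] (hP : IsPGroup p P) (h : Nat.card α < p ^ 2) (a b : P) :
    a * b = b * a := by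
  have : a * b * a⁻¹ * b⁻¹ = 1 := by
    refine FaithfulSMul.eq_of_smul_eq_smul (α := α) fun x => ?_
    rw [one_smul]
    refine comm_mem_of_index hP (MulAction.stabilizer P x) (lt_of_le_of_lt ?_ h) a b
    rw [MulAction.index_stabilizer]
    exact Set.ncard_le_card _
  calc a * b = (a * b * a⁻¹ * b⁻¹) * (b * a) := by group
    _ = b * a := by rw [this, one_mul]

theorem comm_of_sylow {G : Type*} [Group G] [Finite G] {p : ℕ} [Fact p.Prime] (S : Sylow p G)
    (hS : IsMulCommutative (S : Subgroup G)) {Q : Subgroup G} (hQ : IsPGroup p Q) {a b : G} (ha : a ∈ Q)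
    (hb : b ∈ Q) : a * b = b * a := by
  obtain ⟨T, hT⟩ := hQ.exists_le_sylow
  obtain ⟨g, rfl⟩ := MulAction.exists_smul_eq G S T
  have h1 : g⁻¹ * a * g ∈ (S : Subgroup G) := by
    simpa [Sylow.coe_subgroup_smul, mem_pointwise_smul_iff_inv_smul_mem] using hT ha
  have h2 : g⁻¹ * b * g ∈ (S : Subgroup G) := by
    simpa [Sylow.coe_subgroup_smul, mem_pointwise_smul_iff_inv_smul_mem] using hT hb
  have h3 := congrArg Subtype.val (hS.is_comm.comm (⟨_, h1⟩ : S) ⟨_, h2⟩)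
  simp only [MulMemClass.mk_mul_mk] at h3
  calc a * b = g * ((g⁻¹ * a * g) * (g⁻¹ * b * g)) * g⁻¹ := by group
    _ = g * ((g⁻¹ * b * g) * (g⁻¹ * a * g)) * g⁻¹ := by rw [h3]
    _ = b * a := by group

/-- Sylow subgroups of `S_n`, `n ≥ p²`, are not abelian -/
theorem exists_noncomm {α : Type*} [Finite α] {p : ℕ} [hp : Fact p.Prime] (P : Sylow p (Perm α))
    (h : p ^ 2 ≤ Nat.card α) : ∃ a ∈ (P : Subgroup (Perm α)), ∃ b ∈ (P : Subgroup (Perm α)), a * b ≠ b * a := by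
  classical
  have hβ : Nat.card (Fin (Nat.card α / p)) = Nat.card α / p := by simp
  obtain ⟨T⟩ : Nonempty (Sylow p (Perm (Fin (Nat.card α / p)))) := inferInstance
  obtain ⟨ι, hι⟩ := FGS.sylow_struct P hβ T
  have hT : (T : Subgroup (Perm (Fin (Nat.card α / p)))) ≠ ⊥ := by
    refine T.ne_bot_of_dvd_card ?_
    rw [Nat.card_perm, hβ]
    refine Nat.dvd_factorial hp.out.pos ?_
    rw [Nat.le_div_iff_mul_le hp.out.pos, ← sq]
    exact h
  obtain ⟨⟨σ, hσ⟩, hσ1⟩ := ne_bot_iff_exists_ne_one.1 hT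
  obtain ⟨i, hi⟩ : ∃ i, σ i ≠ i := by
    by_contra hc
    push Not at hc
    exact hσ1 (Subtype.ext (Equiv.ext hc))
  let f : Fin (Nat.card α / p) → Multiplicative (ZMod p) := fun j => if j = i then Multiplicative.ofAdd 1 else 1
  refine ⟨Perm.viaEmbeddingHom ι (FGS.wrTop _ _ σ), ?_, Perm.viaEmbeddingHom ι (FGS.wrBase _ _ f), ?_, ?_⟩
  · rw [hι]
    exact mem_map_of_mem _ (mem_sup_right (mem_map_of_mem _ hσ))
  · rw [hι]
    exact mem_map_of_mem _ (mem_sup_left ⟨f, rfl⟩)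
  · intro hc
    rw [← map_mul, ← map_mul] at hc
    have h1 := congrArg (fun g : Perm _ => (g (i, 1)).2) (Perm.viaEmbeddingHom_injective ι hc)
    simp only [Perm.mul_apply, FGS.wrTop_apply, FGS.wrBase_apply, f, if_true, if_neg hi, mul_one] at h1
    exact one_ne_zero (Multiplicative.ofAdd.injective h1)

def d8 : List (Perm (Fin 6)) :=
  [1, c[0, 1, 2, 3] * swap 4 5, swap 0 2 * swap 1 3, c[0, 3, 2, 1] * swap 4 5, swap 0 2 * swap 4 5,
    swap 1 3 * swap 4 5, swap 0 1 * swap 2 3, swap 0 3 * swap 1 2]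

theorem d8_mul : ∀ a ∈ d8, ∀ b ∈ d8, a * b ∈ d8 := by decide +kernel
theorem d8_inv : ∀ a ∈ d8, a⁻¹ ∈ d8 := by decide +kernel
theorem d8_pow : ∀ a ∈ d8, a ^ 4 = 1 ∧ Perm.sign a = 1 := by decide +kernel

def D8 : Subgroup (Perm (Fin 6)) where
  carrier := {a | a ∈ d8}
  one_mem' := by simp [d8]
  mul_mem' := fun ha hb => d8_mul _ ha _ hb
  inv_mem' := fun ha => d8_inv _ ha

theorem exists_alt {n p : ℕ} [hp : Fact p.Prime] (hn : 6 ≤ n) (h : p ^ 2 ≤ n) :
    ∃ Q : Subgroup (Perm (Fin n)), IsPGroup p Q ∧ Q ≤ alternatingGroup (Fin n) ∧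
      ∃ a ∈ Q, ∃ b ∈ Q, a * b ≠ b * a := by
  rcases hp.out.eq_two_or_odd' with rfl | ho
  · let ι : Fin 6 ↪ Fin n := Fin.castLEEmb hn
    refine ⟨D8.map (Perm.viaEmbeddingHom ι), IsPGroup.map ?_ _, ?_, _,
      mem_map_of_mem _ (show swap 0 2 * swap 4 5 ∈ d8 by simp [d8]), _,
      mem_map_of_mem _ (show swap 0 1 * swap 2 3 ∈ d8 by simp [d8]), ?_⟩
    · rintro ⟨a, ha⟩
      exact ⟨2, Subtype.ext (d8_pow a ha).1⟩
    · rintro _ ⟨a, ha, rfl⟩
      rw [Perm.mem_alternatingGroup, FGS.sign_viaEmbeddingHom]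
      exact (d8_pow a ha).2
    · intro hc
      rw [← map_mul, ← map_mul] at hc
      exact absurd (Perm.viaEmbeddingHom_injective ι hc) (by decide)
  · obtain ⟨P⟩ : Nonempty (Sylow p (Perm (Fin n))) := inferInstance
    refine ⟨P, P.isPGroup', fun a ha => ?_, exists_noncomm P (by simpa using h)⟩
    obtain ⟨k, hk⟩ := IsPGroup.iff_orderOf.1 P.isPGroup' ⟨a, ha⟩
    rw [Subgroup.orderOf_mk] at hk
    exact FGS.sign_eq_one_of_odd (hk ▸ ho.pow)

theorem main (n p : ℕ) (hn : 6 ≤ n) [Fact p.Prime] (S : Sylow p (alternatingGroup (Fin n))) :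
    IsMulCommutative S ↔ n < p ^ 2 := by
  constructor
  · intro hS
    by_contra hc
    obtain ⟨Q, hQ, hle, a, ha, b, hb, hab⟩ := exists_alt (p := p) hn (not_lt.1 hc)
    exact hab (congrArg Subtype.val (comm_of_sylow S hS (hQ.comap_subtype (K := alternatingGroup (Fin n)))
      (a := ⟨a, hle ha⟩) (b := ⟨b, hle hb⟩) ha hb))
  · intro h
    exact ⟨⟨comm_of_small (α := Fin n) S.isPGroup' (by simpa using h)⟩⟩

end Cfsg.Agent.H23.AltSyl
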