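import Mathlib
import Cfsg.Agent.H23.AltSyl
import Cfsg.Agent.Ab2.S6
import Cfsg.Agent.S2119
import Cfsg.Agent.Glaub.Qd2
import Cfsg.Agent.Glaub.Qd3

/-! Odd order automorphisms of alternating groups; `Qd(p)` in alternating groups. -/

set_option autoImplicit false

namespace Cfsg.Agent.H23.AltSyl

open Subgroup Equiv Equiv.Perm MulAction Matrix
open scoped MatrixGroups

theorem mem_range_of_three (α : MulAut (alternatingGroup (Fin 6))) {c : alternatingGroup (Fin 6)}
    (h1 : (c : Perm (Fin 6)).IsThreeCycle) (h2 : (α c : Perm (Fin 6)).IsThreeCycle) :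
    α ∈ (MulAut.conjNormal : Perm (Fin 6) →* MulAut (alternatingGroup (Fin 6))).range := by
  obtain ⟨x, hx⟩ : ∃ x, (c : Perm (Fin 6)) x = x := by
    by_contra! hne
    have h3 := card_support_eq_three_iff.2 h1
    rw [Finset.eq_univ_iff_forall.2 fun x => mem_support.2 (hne x)] at h3
    simp at h3
  have := alternatingGroup.isPretransitive_of_three_le_card (Fin 6) (by simp)
  have hK : ((stabilizer (alternatingGroup (Fin 6)) x).map α.toMonoidHom).index = Nat.card (Fin 6) := by
    rw [MulEquiv.toMonoidHom_eq_coe, Subgroup.index_map_equiv, index_stabilizer_of_transitive]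
  obtain ⟨σ, -, h⟩ := (S4275.result (alternatingGroup (Fin 6)) this x α).mpr
    ((Max.alt_fix_or_prim (by simp) hK).resolve_right fun hp => by
      set K := (stabilizer (alternatingGroup (Fin 6)) x).map α.toMonoidHom
      have hp' : IsPreprimitive (K.map (alternatingGroup (Fin 6)).subtype) (Fin 6) :=
        IsPreprimitive.of_surjective
          (f := (⟨id, fun _ _ => rfl⟩ : Fin 6 →ₑ[fun g : K =>
            (⟨g.1.1, g.1, g.2, rfl⟩ : K.map (alternatingGroup (Fin 6)).subtype)] Fin 6))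
          Function.surjective_id
      have h3 := alternatingGroup_le_of_isPreprimitive_of_isThreeCycle_mem hp' h2
        ⟨α c, ⟨c, hx, rfl⟩, rfl⟩
      have h4 : K = ⊤ := eq_top_iff.2 fun g _ => by
        obtain ⟨k, hk, e⟩ := h3 g.2
        exact (Subtype.ext e : k = g) ▸ hk
      rw [h4] at hK; simp at hK)
  exact ⟨σ, MulEquiv.ext fun g => Subtype.ext (h g).symm⟩

theorem mem_range_six (α : MulAut (alternatingGroup (Fin 6))) (h : Odd (orderOf α)) :
    α ∈ (MulAut.conjNormal : Perm (Fin 6) →* MulAut (alternatingGroup (Fin 6))).range := by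
  have h3 : (swap 0 1 * swap 1 2 : Perm (Fin 6)).IsThreeCycle := card_support_eq_three_iff.1 (by decide)
  let c : alternatingGroup (Fin 6) := ⟨_, h3.mem_alternatingGroup⟩
  have ho : ∀ β : MulAut (alternatingGroup (Fin 6)), orderOf (β c : Perm (Fin 6)) = 3 := fun β => by
    rw [Subgroup.orderOf_coe, β.orderOf_eq, ← Subgroup.orderOf_coe]; exact h3.orderOf
  rcases Ab2.three_cases (ho α) with h1 | h1
  · exact mem_range_of_three α h3 h1
  rcases Ab2.three_cases (ho (α * α)) with h2 | h2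
  · have h4 := mem_range_of_three (α * α) h3 h2
    obtain ⟨k, hk⟩ := h
    have : α = ((α * α) ^ k)⁻¹ := by
      rw [eq_inv_iff_mul_eq_one, ← sq, ← pow_mul, ← pow_succ', ← hk, pow_orderOf_eq_one]
    rw [this]
    exact inv_mem (pow_mem h4 _)
  exfalso
  obtain ⟨a, ha, ea⟩ := Ab2.exists_even_conj h1
  obtain ⟨b, hb, eb⟩ := Ab2.exists_even_conj h2
  let g : alternatingGroup (Fin 6) := ⟨b * a⁻¹, by
    rw [mem_alternatingGroup, map_mul, map_inv, ha, hb]; rfl⟩
  have e1 : g * α c * g⁻¹ = α (α c) := Subtype.ext (by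
    change b * a⁻¹ * (α c : Perm (Fin 6)) * (b * a⁻¹)⁻¹ = ((α * α) c : Perm (Fin 6))
    rw [← ea, ← eb]; group)
  have e2 : α.symm g * c * (α.symm g)⁻¹ = α c := α.injective (by
    rw [map_mul, map_mul, map_inv, α.apply_symm_apply, e1])
  have e3 : (α c : Perm (Fin 6)).cycleType = (c : Perm (Fin 6)).cycleType := by
    rw [← e2]; exact cycleType_conj
  rw [h1, h3] at e3
  have := congrArg Multiset.card e3
  simp at this

theorem mem_range_odd {n : ℕ} (hn : 5 ≤ n) (α : MulAut (alternatingGroup (Fin n))) (h : Odd (orderOf α)) :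
    α ∈ (MulAut.conjNormal : Perm (Fin n) →* MulAut (alternatingGroup (Fin n))).range := by
  by_cases h6 : n = 6
  · subst h6
    exact mem_range_six α h
  · exact (S2119.result n (by omega) h6).2 α

theorem conjNormal_inj {n : ℕ} (hn : 5 ≤ n) :
    Function.Injective (MulAut.conjNormal : Perm (Fin n) →* MulAut (alternatingGroup (Fin n))) :=
  (injective_iff_map_eq_one _).mpr fun g hg =>
    Equiv.ext fun x => by_contra fun h => by
      obtain ⟨c, h1, h2, h3⟩ := Max.exists_even_move (by simp; omega) h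
      have := congrArg (fun e : alternatingGroup (Fin n) => e.1 (g x)) (MulEquiv.congr_fun hg ⟨c, h1⟩)
      exact h3 (by simpa [show c x = x from h2] using this.symm)

theorem exists_order {n p q : ℕ} (hp : p.Prime) (hq : q.Prime) (hpq : p < q) (hn : q ^ 2 ≤ n) :
    ∃ g : alternatingGroup (Fin n), orderOf g = p * q := by
  have hq3 : 3 ≤ q := by have := hp.two_le; omega
  have hqo : Odd q := hq.odd_of_ne_two (by omega)
  have hc : p.Coprime q := (Nat.coprime_primes hp hq).2 hpq.ne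
  have hl : lcm p q = p * q := hc.lcm_eq_mul
  rcases hp.eq_two_or_odd' with rfl | hpo
  · obtain ⟨g, hg⟩ := (exists_with_cycleType_iff (Fin n) (m := {2, 2, q})).2
      ⟨by simp; nlinarith, by simp; omega⟩
    refine ⟨⟨g, ?_⟩, ?_⟩
    · rw [mem_alternatingGroup, sign_of_cycleType, hg]
      obtain ⟨k, rfl⟩ := hqo
      exact Even.neg_one_pow ⟨k + 4, by simp; ring⟩
    · rw [orderOf_mk, ← lcm_cycleType, hg]
      simp only [Multiset.insert_eq_cons, Multiset.lcm_cons, Multiset.lcm_singleton, normalize_eq]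
      rw [hl]
      exact (lcm_eq_right_iff _ _ (normalize_eq _)).2 (dvd_mul_right _ _)
  · obtain ⟨g, hg⟩ := (exists_with_cycleType_iff (Fin n) (m := {p, q})).2
      ⟨by simp; nlinarith, by simp; exact ⟨hp.two_le, hq.two_le⟩⟩
    refine ⟨⟨g, ?_⟩, ?_⟩
    · rw [mem_alternatingGroup, sign_of_cycleType, hg]
      obtain ⟨k, rfl⟩ := hqo
      obtain ⟨l, rfl⟩ := hpo
      exact Even.neg_one_pow ⟨k + l + 2, by simp; ring⟩
    · rw [orderOf_mk, ← lcm_cycleType, hg]
      simp only [Multiset.insert_eq_cons, Multiset.lcm_cons, Multiset.lcm_singleton, normalize_eq]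
      exact hl

theorem aut_sylow {n : ℕ} (hn : 5 ≤ n) (G : Subgroup (MulAut (alternatingGroup (Fin n))))
    (hG : (MulAut.conj : alternatingGroup (Fin n) →* MulAut (alternatingGroup (Fin n))).range ≤ G)
    {p q : ℕ} (hp : p.Prime) [hq : Fact q.Prime] (hpq : p < q) (h : ∀ g : G, orderOf g ≠ p * q)
    (Q : Sylow q G) : IsMulCommutative (Q : Subgroup G) := by
  have hlt : n < q ^ 2 := by
    by_contra hc
    obtain ⟨g, hg⟩ := exists_order hp hq.out hpq (not_lt.1 hc)
    refine h ⟨MulAut.conj g, hG ⟨g, rfl⟩⟩ ?_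
    have : MulAut.conj g = MulAut.conjNormal (g : Perm (Fin n)) := MulEquiv.ext fun x => Subtype.ext rfl
    rw [orderOf_mk, this, orderOf_injective _ (conjNormal_inj hn), Subgroup.orderOf_coe, hg]
  have hqo : Odd q := hq.out.odd_of_ne_two (by have := hp.two_le; omega)
  have hQ := ((Q.isPGroup'.map G.subtype).comap_of_injective _ (conjNormal_inj hn))
  have hm : ∀ a : Q, ((a : G) : MulAut (alternatingGroup (Fin n))) ∈
      (MulAut.conjNormal : Perm (Fin n) →* MulAut (alternatingGroup (Fin n))).range := fun a => by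
    obtain ⟨k, hk⟩ := IsPGroup.iff_orderOf.1 Q.isPGroup' a
    refine mem_range_odd hn _ ?_
    rw [Subgroup.orderOf_coe, Subgroup.orderOf_coe, hk]
    exact hqo.pow
  refine ⟨⟨fun a b => ?_⟩⟩
  obtain ⟨x, hx⟩ := hm a
  obtain ⟨y, hy⟩ := hm b
  have h1 := congrArg Subtype.val (comm_of_small (α := Fin n) hQ (by simpa using hlt)
    ⟨x, a, a.2, hx.symm⟩ ⟨y, b, b.2, hy.symm⟩)
  have h2 := congrArg (MulAut.conjNormal (H := alternatingGroup (Fin n))) (show x * y = y * x from h1)
  rw [map_mul, map_mul, hx, hy] at h2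
  exact Subtype.ext (Subtype.ext h2)

section qd
open Glaub Classical.SL2Basic

variable {p : ℕ} [hp : Fact p.Prime]

theorem not_section {n : ℕ} (h : n < p ^ 2) :
    ¬ Transfer.IsSectionOf (alternatingGroup (Fin n)) (qdC (ZMod p)) := by
  rintro ⟨K, f, hf⟩
  obtain ⟨S⟩ : Nonempty (Sylow p K) := inferInstance
  have hS : IsMulCommutative (S : Subgroup K) :=
    ⟨⟨comm_of_small (α := Fin n) S.isPGroup' (by simpa using h)⟩⟩
  have hT : IsMulCommutative ((S.mapSurjective hf : Sylow p _) : Subgroup (qdC (ZMod p))) := by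
    refine ⟨⟨?_⟩⟩
    rintro ⟨_, a, ha, rfl⟩ ⟨_, b, hb, rfl⟩
    refine Subtype.ext ?_
    have := congrArg (fun x : S => f x) (hS.is_comm.comm ⟨a, ha⟩ ⟨b, hb⟩)
    exact (map_mul f a b).symm.trans (this.trans (map_mul f b a))
  have := comm_of_sylow _ hT (isSylowIn_qU (p := p)).pgrp (hs_mem 1 0 0) (hs_mem 0 0 1)
  rw [hs_mul, hs_mul, hs_inj] at this
  simpa using this.2.1

/-- the affine plane -/
def Pl (p : ℕ) : Type := {v : Fin 3 → ZMod p // v 2 = 1}

/-- the affine action -/
def act (M : qdC (ZMod p)) (v : Pl p) : Pl p := ⟨(M : SL(3, ZMod p)).1 *ᵥ v.1, by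
    obtain ⟨x, s, rfl⟩ := exists_qa M
    simp [qa, aff, mulVec, dotProduct, Fin.sum_univ_three, v.2]⟩

theorem act_val (M : qdC (ZMod p)) (v : Pl p) : (act M v).1 = (M : SL(3, ZMod p)).1 *ᵥ v.1 := rfl

instance plAction : MulAction (qdC (ZMod p)) (Pl p) where
  smul := act
  one_smul v := Subtype.ext ((act_val _ _).trans (by simp))
  mul_smul M N v := Subtype.ext ((act_val _ _).trans (by
    change _ = (act M (act N v)).1
    simp [act_val]))

theorem pl_smul (M : qdC (ZMod p)) (v : Pl p) : (M • v).1 = (M : SL(3, ZMod p)).1 *ᵥ v.1 := act_val M v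

def plEquiv : Pl p ≃ ZMod p × ZMod p where
  toFun v := (v.1 0, v.1 1)
  invFun x := ⟨![x.1, x.2, 1], rfl⟩
  left_inv v := Subtype.ext (by ext i; fin_cases i <;> simp [v.2])
  right_inv _ := rfl

theorem pl_inj : Function.Injective (toPermHom (qdC (ZMod p)) (Pl p)) := by
  refine (injective_iff_map_eq_one _).2 fun M hM => ?_
  obtain ⟨x, s, rfl⟩ := exists_qa M
  have h : ∀ a b : ZMod p, (aff x s).1 *ᵥ ![a, b, 1] = ![a, b, 1] := fun a b =>
    (pl_smul (qa x s) ⟨![a, b, 1], rfl⟩).symm.trans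
      (congrArg Subtype.val (Equiv.congr_fun hM (⟨![a, b, 1], rfl⟩ : Pl p)))
  have h0 := fun a b => congrFun (h a b) 0
  have h1 := fun a b => congrFun (h a b) 1
  simp only [aff, mulVec, dotProduct, Fin.sum_univ_three] at h0 h1
  simp at h0 h1
  have e0 : x 0 = 0 := by simpa using h0 0 0
  have e1 : x 1 = 0 := by simpa using h1 0 0
  rw [qa_eq_one]
  refine ⟨by ext i; fin_cases i <;> simp [e0, e1], sl2_ext ?_ ?_ ?_ ?_⟩
  · simpa [e0] using h0 1 0
  · simpa [e0] using h0 0 1
  · simpa [e1] using h1 1 0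
  · simpa [e1] using h1 0 1

theorem hom_triv (hp2 : p ≠ 2) (f : qdC (ZMod p) →* ℤˣ) (M : qdC (ZMod p)) : f M = 1 := by
  have ho : Odd p := hp.out.odd_of_ne_two hp2
  have key : ∀ M : qdC (ZMod p), M ^ p = 1 → f M = 1 := fun M hM => by
    have h := congrArg f hM
    rw [map_pow, map_one] at h
    rcases Int.units_eq_one_or (f M) with e | e
    · exact e
    · rw [e, ho.neg_one_pow] at h
      exact absurd h (by decide)
  obtain ⟨x, s, rfl⟩ := exists_qa M
  have h1 : qa x s = qa x 1 * qsl _ s := by simp [qsl, qa_mul]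
  have h2 : (f.comp (qsl (ZMod p))).ker = ⊤ := eq_top_of_upper_lower _
    (fun c => key _ (by rw [← map_pow, upper_pow_char, map_one]))
    (fun c => key _ (by rw [← map_pow, lower_pow_char, map_one]))
  have h3 : s ∈ (f.comp (qsl (ZMod p))).ker := h2 ▸ mem_top s
  rw [h1, map_mul, show f (qsl _ s) = 1 from h3, mul_one]
  refine key _ ?_
  rw [qa_pow, qa_eq_one]
  exact ⟨by ext i; simp, rfl⟩

theorem exists_qd (hp2 : p ≠ 2) {n : ℕ} (h : p ^ 2 ≤ n) :
    ∃ H : Subgroup (alternatingGroup (Fin n)), Nonempty (H ≃* qdC (ZMod p)) := by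
  obtain ⟨ι⟩ : Nonempty (ZMod p × ZMod p ↪ Fin n) :=
    Function.Embedding.nonempty_of_card_le (by simpa [sq] using h)
  let ψ : qdC (ZMod p) →* Perm (Fin n) :=
    (Perm.viaEmbeddingHom (plEquiv.toEmbedding.trans ι)).comp (toPermHom (qdC (ZMod p)) (Pl p))
  have hψ : Function.Injective ψ := (Perm.viaEmbeddingHom_injective _).comp pl_inj
  let φ : qdC (ZMod p) →* alternatingGroup (Fin n) :=
    ψ.codRestrict _ fun M => mem_alternatingGroup.2 (hom_triv hp2 (Perm.sign.comp ψ) M)
  exact ⟨φ.range, ⟨(MonoidHom.ofInjective (f := φ) fun a b e => hψ (congrArg Subtype.val e)).symm⟩⟩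

theorem qd_main (hp2 : p ≠ 2) (n : ℕ) :
    ((∃ H : Subgroup (alternatingGroup (Fin n)), Nonempty (H ≃* qd p)) ↔ p ^ 2 ≤ n) ∧
      (n < p ^ 2 → ¬ Involves (qd p) (alternatingGroup (Fin n))) := by
  refine ⟨⟨?_, exists_qd hp2⟩, fun h => not_involves_qd_iff.2 (not_section h)⟩
  rintro ⟨H, ⟨e⟩⟩
  by_contra hc
  exact not_section (not_le.1 hc) ⟨H, e.toMonoidHom, e.surjective⟩

end qd

end Cfsg.Agent.H23.AltSyl
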