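import Mathlib
import Cfsg.Agent.PGrp.Special
import Cfsg.Agent.PGrp.MaxClass2
import Cfsg.Agent.PGrp.Extra

set_option autoImplicit false

namespace Cfsg.Agent.H23.PHall

open Subgroup PGrp
open scoped commutatorElement

variable {G : Type*} [Group G] [Finite G] {p : ℕ} [hp : Fact p.Prime]

theorem exists_compl (hG : IsPGroup p G) {Z W K : Subgroup G} (hZW : Z ≤ W) (hWK : W ≤ K)
    (h1 : ∀ x ∈ K, x ^ p ∈ Z) (h2 : ∀ x ∈ K, ∀ y ∈ K, ⁅x, y⁆ ∈ Z) :
    ∃ E, Z ≤ E ∧ E ⊔ W = K ∧ E ⊓ W = Z := by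
  obtain ⟨E, ⟨hZE, hE⟩, hmin⟩ := Set.Finite.exists_minimal (Set.toFinite {E | Z ≤ E ∧ E ⊔ W = K})
    ⟨K, hZW.trans hWK, sup_eq_left.mpr hWK⟩
  have hEK : E ≤ K := hE ▸ le_sup_left
  refine ⟨E, hZE, hE, le_antisymm (fun x hx => ?_) (le_inf hZE hZW)⟩
  by_contra hxZ
  obtain ⟨M, hM1, hM2, hM3⟩ := exists_coatom_notMem (hG.to_subgroup E) (N := Z.subgroupOf E)
    (by rw [commutator_def, commutator_le]; exact fun a _ b _ => h2 _ (hEK a.2) _ (hEK b.2))
    (fun a => h1 _ (hEK a.2)) (x := ⟨x, hx.1⟩) hxZ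
  have h3 := congrArg (map E.subtype) (sup_zpowers_eq_top_of_index_prime hp.out hM2 hM3)
  rw [Subgroup.map_sup, MonoidHom.map_zpowers, ← MonoidHom.range_eq_map, range_subtype] at h3
  have h4 := hmin (y := M.map E.subtype) ⟨fun z hz => ⟨⟨z, hZE hz⟩, hM1 hz, rfl⟩, le_antisymm
    (sup_le ((map_subtype_le M).trans hEK) hWK)
    (hE.ge.trans (sup_le (h3.ge.trans (sup_le_sup_left ((zpowers_le).mpr hx.2) _)) le_sup_right))⟩ (map_subtype_le M)
  obtain ⟨y, hy, e⟩ := h4 hx.1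
  exact hM3 ((Subtype.ext e : y = ⟨x, hx.1⟩) ▸ hy)

theorem main (hG : IsPGroup p G)
    (hs : ∀ A : Subgroup G, A.Characteristic → IsMulCommutative A → IsCyclic A) :
    ∃ E R : Subgroup G, (∀ e ∈ E, ∀ r ∈ R, e * r = r * e) ∧ E ⊔ R = ⊤ ∧ (E = ⊥ ∨ IsExtraspecial p ↥E) ∧
      (IsCyclic R ∨ (p = 2 ∧ 16 ≤ Nat.card R ∧ ((∃ m : ℕ, Nonempty (↥R ≃* DihedralGroup m)) ∨
        (∃ m : ℕ, Nonempty (↥R ≃* QuaternionGroup m)) ∨ IsQuasiDihedral ↥R))) := by
  rcases subsingleton_or_nontrivial G with hn | hn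
  · exact ⟨⊥, ⊤, by simp, bot_sup_eq _, Or.inl rfl, Or.inl inferInstance⟩
  let Z : Subgroup G := centralOmega p ⊥
  haveI hZc : Z.Characteristic := centralOmega_characteristic ⊥
  have mZ : ∀ x, x ∈ Z ↔ x ^ p = 1 ∧ ∀ g, x * g = g * x := fun x => by
    simp only [Z, mem_centralOmega, mem_bot, commutatorElement_eq_one_iff_mul_comm]
  let K : Subgroup G := centralOmega p Z
  haveI hKc : K.Characteristic := centralOmega_characteristic Z
  let W : Subgroup G := K ⊓ centralizer K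
  have hW : IsCyclic W := hs W (inf_characteristic _ _) ⟨⟨fun a b => Subtype.ext (b.2.2 a a.2.1)⟩⟩
  have hZW : Z ≤ W := le_inf (le_centralOmega Z) fun z hz g _ => (((mZ z).mp hz).2 g).symm
  have hZ1 : Z ≠ ⊥ := by
    obtain ⟨z, -, h1, h2⟩ := exists_mem_center_orderOf_eq hG ⊤ top_ne_bot
    intro h
    have : z ∈ Z := (mZ z).mpr ⟨h2 ▸ pow_orderOf_eq_one z, fun g => (mem_center_iff.mp h1 g).symm⟩
    rw [h, mem_bot] at this
    rw [this, orderOf_one] at h2
    exact hp.out.one_lt.ne h2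
  have hZo : Z ≤ omegaOne p W := fun z hz => subset_closure ⟨hZW hz, ((mZ z).mp hz).1⟩
  have hoc := card_omegaOne_le_of_isCyclic (hG.to_subgroup W) hW
  have hZp : Nat.card Z = p := by
    obtain ⟨k, hk⟩ := exists_card_eq_pow hG Z
    have h1 := (card_le_of_le hZo).trans hoc
    rcases k with _ | k
    · exact absurd (card_eq_one.mp hk) hZ1
    · rw [hk] at h1 ⊢
      exact le_antisymm h1 (Nat.le_self_pow (by omega) _)
  have hom : ∀ x ∈ W, x ^ p = 1 → x ∈ Z := fun x h1 h2 =>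
    (eq_of_le_of_card_le hZo (hZp ▸ hoc)) ▸ subset_closure ⟨h1, h2⟩
  obtain ⟨E, hZE, hE1, hE2⟩ := exists_compl hG hZW (inf_le_left : W ≤ K) (fun x hx => hx.1)
    fun x hx y _ => hx.2 y
  have hEK : E ≤ K := hE1 ▸ le_sup_left
  let R : Subgroup G := centralizer E
  have key : ∀ x ∈ K, x ∈ R → x ∈ W := fun x h1 h2 => ⟨h1, fun y hy => by
    have : E ⊔ W ≤ centralizer {x} := sup_le (fun e he => mem_centralizer_singleton_iff.mpr (h2 e he))
      fun w hw => mem_centralizer_singleton_iff.mpr (hw.2 x h1).symm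
    exact mem_centralizer_singleton_iff.mp (this (hE1 ▸ hy))⟩
  have hZR : Z ≤ R := fun z hz g _ => (((mZ z).mp hz).2 g).symm
  have hER : E ⊓ R = Z := le_antisymm (fun x hx => hE2 ▸ ⟨hx.1, key x (hEK hx.1) hx.2⟩) (le_inf hZE hZR)
  have hEE : ∀ g, ∀ x ∈ E, ⁅g, x⁆ ∈ Z := fun g x hx => commutator_symm_mem ((hEK hx).2 g)
  have hEx : E = Z ∨ IsExtraspecial p E := by
    by_cases h : ⁅E, E⁆ = ⊥
    · exact Or.inl (hER ▸ (inf_eq_left.mpr (commutator_eq_bot_iff_le_centralizer.mp h)).symm)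
    · refine Or.inr (isExtraspecial_iff.mpr ⟨hG.to_subgroup E, hER ▸ hZp, ?_, fun x hx => hZR (hEK hx).1⟩)
      have h1 : ⁅E, E⁆ ≤ Z := commutator_le.mpr fun a _ b hb => hEE a b hb
      rw [show E ⊓ centralizer E = Z from hER]
      refine eq_of_le_of_card_le h1 ?_
      have h2 := card_dvd_of_le h1
      rw [hZp] at h2 ⊢
      exact (((Nat.dvd_prime hp.out).mp h2).resolve_left fun e => h (card_eq_one.mp e)).ge
  haveI hEn : E.Normal := normal_of_commutator_le hZE (commutator_le.mpr fun a ha b _ => (hEK ha).2 b)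
  have htop : E ⊔ R = ⊤ := by
    rw [eq_top_iff]
    intro t _
    rcases hEx with h | h
    · exact mem_sup_right fun e he => ((mZ e).mp (h ▸ he)).2 t
    · refine mem_sup_centralizer_of_extraspecial h (mem_normalizer_of_normal E t) ?_ fun x hx => hZR (hEE t x hx)
      rw [show E ⊓ centralizer E = Z from hER]
      exact fun e he => ((mZ e).mp he).2 t
  have dec : ∀ g : G, ∃ e ∈ E, ∃ r ∈ R, e * r = g := fun g =>
    (mem_sup_of_le_normalizer (fun r _ => mem_normalizer_of_normal E r)).mp (htop ▸ mem_top g)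
  have noV : ∀ V : Subgroup R, V.Normal → (∀ v ∈ V, v ^ p = 1) → Nat.card V ≠ p ^ 2 := fun V h1 h2 h3 => by
    haveI : (V.map R.subtype).Normal := ⟨by
      rintro _ ⟨v, hv, rfl⟩ g
      obtain ⟨e, he, r, hr, rfl⟩ := dec g
      refine ⟨_, h1.conj_mem v hv ⟨r, hr⟩, ?_⟩
      have := (⟨r, hr⟩ * v * ⟨r, hr⟩⁻¹ : R).2 e he
      change r * v * r⁻¹ = e * r * v * (e * r)⁻¹
      change e * (r * v * r⁻¹) = r * v * r⁻¹ * e at this
      rw [mul_inv_rev, ← mul_assoc, mul_assoc e, mul_assoc e, this, mul_inv_cancel_right]⟩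
    obtain ⟨_, ⟨v, hv, rfl⟩, h4, h5, h6⟩ := exists_central_mod_normal hG (V.map R.subtype) Z fun h => by
      have := card_le_of_le h
      rw [card_map_of_injective R.subtype_injective, h3, hZp] at this
      nlinarith [hp.out.two_le]
    exact h4 (hom _ (key _ ⟨h5, h6⟩ v.2) (congrArg Subtype.val (h2 v hv)))
  have hR : IsCyclic R ∨ (p = 2 ∧ 16 ≤ Nat.card R ∧ ((∃ m : ℕ, Nonempty (↥R ≃* DihedralGroup m)) ∨
      (∃ m : ℕ, Nonempty (↥R ≃* QuaternionGroup m)) ∨ IsQuasiDihedral ↥R)) := by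
    by_contra hc
    rw [not_or] at hc
    obtain ⟨hnc, hc⟩ := hc
    by_cases h2 : p = 2
    swap
    · obtain ⟨V, -, h3, h4, h5⟩ := exists_normal_elementary_sq h2 (hG.to_subgroup R) ⊤
        (isCyclic_top_iff.not.mpr hnc)
      exact noV V h3 h4.2 h5
    subst h2
    obtain ⟨a, b, m, hm, hmc⟩ := mc_of_normal_abelian_cyclic (hG.to_subgroup R) (fun A h1 h2 => by
      by_contra h3
      obtain ⟨V, -, h4, h5, h6⟩ := exists_invariant_elementary_sq_of_comm
        ((hG.to_subgroup R).to_subgroup ⊤) le_top (normal_iff_top_le_normalizer.mp h1) h2 h3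
      exact noV V (normal_iff_top_le_normalizer.mpr h4) h5.2 h6) hnc
    refine hc ⟨rfl, ?_, mc_cases'' hmc⟩
    rw [mc_card hmc]
    obtain ⟨m, rfl⟩ : ∃ k, m = k + 1 := ⟨m - 1, by omega⟩
    rcases m with _ | m
    swap
    · exact Nat.pow_le_pow_right two_pos (show 4 ≤ m + 1 + 1 + 2 by omega)
    exfalso
    have hcZ : ∀ x : R, x ∈ center R → (x : G) ∈ Z := fun x hx => by
      refine (mZ x).mpr ⟨?_, fun g => ?_⟩
      · rw [mc_center hmc] at hx
        obtain ⟨k, rfl⟩ := hx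
        have h4 := pow_orderOf_eq_one a
        rw [hmc.ord] at h4
        rw [← coe_pow, ← zpow_natCast, ← zpow_mul, mul_comm, zpow_mul, zpow_natCast, ← pow_mul]
        norm_num at h4 ⊢
        rw [← coe_pow, h4, coe_one, one_zpow]
      · obtain ⟨e, he, r, hr, rfl⟩ := dec g
        have h5 : r * x = x * r := congrArg Subtype.val (mem_center_iff.mp hx ⟨r, hr⟩)
        rw [← mul_assoc, ← x.2 e he, mul_assoc, ← h5, mul_assoc]
    obtain ⟨f⟩ := mc_quotient_center hmc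
    have d1 : ∀ x : DihedralGroup (2 ^ (0 + 1)), x ^ 2 = 1 := by decide
    have d2 : ∀ x y : DihedralGroup (2 ^ (0 + 1)), ⁅x, y⁆ = 1 := by decide
    refine hnc (isCyclic_of_le (H' := W) fun x hx => key x ⟨?_, fun g => ?_⟩ hx)
    · refine hcZ (⟨x, hx⟩ ^ 2) ((QuotientGroup.eq_one_iff _).mp (f.injective ?_))
      rw [QuotientGroup.mk_pow, map_pow, d1, map_one]
    · obtain ⟨e, he, r, hr, rfl⟩ := dec g
      have h5 := hcZ ⁅(⟨x, hx⟩ : R), (⟨r, hr⟩ : R)⁆ ((QuotientGroup.eq_one_iff _).mp (f.injective (by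
        rw [← QuotientGroup.mk'_apply, map_commutatorElement, map_commutatorElement, d2, map_one])))
      have h6 : ⁅x, e * r⁆ = e * ⁅x, r⁆ * e⁻¹ := by
        simp only [commutatorElement_def, mul_inv_rev, ← mul_assoc, ← hx e he]
      rw [h6]
      exact (inferInstance : Z.Normal).conj_mem _ h5 e
  rcases hEx with h | h
  · exact ⟨⊥, R, by simp, by rw [← htop, h, bot_sup_eq, sup_eq_right.mpr hZR], Or.inl rfl, hR⟩
  · exact ⟨E, R, fun e he r hr => hr e he, htop, Or.inr h, hR⟩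

end Cfsg.Agent.H23.PHall
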