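import Mathlib
import Cfsg.Agent.H23.PHall
import Cfsg.Agent.Core.CoprimeGen

set_option autoImplicit false

namespace Cfsg.Agent.H23.RegO

open Subgroup
open scoped commutatorElement _root_.Classical

universe u

variable {M V : Type*} [Group M] [Finite M] [CommGroup V] [MulDistribMulAction M V] {p : ℕ}

noncomputable def nm (H : Subgroup M) : V →* V :=
  haveI := Fintype.ofFinite H
  ∏ h : H, MulDistribMulAction.toMonoidHom V (h : M)

theorem nm_apply (H : Subgroup M) [Fintype H] (v : V) : nm H v = ∏ h : H, (h : M) • v := by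
  rw [nm, MonoidHom.finsetProd_apply]
  exact Finset.prod_congr (by congr; exact Subsingleton.elim _ _) fun _ _ => rfl

theorem nm_fix {H : Subgroup M} {a : M} (ha : a ∈ H) (v : V) : a • nm H v = nm H v := by
  haveI := Fintype.ofFinite H
  rw [nm_apply, Finset.smul_prod']
  exact Fintype.prod_equiv (Equiv.mulLeft ⟨a, ha⟩) _ _ fun h => by simp [mul_smul]

theorem nm_comm {H : Subgroup M} {a : M} (ha : ∀ h ∈ H, a * h = h * a) (v : V) :
    a • nm H v = nm H (a • v) := by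
  haveI := Fintype.ofFinite H
  rw [nm_apply, nm_apply, Finset.smul_prod']
  exact Finset.prod_congr rfl fun h _ => by rw [smul_smul, smul_smul, ha h h.2]

theorem nm_of_fix {H : Subgroup M} {v : V} (h : ∀ a ∈ H, a • v = v) : nm H v = v ^ Nat.card H := by
  haveI := Fintype.ofFinite H
  rw [nm_apply, Finset.prod_congr rfl fun (a : H) _ => h a a.2, Finset.prod_const, Finset.card_univ,
    Nat.card_eq_fintype_card]

theorem pow_inj [Fact p.Prime] (hV : (Nat.card V).Coprime p) {H : Subgroup M} (hH : IsPGroup p H) {a b : V}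
    (h : a ^ Nat.card H = b ^ Nat.card H) : a = b := by
  obtain ⟨k, hk⟩ := hH.exists_card_eq
  exact (hV.pow_right k).pow_left_bijective.1 (hk ▸ h)

def fx (V : Type*) [CommGroup V] [MulDistribMulAction M V] (H : Subgroup M) : Subgroup V where
  carrier := {v | ∀ a ∈ H, a • v = v}
  mul_mem' hu hv a ha := by rw [smul_mul', hu a ha, hv a ha]
  one_mem' a _ := smul_one a
  inv_mem' hu a ha := by rw [smul_inv', hu a ha]

theorem key [Fact p.Prime] (hM : IsPGroup p M) (hV : (Nat.card V).Coprime p) {Z : Subgroup M}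
    (hZ : Z ≤ center M) (hf : ∀ c ∈ Z, c ≠ 1 → ∀ v : V, c • v = v → v = 1) {x a b c : M} (ha : a ∈ Z)
    (hb : b ∈ Z) (hc : c ∈ Z) (ha1 : a ≠ 1) (hb1 : b ≠ 1) (hc1 : c ≠ 1) {w u w' u' : V}
    (h1 : x • w = w) (h2 : x • u = a • u) (h3 : x • w' = b • w') (h4 : x • u' = c • u')
    (e : w' * u' = w * u) : w = 1 := by
  have kill : ∀ d ∈ Z, d ≠ 1 → ∀ t : V, x • t = d • t → nm (zpowers x) t = 1 := fun d hd hd1 t ht => by
    refine hf d hd hd1 _ ?_
    rw [nm_comm (fun h _ => (mem_center_iff.mp (hZ hd) h).symm), ← ht, ← nm_comm, nm_fix (mem_zpowers x)]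
    rintro _ ⟨k, rfl⟩
    exact (Commute.refl x).zpow_right k
  have := congrArg (nm (zpowers x)) e
  rw [map_mul, map_mul, kill a ha ha1 u h2, kill b hb hb1 _ h3, kill c hc hc1 _ h4, one_mul, mul_one,
    nm_of_fix (fun y hy => (zpowers_le.mpr (show x ∈ MulAction.stabilizer M w from h1) hy :)),
    ← one_pow (Nat.card (zpowers x))] at this
  exact (pow_inj hV (hM.to_subgroup _) this).symm

theorem reg [hp : Fact p.Prime] (hp2 : p ≠ 2) (hM : IsPGroup p M) (hV : (Nat.card V).Coprime p)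
    {Z : Subgroup M} (hZ : Z ≤ center M) (hZp : Nat.card Z = p) (hc : ∀ x y : M, ⁅x, y⁆ ∈ Z)
    (hf : ∀ c ∈ Z, c ≠ 1 → ∀ v : V, c • v = v → v = 1) (n : ℕ) :
    ∀ (Q : Subgroup M) (W : Subgroup V), Nat.card Q = n → (∀ g ∈ Q, ∀ w ∈ W, g • w ∈ W) → W ≠ ⊥ →
      ∃ w ∈ W, w ≠ 1 ∧ ∀ g ∈ Q, g • w = w → ∀ h ∈ Q, g * h = h * g := by
  induction n using Nat.strong_induction_on with
  | _ n ih =>
  intro Q W hn hW hW1
  by_contra hne
  obtain ⟨⟨w₀, hw₀⟩, hw₁⟩ := ne_bot_iff_exists_ne_one.mp hW1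
  have hw₂ : w₀ ≠ 1 := fun h => hw₁ (Subtype.ext h)
  obtain ⟨x, hx, hxw, y, hy, hxy⟩ : ∃ x ∈ Q, x • w₀ = w₀ ∧ ∃ y ∈ Q, x * y ≠ y * x := by
    by_contra h
    push Not at h
    exact hne ⟨w₀, hw₀, hw₂, h⟩
  have cz : ∀ c ∈ Z, ∀ g, g * c = c * g := fun c h => mem_center_iff.mp (hZ h)
  let φ : M →* M := MonoidHom.mk' (fun h => ⁅x⁻¹, h⁻¹⁆) fun a b => by
    rw [show ⁅x⁻¹, (a * b)⁻¹⁆ = x⁻¹ * b⁻¹ * x * ⁅x⁻¹, a⁻¹⁆ * b by group, cz _ (hc x⁻¹ a⁻¹)]
    group
  have hφ : ∀ g, x * g = g * x * φ g := fun g => by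
    change _ = g * x * ⁅x⁻¹, g⁻¹⁆
    group
  have hφZ : ∀ g, φ g ∈ Z := fun g => hc _ _
  have typ : ∀ (g d : M) (t : V), d ∈ Z → x • t = d • t → x • g • t = (φ g * d) • g • t := fun g d t hd ht => by
    rw [smul_smul, hφ, mul_assoc, cz _ (hφZ g) x, mul_smul, mul_smul, ht, smul_smul, smul_smul, smul_smul,
      mul_assoc, cz _ (mul_mem (hφZ g) hd)]
  have hy1 : φ y ≠ 1 := fun h => hxy (by rw [hφ, h, mul_one])
  obtain ⟨w, hw, hw1, hwQ⟩ := ih _ (hn ▸ PGrp.card_lt_of_lt (H := Q ⊓ φ.ker) (lt_of_le_of_ne inf_le_left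
      fun h => hy1 (h.ge hy).2)) (Q ⊓ φ.ker) (W ⊓ fx V (zpowers x)) rfl
    (fun g hg w hw => ⟨hW g hg.1 w hw.1, fun a ha => (zpowers_le.mpr (show x ∈ MulAction.stabilizer M (g • w) from by
      have := typ g 1 w (one_mem _) (by rw [one_smul, hw.2 x (mem_zpowers x)])
      rwa [show φ g = 1 from hg.2, mul_one, one_smul] at this) ha :)⟩)
    (ne_bot_iff_exists_ne_one.mpr ⟨⟨w₀, hw₀, fun a ha =>
      (zpowers_le.mpr (show x ∈ MulAction.stabilizer M w₀ from hxw) ha :)⟩, fun h => hw₂ (congrArg Subtype.val h)⟩)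
  have t0 : x • w = (1 : M) • w := by rw [one_smul, hw.2 x (mem_zpowers x)]
  have t1 := typ y 1 w (one_mem _) t0
  rw [mul_one] at t1
  have sep : ∀ a b : V, x • a = a → x • b = φ y • b → a = b → a = 1 := fun a b h1 h2 h3 =>
    hf _ (hφZ y) hy1 a (by rw [h3, ← h2, ← h3, h1])
  refine hne ⟨w * y • w, mul_mem hw.1 (hW y hy w hw.1), fun h => hw1 (sep w (y • w)⁻¹ (t0.trans (one_smul _ _))
    (by rw [smul_inv', smul_inv', t1]) (eq_inv_of_mul_eq_one_left h)), fun g hg hgv => ?_⟩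
  rw [smul_mul'] at hgv
  have t2 := typ g 1 w (one_mem _) t0
  have t3 := typ g _ _ (hφZ y) t1
  rw [mul_one] at t2
  have hg1 : φ g = 1 := by
    by_contra h
    by_cases h2 : φ g * φ y = 1
    swap
    · exact hw1 (key hM hV hZ hf (hφZ y) (hφZ g) (mul_mem (hφZ g) (hφZ y)) hy1 h h2
        (t0.trans (one_smul _ _)) t1 t2 t3 hgv)
    have h3 : (φ y)⁻¹ * φ g ≠ 1 := fun h3 => by
      rw [inv_mul_eq_one] at h3
      rw [← h3, ← sq] at h2
      have h4 := orderOf_dvd_of_pow_eq_one h2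
      have h5 := orderOf_dvd_natCard (⟨_, hφZ y⟩ : Z)
      rw [hZp, orderOf_mk] at h5
      exact hy1 (orderOf_eq_one_iff.mp (Nat.eq_one_of_dvd_coprimes
        ((Nat.coprime_primes Nat.prime_two hp.out).mpr hp2.symm) h4 h5))
    refine hw1 ((smul_eq_iff_eq_inv_smul y).mp (key (x := (φ y)⁻¹ * x) (w := y • w) (u := w) (w' := g • w)
      (u' := g • y • w) hM hV hZ hf (inv_mem (hφZ y)) (mul_mem (inv_mem (hφZ y)) (hφZ g)) (hφZ g)
      (inv_ne_one.mpr hy1) h3 h ?_ ?_ ?_ ?_ (hgv.trans (mul_comm _ _))) |>.trans (smul_one _))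
    · rw [mul_smul, t1, inv_smul_smul]
    · rw [mul_smul, t0, one_smul]
    · rw [mul_smul, t2, mul_smul]
    · rw [mul_smul, t3, cz _ (hφZ y), mul_smul, inv_smul_smul]
  rw [hg1, one_smul] at t2
  rw [hg1, one_mul] at t3
  have s1 : g • w / w = 1 := sep _ (y • w / g • y • w) (by rw [smul_div', t2, t0, one_smul])
    (by rw [smul_div', smul_div', t1, t3]) (by rw [div_eq_div_iff_mul_eq_mul, hgv, mul_comm])
  rw [div_eq_one] at s1
  rw [s1, mul_right_inj] at hgv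
  have s2 : g * y = y * g := by
    by_contra h
    refine hw1 (hf _ (hc g⁻¹ y⁻¹) (fun e => h ?_) w ?_)
    · have := commutatorElement_eq_one_iff_mul_comm.mp e
      rw [← mul_inv_rev, ← mul_inv_rev, inv_inj] at this
      exact this.symm
    · rw [commutatorElement_def, inv_inv, inv_inv, mul_smul, mul_smul, hgv, mul_smul, inv_smul_smul,
        inv_smul_eq_iff, s1]
  intro h hh
  have hz : zpowers (φ y) = Z := by
    have h1 := card_dvd_of_le (zpowers_le.mpr (hφZ y))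
    refine PGrp.eq_of_le_of_card_le (zpowers_le.mpr (hφZ y)) ?_
    rw [hZp] at h1 ⊢
    exact (((Nat.dvd_prime hp.out).mp h1).resolve_left fun e => hy1 (by simpa using e)).ge
  obtain ⟨k, hk⟩ := hz.ge (hφZ h)
  have h1 := hwQ g ⟨hg, hg1⟩ s1 (h * y ^ (-k)) ⟨mul_mem hh (zpow_mem hy _), MonoidHom.mem_ker.mpr (by
    rw [map_mul, map_zpow, ← hk, ← zpow_add, add_neg_cancel, zpow_zero])⟩
  rw [mul_assoc, ← (show Commute g y from s2).zpow_right, ← mul_assoc, ← mul_assoc, mul_left_inj] at h1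
  exact h1

end Cfsg.Agent.H23.RegO
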