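import Mathlib
import Cfsg.Agent.H23.RegO
import Cfsg.Agent.Core.MinNormal
import Cfsg.Agent.Core.Cores
import Cfsg.Agent.H2.FrobQuot

set_option autoImplicit false

namespace Cfsg.Agent.H23.RegO

open Subgroup
open scoped commutatorElement _root_.Classical Pointwise

universe u

section
variable {M V : Type*} [Group M] [Finite M] [CommGroup V] [MulDistribMulAction M V] {p : ℕ}

def Good (V : Type*) [CommGroup V] [MulDistribMulAction M V] (P : Subgroup M) : Prop :=
  ∃ (v : V) (C : Subgroup M), C.Normal ∧ ¬ P ≤ C ∧ ∀ g ∈ P, g • v = v → g ∈ C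

theorem blocks [Fact p.Prime] (hV : (Nat.card V).Coprime p) {P B H C : Subgroup M} [hPn : P.Normal]
    [hBn : B.Normal] (hB : IsPGroup p B) (hBc : ∀ a ∈ B, ∀ b ∈ B, a * b = b * a) (hHB : H ≤ B)
    (hmax : ∀ K, H ≤ K → K ≤ B → fx V K ≠ ⊥ → K ≤ H) {w : V} (hw : w ∈ fx V H) (hw1 : w ≠ 1)
    (hC : normalizer (H : Set M) ⊔ P ≤ normalizer (C : Set M)) (hPC : ¬ P ≤ C)
    (h : ∀ g ∈ P, g ∈ normalizer (H : Set M) → g • w = w → g ∈ C) : Good V P := by
  have hH : IsPGroup p H := hB.to_le hHB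
  have n1 : ∀ n : M, nm H (n • w) ≠ 1 → n ∈ normalizer (H : Set M) := fun n hn =>
    PGrp.mem_normalizer_of_conj_mem fun a ha => by
      refine hmax (B ⊓ MulAction.stabilizer M (nm H (n • w))) (le_inf hHB fun b hb => nm_fix hb _) inf_le_left
        (ne_bot_iff_exists_ne_one.mpr ⟨⟨_, fun b hb => hb.2⟩, fun e => hn (congrArg Subtype.val e)⟩)
        ⟨hBn.conj_mem _ (hHB ha) n, ?_⟩
      change _ • _ = _
      rw [nm_comm fun b hb => hBc _ (hBn.conj_mem _ (hHB ha) n) _ (hHB hb), smul_smul, inv_mul_cancel_right,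
        mul_smul, hw a ha]
  have n2 : ∀ n ∈ normalizer (H : Set M), nm H (n • w) = (n • w) ^ Nat.card H := fun n hn =>
    nm_of_fix fun a ha => by
      rw [smul_smul, show a * n = n * (n⁻¹ * a * n) by group, mul_smul,
        hw _ (PGrp.conj_mem_of_mem_normalizer' hn ha)]
  let L := normalizer (H : Set M) ⊔ P
  haveI := Fintype.ofFinite (M ⧸ L)
  let v : V := ∏ q : M ⧸ L, q.out • w
  have n3 : ∀ (q : M ⧸ L), ∀ g ∈ P, nm H ((q.out⁻¹ * g) • v) = nm H ((q.out⁻¹ * g * q.out) • w) :=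
    fun q g hg => by
      rw [Finset.smul_prod', map_prod, Finset.prod_eq_single q (fun r _ hr => ?_) (by simp), smul_smul]
      by_contra hn
      rw [smul_smul] at hn
      apply hr
      rw [← q.out_eq', ← r.out_eq', eq_comm, QuotientGroup.eq,
        show q.out⁻¹ * r.out = (q.out⁻¹ * g * r.out) * (r.out⁻¹ * g⁻¹ * r.out⁻¹⁻¹) by group]
      exact mul_mem (mem_sup_left (n1 _ hn)) (mem_sup_right (hPn.conj_mem _ (inv_mem hg) _))
  refine ⟨v, C.normalCore, inferInstance, fun hc => hPC (hc.trans C.normalCore_le), fun g hg hgv m => ?_⟩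
  let q : M ⧸ L := (m⁻¹ : M)
  have e1 := n3 q g hg
  have e2 := n3 q 1 (one_mem _)
  rw [mul_one, inv_mul_cancel, n2 1 (one_mem _), one_smul] at e2
  rw [mul_smul, hgv, e2] at e1
  have e3 := n1 _ fun e => hw1 (pow_inj hV hH ((e1.trans e).trans (one_pow _).symm))
  rw [n2 _ e3] at e1
  have e4 := h _ (by simpa using hPn.conj_mem g hg q.out⁻¹) e3 (pow_inj hV hH e1.symm)
  have e5 : q.out⁻¹ * m⁻¹ ∈ L := QuotientGroup.eq.mp q.out_eq'
  have := PGrp.conj_mem_of_mem_normalizer' (hC e5) e4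
  rwa [show (q.out⁻¹ * m⁻¹)⁻¹ * (q.out⁻¹ * g * q.out) * (q.out⁻¹ * m⁻¹) = m * g * m⁻¹ by group] at this

theorem exists_fix [hp : Fact p.Prime] [Nontrivial V] (hV : (Nat.card V).Coprime p) {B : Subgroup M}
    (hB : IsPGroup p B) (hBc : IsMulCommutative B) (hn : ¬ IsCyclic B) :
    ∃ b ∈ B, b ≠ 1 ∧ ∃ v : V, v ≠ 1 ∧ b • v = v := by
  by_contra hne
  push Not at hne
  letI : CommGroup B := { (inferInstance : Group B) with mul_comm := hBc.is_comm.comm }
  obtain ⟨q, a, b, hq, ha, hb, hb1, hab⟩ := Core.exists_two_of_not_isCyclic hn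
  have ho := orderOf_eq_prime (hp := ⟨hq⟩) hb hb1
  obtain ⟨k, hk⟩ := IsPGroup.iff_orderOf.mp hB b
  have hqp : q = p := (Nat.prime_dvd_prime_iff_eq hq hp.out).mp (hq.dvd_of_dvd_pow (ho.symm.trans hk).dvd)
  let f : B →* Monoid.End V := (MulDistribMulAction.toMonoidEnd M V).comp B.subtype
  have hf : ∀ c : B, c ≠ 1 → ∀ w, f c w = w → w ∈ (⊥ : Subgroup V) := fun c hc w hw => by
    by_contra h
    exact hne c c.2 (fun e => hc (Subtype.ext e)) w h hw
  obtain ⟨w, hw⟩ := exists_ne (1 : V)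
  have := Core.pow_mem_of_fixed_le (f a) (f b) ((Commute.all a b).map f) (by rw [← map_pow, ha, map_one])
    (by rw [← map_pow, hb, map_one]) ⊥ (fun i _ => by
      rw [← map_pow, ← map_mul]
      refine hf _ fun e => hab ?_
      rw [eq_inv_of_mul_eq_one_left e]
      exact inv_mem (pow_mem (mem_zpowers b) i)) (fun j h1 h2 => by
      rw [← map_pow]
      exact hf _ (pow_ne_one_of_lt_orderOf h1.ne' (ho ▸ h2))) w
  rw [mem_bot, hqp, ← one_pow p] at this
  exact hw (hV.pow_left_bijective.1 this)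

theorem base [hp : Fact p.Prime] [Nontrivial V] (hp2 : p ≠ 2) (hV : (Nat.card V).Coprime p) {P : Subgroup M}
    [P.Normal] (hP : IsPGroup p P) (hP1 : P ≠ ⊥)
    (hs : ∀ A : Subgroup P, A.Characteristic → IsMulCommutative A → IsCyclic A)
    (hf : ∀ N : Subgroup M, N.Normal → N ≠ ⊥ → fx V N = ⊥) : Good V P := by
  haveI : Nontrivial P := (nontrivial_iff_ne_bot _).mpr hP1
  have hZ := hs (center P) inferInstance inferInstance
  have fz : ∀ c ∈ center P, c ≠ 1 → ∀ v : V, c • v = v → v = 1 := fun c hc hc1 v hv => by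
    haveI := H2.characteristic_of_isCyclic ((zpowers c).subgroupOf (center P))
    have h0 : (((zpowers c).subgroupOf (center P)).map (center P).subtype).Characteristic := inferInstance
    rw [map_subgroupOf_eq_of_le (zpowers_le.mpr hc)] at h0
    have := hf ((zpowers c).map P.subtype) inferInstance (by simpa using hc1)
    rw [← mem_bot, ← this]
    rintro _ ⟨a, ha, rfl⟩
    exact (zpowers_le.mpr (show c ∈ MulAction.stabilizer P v from hv) ha :)
  obtain ⟨E, R, h1, h2, h3, h4⟩ := PHall.main hP hs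
  have hR := h4.resolve_right fun h => hp2 h.1
  obtain ⟨Z, hZ1, hZ2, hZ3⟩ : ∃ Z : Subgroup P, Z ≤ center P ∧ Nat.card Z = p ∧ ∀ x ∈ E, ∀ y ∈ E, ⁅x, y⁆ ∈ Z := by
    rcases h3 with rfl | h3
    · obtain ⟨z, -, h5, h6⟩ := PGrp.exists_mem_center_orderOf_eq hP ⊤ top_ne_bot
      exact ⟨zpowers z, zpowers_le.mpr h5, by rw [Nat.card_zpowers, h6], by simp⟩
    · obtain ⟨-, h5, h6, -⟩ := PGrp.isExtraspecial_iff.mp h3
      refine ⟨_, fun z hz => mem_center_iff.mpr fun g => ?_, h5, fun x hx y hy => h6 ▸ commutator_mem_commutator hx hy⟩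
      have : E ⊔ R ≤ centralizer {z} := sup_le (fun e he => mem_centralizer_singleton_iff.mpr (hz.2 e he))
        fun r hr => mem_centralizer_singleton_iff.mpr (h1 z hz.1 r hr).symm
      exact mem_centralizer_singleton_iff.mp (this (h2 ▸ mem_top g))
  have hRZ : ∀ r ∈ R, ∀ g, g * r = r * g := fun r hr g => by
    have : E ⊔ R ≤ centralizer {r} := sup_le (fun e he => mem_centralizer_singleton_iff.mpr (h1 e he r hr))
      fun s hs => mem_centralizer_singleton_iff.mpr (Core.comm_of_isMulCommutative inferInstance hs hr)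
    exact mem_centralizer_singleton_iff.mp (this (h2 ▸ mem_top g))
  have dec : ∀ g : P, ∃ e ∈ E, ∃ r ∈ R, e * r = g := fun g =>
    (PGrp.mem_sup_of_le_normalizer (fun r hr => PGrp.mem_normalizer_of_conj_mem fun e he => by
      rwa [← hRZ r hr, mul_inv_cancel_right])).mp (h2 ▸ mem_top g)
  obtain ⟨v, -, hv1, hv⟩ := reg (V := V) hp2 hP hV hZ1 hZ2 (fun x y => by
      obtain ⟨e, he, r, hr, rfl⟩ := dec x
      obtain ⟨e', he', r', hr', rfl⟩ := dec y
      have : ⁅e * r, e' * r'⁆ = ⁅e, e'⁆ := by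
        rw [commutatorElement_def, commutatorElement_def, mul_inv_rev, mul_inv_rev, mul_assoc e r, ← hRZ r hr,
          mul_assoc e, mul_assoc _ r, mul_inv_cancel_left, mul_assoc e', ← hRZ r' hr']
        group
      exact this ▸ hZ3 e he e' he')
    (fun c hc => fz c (hZ1 hc)) _ ⊤ ⊤ rfl (fun _ _ _ _ => mem_top _) top_ne_bot
  refine ⟨v, ⊥, inferInstance, fun h => hP1 (le_bot_iff.mp h), fun g hg hgv => ?_⟩
  by_contra h
  exact hv1 (fz ⟨g, hg⟩ (mem_center_iff.mpr fun k => (hv ⟨g, hg⟩ (mem_top _) hgv k (mem_top _)).symm)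
    (fun e => h (congrArg Subtype.val e)) v hgv)

end

theorem star {p : ℕ} [hp : Fact p.Prime] (hp2 : p ≠ 2) (n : ℕ) : ∀ (V : Type u) [CommGroup V] [Finite V]
    [Nontrivial V], Nat.card V = n → (Nat.card V).Coprime p → ∀ (M : Type u) [Group M] [Finite M]
    [MulDistribMulAction M V] (P : Subgroup M) [P.Normal], IsPGroup p P → fx V P = ⊥ → Good V P := by
  induction n using Nat.strong_induction_on with
  | _ n ih =>
  intro V _ _ _ hn hV
  suffices h : ∀ (M : Type u) [Group M] [Finite M] [MulDistribMulAction M V] (P : Subgroup M) [P.Normal],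
      (∀ g : M, (∀ v : V, g • v = v) → g = 1) → IsPGroup p P → fx V P = ⊥ → Good V P by
    intro M _ _ _ P _ hP hfx
    let ρ := (MulDistribMulAction.toMulAut M V).rangeRestrict
    have hρ : Function.Surjective ρ := MonoidHom.rangeRestrict_surjective _
    haveI := (inferInstance : P.Normal).map ρ hρ
    obtain ⟨v, C, h1, h2, h3⟩ := h _ (P.map ρ) (fun g hg => Subtype.ext (MulEquiv.ext hg)) (hP.map ρ)
      (eq_bot_iff.mpr fun v hv => hfx.le fun a ha => hv _ (mem_map_of_mem ρ ha))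
    exact ⟨v, C.comap ρ, inferInstance, fun e => h2 (map_le_iff_le_comap.mpr e),
      fun g hg hgv => h3 _ (mem_map_of_mem ρ hg) hgv⟩
  intro M _ _ _ P hPn hF hP hfx
  have sub : ∀ (L : Subgroup M) (W : Subgroup V), (∀ g ∈ L, ∀ w ∈ W, g • w ∈ W) → W ≠ ⊥ → W ≠ ⊤ → P ≤ L →
      ∃ w ∈ W, ∃ C : Subgroup M, L ≤ normalizer (C : Set M) ∧ ¬ P ≤ C ∧ ∀ g ∈ P, g • w = w → g ∈ C :=
    fun L W h1 h2 h3 h4 => by
      haveI : Nontrivial W := (nontrivial_iff_ne_bot _).mpr h2
      letI : MulDistribMulAction L W :=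
        { smul := fun g w => ⟨(g : M) • (w : V), h1 g g.2 w w.2⟩
          one_smul := fun w => Subtype.ext (one_smul M (w : V))
          mul_smul := fun a b w => Subtype.ext (mul_smul (a : M) b (w : V))
          smul_mul := fun a w w' => Subtype.ext (smul_mul' (a : M) (w : V) w')
          smul_one := fun a => Subtype.ext (smul_one (a : M)) }
      obtain ⟨w, C, h5, h6, h7⟩ := ih _ (by
          rw [← hn, ← card_top (G := V)]; exact PGrp.card_lt_of_lt (lt_top_iff_ne_top.mpr h3)) W rfl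
        (hV.coprime_dvd_left (card_subgroup_dvd_card W)) L (P.subgroupOf L) (hP.comap_subtype)
        (eq_bot_iff.mpr fun v hv => Subtype.ext (hfx.le fun a ha => congrArg Subtype.val (hv ⟨a, h4 ha⟩ ha)))
      refine ⟨w, w.2, C.map L.subtype, fun g hg => PGrp.mem_normalizer_of_conj_mem ?_,
        fun e => h6 fun a ha => ?_, fun g hg hgw => ⟨⟨g, h4 hg⟩, h7 _ hg (Subtype.ext hgw), rfl⟩⟩
      · rintro _ ⟨c, hc, rfl⟩
        exact ⟨_, h5.conj_mem c hc ⟨g, hg⟩, rfl⟩
      · obtain ⟨c, hc, e⟩ := e ha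
        exact (Subtype.ext e : c = a) ▸ hc
  have ntop : ∀ N : Subgroup M, N ≠ ⊥ → fx V N ≠ ⊤ := fun N hN h =>
    hN (eq_bot_iff.mpr fun a ha => hF a fun v => h.ge (mem_top v) a ha)
  have finv : ∀ N : Subgroup M, ∀ g ∈ normalizer (N : Set M), ∀ w ∈ fx V N, g • w ∈ fx V N :=
    fun N g hg w hw a ha => by
      rw [smul_smul, show a * g = g * (g⁻¹ * a * g) by group, mul_smul,
        hw _ (PGrp.conj_mem_of_mem_normalizer' hg ha)]
  by_cases hf : ∀ N : Subgroup M, N.Normal → N ≠ ⊥ → fx V N = ⊥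
  swap
  · push Not at hf
    obtain ⟨N, h1, h2, h3⟩ := hf
    obtain ⟨w, -, C, h4, h5⟩ := sub ⊤ (fx V N) (fun g _ => finv N g (PGrp.mem_normalizer_of_normal N g)) h3
      (ntop N h2) le_top
    exact ⟨w, C, PGrp.normal_iff_top_le_normalizer.mpr h4, h5⟩
  by_cases hs : ∀ A : Subgroup P, A.Characteristic → IsMulCommutative A → IsCyclic A
  · refine base hp2 hV hP (fun h => ?_) hs hf
    obtain ⟨v, hv⟩ := exists_ne (1 : V)
    exact hv (hfx.le fun a ha => by rw [h, mem_bot] at ha; rw [ha, one_smul])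
  push Not at hs
  obtain ⟨A, h1, h2, h3⟩ := hs
  let B := A.map P.subtype
  have hBP : B ≤ P := map_subtype_le A
  obtain ⟨b, hb, hb1, v, hv1, hv⟩ := exists_fix (V := V) hV (hP.to_le hBP) inferInstance
    fun h => h3 (isCyclic_of_surjective _ (A.equivMapOfInjective _ P.subtype_injective).symm.surjective)
  obtain ⟨H, hbH, ⟨hHB, hH⟩, hmax⟩ := Set.Finite.exists_le_maximal (Set.toFinite {K | K ≤ B ∧ fx V K ≠ ⊥})
    (a := zpowers b) ⟨zpowers_le.mpr hb, ne_bot_iff_exists_ne_one.mpr ⟨⟨v, fun a ha =>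
      (zpowers_le.mpr (show b ∈ MulAction.stabilizer M v from hv) ha :)⟩, fun h => hv1 (congrArg Subtype.val h)⟩⟩
  have bl := fun (C : Subgroup M) (w : V) => blocks (P := P) (C := C) (w := w) hV (hP.to_le hBP)
    (fun a ha b hb => Core.comm_of_isMulCommutative inferInstance ha hb) hHB fun K h1 h2 h3 => hmax ⟨h2, h3⟩ h1
  by_cases hPN : P ≤ normalizer (H : Set M)
  · obtain ⟨w, hw, C, h4, h5, h6⟩ := sub _ _ (finv H) hH
      (ntop H fun h => hb1 (mem_bot.mp (h ▸ hbH (mem_zpowers b)))) hPN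
    exact bl C w hw (fun e => h5 fun g hg => h6 g hg (by rw [e, smul_one])) (sup_le h4 (hPN.trans h4)) h5
      fun g hg _ => h6 g hg
  · obtain ⟨⟨w, hw⟩, hw1⟩ := ne_bot_iff_exists_ne_one.mp hH
    refine bl ((P ⊓ normalizer (H : Set M)) ⊔ ⁅P, P⁆) w hw (fun e => hw1 (Subtype.ext e)) (sup_le ?_ ?_)
      (fun h => hPN ?_) fun g h4 h5 _ => mem_sup_left ⟨h4, h5⟩
    · exact Core.le_normalizer_sup (Core.le_normalizer_inf (fun g _ => PGrp.mem_normalizer_of_normal P g)
        le_normalizer) fun g _ => PGrp.mem_normalizer_of_normal _ g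
    · exact PGrp.le_normalizer_of_commutator_le le_sup_right
        (commutator_mono (sup_le inf_le_left (commutator_le_left _ _)) le_rfl)
    · by_contra hc
      obtain ⟨K, h4, h5, h6⟩ := PGrp.exists_normal_index_prime_ge hP
        (H := (normalizer (H : Set M)).subgroupOf P) fun e => hc (subgroupOf_eq_top.mp e)
      have h7 : P ≤ K.map P.subtype := h.trans (sup_le (fun g hg => ⟨⟨g, hg.1⟩, h6 hg.2, rfl⟩)
        (PGrp.map_commutator_subtype P ▸ map_mono (PGrp.commutator_le_of_index_prime hp.out h5)))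
      have h8 : K = ⊤ := eq_top_iff.mpr fun g _ => by
        obtain ⟨k, hk, e⟩ := h7 g.2
        exact (Subtype.ext e : k = g) ▸ hk
      rw [h8, index_top] at h5
      exact hp.out.one_lt.ne h5

end Cfsg.Agent.H23.RegO
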