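import Mathlib
import Cfsg.Agent.H23.RegO2

set_option autoImplicit false

namespace Cfsg.Agent.H23.B2

open Subgroup RegO
open scoped commutatorElement _root_.Classical

universe u

def Inv (M : Type*) {V : Type*} [Group M] [CommGroup V] [MulDistribMulAction M V] (W : Subgroup V) : Prop :=
  ∀ (a : M), ∀ w ∈ W, a • w ∈ W

def CR (M V : Type*) [Group M] [CommGroup V] [MulDistribMulAction M V] : Prop :=
  ∀ U : Subgroup V, Inv M U → ∃ W, Inv M W ∧ U ⊓ W = ⊥ ∧ U ⊔ W = ⊤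

def Bs (M V : Type*) [Group M] [CommGroup V] [MulDistribMulAction M V] : Prop :=
  ∃ v w : V, ∀ a : M, a • v = v → a • w = w → ∀ x : V, a • x = x

def IH (n : ℕ) : Prop :=
  ∀ (M V : Type u) [Group M] [Finite M] [CommGroup V] [Finite V] [MulDistribMulAction M V],
    Nat.card M * Nat.card V < n → Odd (Nat.card M) → Group.IsSolvable M → CR M V → Bs M V

@[reducible] def res {M V : Type*} [Group M] [CommGroup V] [MulDistribMulAction M V] (L : Subgroup M)
    (W : Subgroup V) (h : ∀ g ∈ L, ∀ w ∈ W, g • w ∈ W) : MulDistribMulAction L W where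
  smul g w := ⟨(g : M) • (w : V), h g g.2 w w.2⟩
  one_smul w := Subtype.ext (one_smul M (w : V))
  mul_smul a b w := Subtype.ext (mul_smul (a : M) b (w : V))
  smul_mul a w w' := Subtype.ext (smul_mul' (a : M) (w : V) w')
  smul_one a := Subtype.ext (smul_one (a : M))

theorem cr_of_irr {M V : Type*} [Group M] [CommGroup V] [MulDistribMulAction M V]
    (h : ∀ U : Subgroup V, Inv M U → U = ⊥ ∨ U = ⊤) : CR M V := fun U hU => by
  rcases h U hU with rfl | rfl
  · exact ⟨⊤, fun _ _ _ => mem_top _, by simp, by simp⟩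
  · exact ⟨⊥, fun a w hw => by rw [mem_bot.mp hw, smul_one]; exact one_mem _, by simp, by simp⟩

theorem Bs.ne {M V : Type*} [Group M] [CommGroup V] [MulDistribMulAction M V] [Nontrivial V] (h : Bs M V) :
    ∃ v w : V, w ≠ 1 ∧ v ≠ w ∧ ∀ a : M, a • v = v → a • w = w → ∀ x : V, a • x = x := by
  obtain ⟨v, w, h⟩ := h
  by_cases h1 : w = 1
  · subst h1
    by_cases h2 : v = 1
    · obtain ⟨x, hx⟩ := exists_ne (1 : V)
      exact ⟨1, x, hx, hx.symm, fun a h1 _ => h a (h2 ▸ h1) h1⟩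
    · exact ⟨1, v, h2, Ne.symm h2, fun a h1 h2 => h a h2 h1⟩
  by_cases h2 : v = w
  · exact ⟨1, w, h1, Ne.symm h1, fun a _ h3 => h a (h2 ▸ h3) h3⟩
  · exact ⟨v, w, h1, h2, h⟩

variable {A : Type*} [Group A]

theorem mem_of_sq (ho : Odd (Nat.card A)) {H : Subgroup A} {a : A} (h : a * a ∈ H) : a ∈ H :=
  PGrp.mem_of_pow_mem_of_coprime (Nat.coprime_two_left.mpr ho) (sq a ▸ h) (by rw [pow_card_eq_one']; exact one_mem H)

theorem odd_inv (ho : Odd (Nat.card A)) {n x : A} (h : n * x * n⁻¹ = x⁻¹) : x = 1 := by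
  have h1 : n ∈ centralizer {x} := mem_of_sq ho (mem_centralizer_singleton_iff.mpr (by
    rw [← mul_inv_eq_iff_eq_mul, show n * n * x * (n * n)⁻¹ = n * (n * x * n⁻¹) * n⁻¹ by group, h,
      show n * x⁻¹ * n⁻¹ = (n * x * n⁻¹)⁻¹ by group, h, inv_inv]))
  rw [mem_centralizer_singleton_iff.mp h1, mul_inv_cancel_right, eq_inv_iff_mul_eq_one] at h
  exact mem_bot.mp (mem_of_sq ho (h ▸ one_mem _))

def Gl (N : Subgroup A) : Prop :=
  ∃ f : A → Prop, (∀ x, ∀ n ∈ N, f (x * n) ↔ f x) ∧ ∀ a, (∀ x, f (a * x) ↔ f x) → a ∈ N.normalCore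

theorem gl_trans (ho : Odd (Nat.card A)) {N₀ N : Subgroup A} (h : N₀ ≤ N) (h1 : Gl (N₀.subgroupOf N))
    (h2 : Gl N) : Gl N₀ := by
  obtain ⟨f, f1, f2⟩ := h1
  obtain ⟨g, g1, g2⟩ := h2
  let c : A → N := fun x => ⟨(x : A ⧸ N).out⁻¹ * x, QuotientGroup.eq.mp (QuotientGroup.out_eq' _)⟩
  have hc : ∀ x (n : N), c (x * n) = c x * n := fun x n => Subtype.ext (by
    change _⁻¹ * _ = _⁻¹ * x * n
    rw [QuotientGroup.mk_mul_of_mem x n.2, mul_assoc])
  refine ⟨fun x => g x ↔ f (c x), fun x n hn => by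
    beta_reduce
    rw [g1 x n (h hn), hc x ⟨n, h hn⟩, f1 _ _ (show (⟨n, h hn⟩ : N) ∈ N₀.subgroupOf N from hn)], fun a ha => ?_⟩
  have key : ∀ x (y : N), (g (a * x) ↔ f (c (a * x) * y)) ↔ (g x ↔ f (c x * y)) := fun x y => by
    have := ha (x * y)
    beta_reduce at this
    rwa [← mul_assoc, g1 _ _ y.2, g1 _ _ y.2, hc, hc] at this
  have h3 : a ∈ N.normalCore := g2 a fun x => by
    by_contra hn
    have h4 : ∀ y : N, f (c (a * x) * (c x)⁻¹ * y) ↔ ¬ f y := fun y => by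
      have := key x ((c x)⁻¹ * y)
      rw [mul_inv_cancel_left, ← mul_assoc] at this
      tauto
    have h5 : ∀ k : ℕ, ∀ y : N, f ((c (a * x) * (c x)⁻¹) ^ (2 * k) * y) ↔ f y := fun k => by
      induction k with
      | zero => simp
      | succ k ih => intro y; rw [mul_add, pow_add, mul_assoc, ih, mul_one, sq, mul_assoc, h4, h4, not_not]
    obtain ⟨k, hk⟩ := ho.of_dvd_nat (card_subgroup_dvd_card N)
    have := h5 k (c (a * x) * (c x)⁻¹ * 1)
    rw [← mul_assoc, ← pow_succ, ← hk, pow_card_eq_one', one_mul, h4] at this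
    tauto
  intro b
  have e : ((a * b⁻¹ : A) : A ⧸ N) = (b⁻¹ : A) := by
    rw [QuotientGroup.eq, show (a * b⁻¹)⁻¹ * b⁻¹ = (b * a * b⁻¹)⁻¹ by group]
    exact inv_mem (h3 b)
  have h4 := f2 (c (a * b⁻¹) * (c b⁻¹)⁻¹) (fun y => by
    have := key b⁻¹ ((c b⁻¹)⁻¹ * y)
    have h5 := g1 b⁻¹ _ (h3 b)
    rw [show b⁻¹ * (b * a * b⁻¹) = a * b⁻¹ by group] at h5
    rw [mul_inv_cancel_left, ← mul_assoc] at this
    tauto) (c b⁻¹)⁻¹
  rw [mem_subgroupOf] at h4
  convert h4 using 1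
  simp only [c, coe_mul, InvMemClass.coe_inv, e]
  group

theorem gl_quot {K N : Subgroup A} [K.Normal] (h : K ≤ N) (h1 : Gl (N.map (QuotientGroup.mk' K))) : Gl N := by
  obtain ⟨f, f1, f2⟩ := h1
  refine ⟨fun x => f x, fun x n hn => f1 x n ⟨n, hn, rfl⟩, fun a ha b => ?_⟩
  have := f2 a (fun x => by obtain ⟨x, rfl⟩ := QuotientGroup.mk_surjective x; exact ha x) b
  rw [← comap_map_eq_self (f := QuotientGroup.mk' K) (H := N) (by simpa using h)]
  exact this

theorem gl_prim {n : ℕ} (ih : IH.{u} n) {A : Type u} [Group A] [Finite A] (hn : Nat.card A < n)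
    (ho : Odd (Nat.card A)) (hs : Group.IsSolvable A) {N : Subgroup A} (hN : IsCoatom N)
    (hc : N.normalCore = ⊥) : Gl N := by
  haveI : Nontrivial A := by
    by_contra h
    exact hN.1 (@Subsingleton.elim _ (by rw [not_nontrivial_iff_subsingleton] at h; infer_instance) _ _)
  obtain ⟨M, q, hM, hM1, -, -, hE, hmin⟩ := Core.exists_minimal_normal_elementary_le (⊤ : Subgroup A)
    inferInstance top_ne_bot
  have nb : ∀ K : Subgroup A, K.Normal → K ≤ N → K = ⊥ := fun K h1 h2 =>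
    le_bot_iff.mp (hc ▸ normal_le_normalCore.mpr h2)
  have hG : M ⊔ N = ⊤ := hN.2 _ (right_lt_sup.mpr fun h => hM1 (nb M hM h))
  have cN : ∀ {x y}, x ∈ M → y ∈ M → x * y = y * x := Core.comm_of_isMulCommutative hE.1
  have nrm : ∀ K : Subgroup A, (∀ m ∈ M, ∀ x ∈ K, m * x = x * m) → (∀ a ∈ N, ∀ x ∈ K, a * x * a⁻¹ ∈ K) →
      K.Normal := fun K h1 h2 => PGrp.normal_iff_top_le_normalizer.mpr (hG ▸ sup_le
    (fun v hv => PGrp.mem_normalizer_of_conj_mem fun x hx => by rwa [h1 v hv x hx, mul_inv_cancel_right])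
    fun a ha => PGrp.mem_normalizer_of_conj_mem (h2 a ha))
  have hMN : M ⊓ N = ⊥ := nb _ (nrm _ (fun m hm x hx => cN hm hx.1) fun a ha x hx =>
    ⟨hM.conj_mem x hx.1 a, N.mul_mem (N.mul_mem ha hx.2) (N.inv_mem ha)⟩) inf_le_right
  have dj : ∀ x ∈ M, x ∈ N → x = 1 := fun x h1 h2 => mem_bot.mp (hMN ▸ ⟨h1, h2⟩)
  letI : CommGroup M := { (inferInstance : Group M) with mul_comm := hE.1.is_comm.comm }
  letI : MulDistribMulAction N M := MulDistribMulAction.compHom M ((MulAut.conjNormal (H := M)).comp N.subtype)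
  haveI : Nontrivial M := (nontrivial_iff_ne_bot _).mpr hM1
  have hcard := PGrp.card_sup_mul_card_inf (N := M) (H := N) fun g _ => PGrp.mem_normalizer_of_normal M g
  rw [hG, hMN, card_top, card_bot, mul_one, mul_comm] at hcard
  obtain ⟨v, w, hw, -, h⟩ := (ih N M (hcard ▸ hn) (ho.of_dvd_nat (card_subgroup_dvd_card N)) inferInstance
    (cr_of_irr fun U hU => by
      rcases hmin (U.map M.subtype) (nrm _ (fun m hm x hx => cN hm (map_subtype_le U hx)) (by
        rintro a ha _ ⟨x, hx, rfl⟩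
        exact ⟨_, hU ⟨a, ha⟩ x hx, rfl⟩)) (map_subtype_le U) with h | h
      · exact Or.inl ((map_eq_bot_iff_of_injective _ M.subtype_injective).mp h)
      · exact Or.inr (eq_top_iff.mpr fun x _ => by
          obtain ⟨y, hy, e⟩ := h.ge x.2
          exact (Subtype.ext e : y = x) ▸ hy))).ne
  have reg : ∀ a ∈ N, a * v * a⁻¹ = v → a * w * a⁻¹ = w → a = 1 := fun a ha h1 h2 =>
    mem_bot.mp (nb (N ⊓ centralizer M) (nrm _ (fun m hm x hx => hx.2 m hm) fun b hb x hx =>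
      ⟨N.mul_mem (N.mul_mem hb hx.1) (N.inv_mem hb), (inferInstance : (centralizer (M : Set A)).Normal).conj_mem x hx.2 b⟩)
      inf_le_left ▸ ⟨ha, fun m hm => (mul_inv_eq_iff_eq_mul.mp
        (congrArg Subtype.val (h ⟨a, ha⟩ (Subtype.ext h1) (Subtype.ext h2) ⟨m, hm⟩))).symm⟩)
  obtain ⟨v, hv, w, hw, hb, reg⟩ : ∃ v ∈ M, ∃ w ∈ M, (∀ a ∈ N, a * v * a⁻¹ ≠ w⁻¹) ∧
      ∀ a ∈ N, a * v * a⁻¹ = v → a * w * a⁻¹ = w → a = 1 := by
    by_cases hb : ∀ a ∈ N, a * v * a⁻¹ ≠ (w : A)⁻¹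
    · exact ⟨v, v.2, w, w.2, hb, reg⟩
    push Not at hb
    obtain ⟨b, hb, e⟩ := hb
    refine ⟨v, v.2, (w : A)⁻¹, inv_mem w.2, fun a _ e' => hw (Subtype.ext (odd_inv ho (n := b * a⁻¹) ?_)),
      fun a ha h1 h2 => reg a ha h1 (by rw [← inv_inj, ← h2]; group)⟩
    rw [← e, ← inv_inv (w : A), ← e']
    group
  refine ⟨fun x => ∃ d ∈ ({1, v, w} : Set A), d⁻¹ * x ∈ N, fun x a ha =>
    exists_congr fun d => and_congr_right fun _ => by rw [← mul_assoc, mul_mem_cancel_right ha], fun a ha => ?_⟩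
  have sM : ∀ d ∈ ({1, v, w} : Set A), d ∈ M := by
    rintro d (rfl | rfl | rfl)
    exacts [one_mem _, hv, hw]
  obtain ⟨m, hm, h1⟩ := (ha 1).mpr ⟨1, by simp, by simp⟩
  rw [mul_one] at h1
  obtain ⟨b, hb', rfl⟩ : ∃ b ∈ N, a = m * b := ⟨_, h1, by group⟩
  have k1 : ∀ x ∈ M, ∀ d ∈ M, d⁻¹ * (m * b * x) ∈ N → m * (b * x * b⁻¹) = d := fun x hx d hd h => by
    have := dj (d⁻¹ * (m * (b * x * b⁻¹))) (mul_mem (inv_mem hd) (mul_mem (sM m hm) (hM.conj_mem x hx b)))
      (by simpa [mul_assoc] using mul_mem h (inv_mem hb'))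
    exact (inv_mul_eq_one.mp this).symm
  rw [hc, mem_bot]
  by_cases hm1 : m = 1
  · subst hm1
    have k2 : ∀ x ∈ ({1, v, w} : Set A), b * x * b⁻¹ ∈ ({1, v, w} : Set A) := fun x hx => by
      obtain ⟨d, hd, h⟩ := (ha x).mpr ⟨x, hx, by simp⟩
      rw [← one_mul (b * x * b⁻¹), k1 x (sM x hx) d (sM d hd) h]
      exact hd
    have k3 : ∀ x y : A, b * x * b⁻¹ = b * y * b⁻¹ → x = y := fun x y h => by simpa using h
    have k4 : ∀ x : A, b * x * b⁻¹ = 1 → b * x * b⁻¹ = x := fun x h => by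
      rw [k3 x 1 (by rw [h]; group)]; group
    rw [one_mul]
    have k5 : b * v * b⁻¹ = w → b * w * b⁻¹ = v → b = 1 := fun h1 h2 => mem_bot.mp (mem_of_sq ho (mem_bot.mpr
      (reg _ (mul_mem hb' hb') (by conv_rhs => rw [← h2, ← h1]
                                   group) (by conv_rhs => rw [← h1, ← h2]
                                              group))))
    rcases k2 v (by simp) with h1 | h1 | h1 <;> rcases k2 w (by simp) with h2 | h2 | h2
    all_goals first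
      | exact k5 h1 h2
      | exact reg b hb' (by grind) (by grind)
  · exfalso
    obtain ⟨d, hd, h⟩ := (ha (m * b)⁻¹).mp ⟨1, by simp, by simp⟩
    have h2 := k1 d (sM d hd) 1 (one_mem _) (by simpa using inv_mem h)
    have h3 : b * d * b⁻¹ = m⁻¹ := eq_inv_of_mul_eq_one_right h2
    have h4 : d ≠ m := fun e => hm1 (odd_inv ho (e ▸ h3))
    rcases hm with rfl | rfl | rfl
    · exact hm1 rfl
    all_goals rcases hd with rfl | rfl | rfl
    · exact hm1 (by simpa using h2)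
    · exact h4 rfl
    · exact hb b⁻¹ (inv_mem hb') (by rw [← inv_inv m, ← h3]; group)
    · exact hm1 (by simpa using h2)
    · exact hb b hb' h3
    · exact h4 rfl

theorem gluck {n : ℕ} (ih : IH.{u} n) (k : ℕ) : ∀ {A : Type u} [Group A] [Finite A], Nat.card A < n →
    Odd (Nat.card A) → Group.IsSolvable A → ∀ N : Subgroup A, Nat.card A + N.index = k → Gl N := by
  induction k using Nat.strong_induction_on with
  | _ k ih' =>
  intro A _ _ hn ho hs N hk
  by_cases h1 : N = ⊤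
  · exact ⟨fun _ => True, by simp, fun a _ b => h1 ▸ mem_top _⟩
  by_cases h2 : N.normalCore = ⊥
  swap
  · have h3 : Nat.card (A ⧸ N.normalCore) < Nat.card A := by
      rw [card_eq_card_quotient_mul_card_subgroup N.normalCore]
      exact lt_mul_of_one_lt_right Nat.card_pos ((one_lt_card_iff_ne_bot _).mpr h2)
    refine gl_quot N.normalCore_le (ih' _ ?_ (h3.trans hn) (ho.of_dvd_nat (card_quotient_dvd_card _))
      inferInstance _ rfl)
    rw [index_map_eq _ (QuotientGroup.mk'_surjective _) (by simpa using N.normalCore_le)]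
    omega
  obtain ⟨K, hK, hNK⟩ := PGrp.exists_coatom_ge h1
  rcases hNK.eq_or_lt with rfl | h3
  · exact gl_prim ih hn ho hs hK h2
  have h4 : Nat.card K < Nat.card A := by
    rw [← card_top (G := A)]
    exact PGrp.card_lt_of_lt hK.lt_top
  refine gl_trans ho hNK (ih' _ ?_ (h4.trans hn) (ho.of_dvd_nat (card_subgroup_dvd_card _)) inferInstance _ rfl)
    (ih' _ ?_ hn ho hs _ rfl)
  · have := Nat.le_of_dvd (Nat.pos_of_ne_zero index_ne_zero_of_finite) (relIndex_dvd_index_of_le hNK)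
    unfold relIndex at this
    omega
  · have := index_strictAnti h3
    omega

end Cfsg.Agent.H23.B2
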