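import Mathlib
import Cfsg.Agent.H23.Cnt2
import Cfsg.Agent.BG.AmbHall2
import Cfsg.Agent.BG.AmbCore

/-!
# Classes of `π`-elements and nilpotent Hall subgroups
-/

set_option autoImplicit false

namespace Cfsg.Agent.H23.Cnt

open Subgroup Cfsg.Agent.BG Cfsg.Agent.BG.Amb Cfsg.Agent.FGS
open scoped _root_.Classical Pointwise commutatorElement

universe u

section

variable {G : Type*} [Group G] [Finite G] {π σ : Set ℕ}

theorem wielandt_in {H L U : Subgroup G} (hH : Group.IsNilpotent H) (h : IsPiHallOf σ H L)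
    (hU : U ≤ L) (hσ : IsPiSubgroup σ U) : ∃ x ∈ L, MulAut.conj x • U ≤ H := by
  have e := subgroupOfEquivOfLe (hall_le h)
  obtain ⟨x, hx⟩ := Transfer.exists_le_conj_of_nilpotent_hall (H := H.subgroupOf L)
    (Group.nilpotent_of_mulEquiv e.symm) (by rw [Nat.card_congr e.toEquiv]; exact hall_coprime h)
    (U.subgroupOf L) fun s hs hd => by
      rw [Nat.card_congr (subgroupOfEquivOfLe hU).toEquiv] at hd
      rw [Nat.card_congr e.toEquiv]
      exact dvd_card_hall h hs (hσ s hs hd) (hd.trans (card_dvd_of_le hU))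
  refine ⟨x⁻¹, inv_mem x.2, Transfer.conj_smul_le_iff.2 fun y hy => ?_⟩
  rw [inv_inv]
  exact mem_subgroupOf.1 (mem_conj.1 (hx (x := ⟨y, hU hy⟩) hy))

theorem kpi_le_of_nil {H : Subgroup G} (hH : Group.IsNilpotent H) (h : IsPiHall π H) :
    kpi π G ≤ kS (H : Set G) := by
  rw [kpi_eq]
  refine kS_le_of_conj fun x hx => ?_
  obtain ⟨g, -, hg⟩ := wielandt_in hH (isPiHall_iff.1 h) le_top (pi_zpowers.2 hx)
  exact ⟨_, hg (conj_mem_conj.2 (mem_zpowers x)), isConj_iff.2 ⟨g, rfl⟩⟩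

theorem hall_of_npc {r : ℕ} [hr : Fact r.Prime] (hrσ : r ∉ σ) (hG : HasNormalPComplement r G)
    {H : Subgroup G} (hH : Group.IsNilpotent H) (h : IsPiHall σ H) :
    ∃ X : Subgroup G, IsPiHall (σ ∪ {r}) X ∧ kpi (σ ∪ {r}) G ≤ kS (X : Set G) := by
  let K := pResidual r G
  have hK : ∀ U : Subgroup G, IsPiSubgroup σ U → U ≤ K := fun U hU x hx =>
    (Transfer.mem_pResidual_iff_coprime hG).2 ((Nat.coprime_comm.trans hr.out.coprime_iff_not_dvd).2
      fun e => hrσ (piElem_of_mem hU hx r hr.out e))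
  have hKr : ¬ r ∣ Nat.card K := Transfer.hasNormalPComplement_iff_not_dvd.1 hG
  have hHK : IsPiHallOf σ H K := hall_of_le (isPiHall_iff.1 h) (hK H h.1) le_top
  have h1 : 𝐍(H) ⊔ K = ⊤ := eq_top_iff.2 fun g _ => by
    obtain ⟨x, hx, e⟩ := wielandt_in hH hHK (hK _ (isPiSubgroup_conj.2 h.1))
      (isPiSubgroup_conj (g := g).2 h.1)
    rw [Amb.conj_conj] at e
    have := mul_mem_sup (inv_mem hx) (mem_normalizer_of_conj_le e)
    rwa [inv_mul_cancel_left, sup_comm] at this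
  obtain ⟨R, hR⟩ := exists_sylow_le_of_not_dvd_index (p := r) (H := 𝐍(H)) (by
    rw [← relIndex_top_right, ← h1, relIndex_sup_normal]
    exact fun e => hKr (e.trans (relIndex_dvd_card _ _)))
  refine ⟨H ⊔ R, isPiHall_iff.2 (hall_sup_union (isPiHall_iff.1 h) (isPiHall_iff.1 (sylow_hall R))
    (pi_sup (pi_of_subset h.1 Set.subset_union_left)
      (pi_of_subset (sylow_hall R).1 Set.subset_union_right) hR)), ?_⟩
  rw [kpi_eq]
  refine kS_le_of_conj fun x hx => ?_
  obtain ⟨g, hg⟩ := Transfer.exists_conj_mem_sylow R (isPGroup_of_pi (pi_zpowers.2 (piPart_pi _ x)))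
  have hy := hg _ (mem_zpowers _)
  rw [← piPart_conj] at hy
  have hx' := piElem_conj (g := g) hx
  suffices ∃ y ∈ H ⊔ R, IsConj (g * x * g⁻¹) y by
    obtain ⟨y, h1, h2⟩ := this
    exact ⟨y, h1, (isConj_iff.2 ⟨g, rfl⟩).trans h2⟩
  generalize g * x * g⁻¹ = x at hy hx'
  let A := zpowers (piPart {r} x)
  have hA : IsPGroup r A := isPGroup_of_pi (pi_zpowers.2 (piPart_pi _ x))
  have hAH : A ≤ 𝐍(H) := (zpowers_le.2 hy).trans hR
  have h2 : IsPiHallOf σ (H ⊓ 𝐂(A)) (K ⊓ 𝐂(A)) := by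
    refine hall_mk (inf_le_inf_right _ (hall_le hHK)) (pi_mono h.1 inf_le_left)
      (piNat_compl_iff.2 fun s hs hsσ e => ?_)
    have := Fact.mk hs
    obtain ⟨S, hS⟩ := exists_sylow s H
    have := coprime_sylow_cent (A := A) le_normalizer_of_normal
      (pi_coprime (π := {r}ᶜ) ((pi_compl_singleton hr.out).2 hKr)
        (by rw [compl_compl]; exact pi_of_isPGroup hA rfl)) (Or.inl inferInstance)
      (sylow_of_hall hS hHK hsσ) (hAH.trans (nil_norm_le_norm_hall hH hS))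
    exact sylow_not_dvd this (e.trans (relIndex_dvd_of_le_left _ (inf_le_inf_right _ hS.1)))
  have h3 : IsPiNat σ (orderOf (piPart {r}ᶜ x)) := fun s hs e =>
    (piElem_of_mem_zpowers hx' (piPart_mem_zpowers _ _) s hs e).resolve_right (piPart_pi _ x s hs e)
  obtain ⟨c, hc, e⟩ := wielandt_in (nilpotent_mono hH inf_le_left) h2
    (U := zpowers (piPart {r}ᶜ x)) (le_inf (hK _ (pi_zpowers.2 h3)) (zpowers_le.2 fun y hy =>
      commute_of_mem_zpowers (zpowers_le.2 (piPart_mem_zpowers _ x) hy) (piPart_mem_zpowers _ x)))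
    (pi_zpowers.2 h3)
  refine ⟨_, mul_mem (mem_sup_right hy) (mem_sup_left (e (conj_mem_conj.2 (mem_zpowers _))).1),
    isConj_iff.2 ⟨c, ?_⟩⟩
  rw [← mul_assoc, ← mul_assoc, hc.2 _ (mem_zpowers _), mul_assoc c (piPart _ x), piPart_mul_compl]

theorem kpi_le_two {q : ℕ} [hq : Fact q.Prime] (Q : Sylow q G)
    (hc : IsMulCommutative (Q : Subgroup G)) :
    kpi (σ ∪ {q}) G ≤ kpi {q} G * kpi σ 𝐂((Q : Subgroup G)) +
      kpi σ G * (Nat.card (Q : Subgroup G) / q) := by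
  have h3 : ∀ x : G, IsPiNat (σ ∪ {q}) (orderOf x) → IsPiNat σ (orderOf (piPart {q}ᶜ x)) :=
    fun x hx s hs e => (piElem_of_mem_zpowers hx (piPart_mem_zpowers _ _) s hs e).resolve_right
      (piPart_pi _ x s hs e)
  rw [kpi_eq]
  refine le_trans (kS_le_of_conj (T := {x | IsPiNat (σ ∪ {q}) (orderOf x) ∧
      ¬ q ∣ 𝐂[piPart {q}ᶜ x].index} ∪ {x | IsPiNat (σ ∪ {q}) (orderOf x) ∧
      q ∣ 𝐂[piPart {q}ᶜ x].index}) fun x hx => ⟨x, ?_, IsConj.refl x⟩)
    ((kS_union_le _ _).trans (Nat.add_le_add ?_ ?_))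
  · exact (em _).elim (fun h => Or.inr ⟨hx, h⟩) fun h => Or.inl ⟨hx, h⟩
  · obtain ⟨R, hR, h1, h2⟩ := exists_reps ((Q : Subgroup G) : Set G)
    refine (kS_le_mul (ρ := σ) (R := R) (D := fun _ => 𝐂((Q : Subgroup G)))
      (fun r hr => centralizer_le (by simpa using hR hr)) (fun _ _ => le_rfl) ?_).trans
      (Nat.mul_le_mul_right _ (h1.trans (kpi_eq_kS Q).ge))
    rintro x ⟨hx, hd⟩
    obtain ⟨Q', e1, e2⟩ := exists_sylow_le_of_not_dvd_index' hd
      (isPGroup_of_pi (pi_zpowers.2 (piPart_pi _ x)))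
      (zpowers_le.2 (mem_cent1_iff_commute.2 (piPart_commute _ _ _)))
    obtain ⟨g, rfl⟩ := MulAction.exists_smul_eq G Q Q'
    have e3 := Transfer.mem_smul_sylow_iff.1 (e1 (mem_zpowers _))
    obtain ⟨r, hr, e4⟩ := h2 _ e3
    obtain ⟨a, rfl⟩ := isConj_iff.1 e4
    obtain ⟨v, hv, e5⟩ := Transfer.control_normalizer_of_abelian Q e3 (hR hr)
    have e6 : g⁻¹ * piPart {q}ᶜ x * g ∈ 𝐂((Q : Subgroup G)) := by
      rw [← mem_conj, conj_centralizer]
      exact fun y hy => mem_centralizer_singleton_iff.1 (e2 hy)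
    refine ⟨_, hr, _, (mem_normalizer_iff.1 (le_norm_cent le_rfl hv) _).1 e6, ?_,
      isConj_iff.2 ⟨v * g⁻¹, ?_⟩⟩
    · refine piElem_conj ?_
      simpa using piElem_conj (g := g⁻¹) (h3 x hx)
    · rw [← e5]
      nth_rw 1 [← piPart_mul_compl {q} x]
      group
  · obtain ⟨R, hR, h1, h2⟩ := exists_reps {h : G | IsPiNat σ (orderOf h) ∧ q ∣ 𝐂[h].index}
    refine (kS_le_mul (ρ := {q}) (R := R) (D := fun r => 𝐂[r]) (fun _ _ => le_rfl)
      (fun r hr => (kpi_le_pp _ _).trans ?_) ?_).trans (Nat.mul_le_mul_right _ (h1.trans ?_))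
    · rw [Nat.le_div_iff_mul_le hq.out.pos, ← pp_card (sylow_hall Q), ← 𝐂[r].card_mul_index,
        pp_mul Nat.card_pos.ne' index_ne_zero_of_finite]
      exact Nat.mul_le_mul_left _ (Nat.le_of_dvd (pp_pos _ index_ne_zero_of_finite)
        (dvd_pp index_ne_zero_of_finite ((piNat_prime hq.out).2 rfl) (hR hr).2))
    · rintro x ⟨hx, hd⟩
      obtain ⟨r, hr, e⟩ := h2 _ ⟨h3 x hx, hd⟩
      obtain ⟨a, rfl⟩ := isConj_iff.1 e
      refine ⟨_, hr, a * piPart {q} x * a⁻¹, ?_, piElem_conj (piPart_pi _ x),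
        isConj_iff.2 ⟨a, ?_⟩⟩
      · rw [← conj_centralizer_singleton, conj_mem_conj]
        exact mem_cent1_iff_commute.2 (piPart_commute _ _ _)
      · nth_rw 1 [← piPart_mul_compl {q} x, piPart_commute]
        group
    · rw [kpi_eq]
      exact kS_le_of_conj fun x hx => ⟨x, hx.1, IsConj.refl x⟩

end

theorem nil_hall_aux (n : ℕ) : ∀ (π : Finset ℕ), π.card = n → (∀ q ∈ π, q.Prime) →
    ∀ (G : Type u) [Group G] [Finite G] (p : ℕ), (∀ q ∈ π, p ≤ q) →
      pp π (Nat.card G) < p * kpi π G → ∃ H : Subgroup G, IsPiHall π H ∧ Group.IsNilpotent H := by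
  induction n with
  | zero =>
    intro π hn _ G _ _ p _ _
    rw [Finset.card_eq_zero.1 hn]
    exact ⟨⊥, isPiHall_iff.2 (hall_bot fun _ _ _ => by simp), inferInstance⟩
  | succ n ih =>
  intro π hn hπ G _ _ p hp h
  have hne : π.Nonempty := Finset.card_pos.1 (by omega)
  have hsub : ∀ {ρ : Set ℕ} {p : ℕ}, pp π (Nat.card G) < p * kpi π G → ρ ⊆ π →
      pp ρ (Nat.card G) < p * kpi ρ G := fun h hρ => by
    simpa using lt_of_subset (a := 1) hρ (by simpa using h)
  have he : ∀ r ∈ π, (π : Set ℕ) = (π.erase r : Set ℕ) ∪ {r} := fun r hr => by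
    simp [hr]
  have ih' : ∀ r ∈ π, ∀ (G : Type u) [Group G] [Finite G] (p : ℕ), (∀ q ∈ π, p ≤ q) →
      pp (π.erase r) (Nat.card G) < p * kpi (π.erase r) G →
        ∃ H : Subgroup G, IsPiHall (π.erase r) H ∧ Group.IsNilpotent H := fun r hr G _ _ p hp h =>
    ih _ (by rw [Finset.card_erase_of_mem hr, hn]; rfl)
      (fun q hq => hπ q (Finset.mem_of_mem_erase hq)) G p
      (fun q hq => hp q (Finset.mem_of_mem_erase hq)) h
  by_cases hA : ∃ r ∈ π, HasNormalPComplement r G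
  · obtain ⟨r, hr, hG⟩ := hA
    have := Fact.mk (hπ r hr)
    obtain ⟨H, h1, h2⟩ := ih' r hr G p hp (hsub h (Finset.coe_subset.2 (Finset.erase_subset _ _)))
    obtain ⟨X, h3, h4⟩ := hall_of_npc (by simp) hG h2 h1
    rw [← he r hr] at h3 h4
    refine ⟨X, h3, nilpotent_of_lt (p := p) (fun s hs e => hp s (h3.1 s hs e)) ?_⟩
    rw [← pp_card h3]
    exact h.trans_le (Nat.mul_le_mul_left _ (h4.trans (kS_le_classes X)))
  push Not at hA
  obtain ⟨q, hq, hmax⟩ := π.exists_max_image id hne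
  obtain ⟨t, ht, hmin⟩ := π.exists_min_image id hne
  have := Fact.mk (hπ q hq)
  have := Fact.mk (hπ t ht)
  obtain ⟨Q⟩ := Sylow.nonempty (p := q) (G := G)
  obtain ⟨T⟩ := Sylow.nonempty (p := t) (G := G)
  by_cases hqt : t = q
  · refine ⟨Q, ?_, Q.2.isNilpotent⟩
    rw [show (π : Set ℕ) = {q} from Set.eq_singleton_iff_unique_mem.2
      ⟨hq, fun s hs => le_antisymm (hmax s hs) (hqt ▸ hmin s hs)⟩]
    exact sylow_hall Q
  replace h := h.trans_le (Nat.mul_le_mul_right _ (hp t ht))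
  have ht2 : t ≠ 2 := by
    rintro rfl
    exact hA 2 ht (npc_two T (pp_card (sylow_hall T) ▸ hsub h (by simpa using ht)))
  have hq2 : t + 2 ≤ q := by
    have h1 : t ≤ q := hmin q hq
    obtain ⟨a, rfl⟩ := (hπ t ht).odd_of_ne_two ht2
    obtain ⟨b, rfl⟩ := (hπ q hq).odd_of_ne_two (by have := (hπ _ ht).two_le; omega)
    omega
  have hc : IsMulCommutative (Q : Subgroup G) := by
    have h1 := hsub h (ρ := {q}) (by simpa using hq)
    rw [pp_card (sylow_hall Q), kpi_eq_kS Q] at h1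
    refine comm_of_lt (le_of_dvd_card Q.2) ?_
    obtain ⟨u, rfl⟩ : ∃ u, q = t + u + 1 := ⟨q - t - 1, by omega⟩
    rw [show (t + u + 1) ^ 2 + (t + u + 1) - 1 = (t + u + 1) ^ 2 + (t + u) from rfl]
    refine (Nat.mul_lt_mul_of_pos_right h1 (by positivity)).trans_le ?_
    rw [mul_right_comm]
    exact Nat.mul_le_mul_right _ (by nlinarith [Nat.zero_le (u * (t + u + 1) ^ 2)])
  have hσ : ∀ s : ℕ, s.Prime → s ∣ pp (π.erase q) (Nat.card G) → t ≤ s := fun s hs e =>
    hmin s (Finset.mem_of_mem_erase (pp_pi _ Nat.card_pos.ne' s hs e))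
  have hd := pp_dvd_pp (π := π.erase q) Nat.card_pos.ne'
    (card_subgroup_dvd_card 𝐂((Q : Subgroup G)))
  by_cases hB : pp (π.erase q) (Nat.card G) < t * kpi (π.erase q) 𝐂((Q : Subgroup G))
  · obtain ⟨H, h1, h2⟩ := ih' q hq 𝐂((Q : Subgroup G)) t hmin
      ((Nat.le_of_dvd (pp_pos _ Nat.card_pos.ne') hd).trans_lt hB)
    have h3 : IsPiHall (π.erase q) (H.map 𝐂((Q : Subgroup G)).subtype) := by
      refine isPiHall_of_card ?_
      rw [card_subtype, ← pp_card h1]
      by_contra e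
      exact (mul_le_of_dvd_of_ne (pp_pos _ Nat.card_pos.ne').ne' hσ hd e).not_gt
        (hB.trans_le (Nat.mul_le_mul_left _ (kpi_le_pp _ _)))
    refine ⟨H.map 𝐂((Q : Subgroup G)).subtype ⊔ Q, ?_, nilpotent_sup_of_cent
      (Group.nilpotent_of_mulEquiv (H.equivMapOfInjective _ (subtype_injective _)))
      Q.2.isNilpotent (map_subtype_le _)⟩
    rw [he q hq]
    exact isPiHall_iff.2 (hall_sup_union (isPiHall_iff.1 h3) (isPiHall_iff.1 (sylow_hall Q))
      (pi_sup' (pi_of_subset h3.1 Set.subset_union_left)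
        (pi_of_subset (sylow_hall Q).1 Set.subset_union_right)
        ((map_subtype_le _).trans (centralizer_le_normalizer _))))
  exfalso
  have h1 := kpi_le_two (σ := π.erase q) Q hc
  rw [← he q hq] at h1
  have h2 := not_lt.1 fun e => hA q hq (npc_of_lt Q e).1
  have h3 := not_lt.1 fun e => hA t ht (npc_of_lt T (pp_card (sylow_hall T) ▸
    lt_of_subset (π := π.erase q) (by simpa using ⟨ht, hqt⟩) e)).1
  have h4 := Nat.mul_div_le (Nat.card (Q : Subgroup G)) q
  rw [pp_split π {q} Nat.card_pos.ne', Set.inter_eq_right.2 (by simpa using hq),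
    pp_card (sylow_hall Q), ← Set.sdiff_eq, ← Finset.coe_erase] at h
  push Not at hB
  generalize Nat.card (Q : Subgroup G) / q = c at *
  generalize Nat.card (Q : Subgroup G) = b at *
  generalize pp (π.erase q) (Nat.card G) = a at *
  have h5 := Nat.mul_le_mul h2 hB
  have h6 := Nat.mul_le_mul h3 h4
  have h7 := Nat.mul_le_mul_left (2 * q * t) h1
  have h8 := Nat.mul_le_mul_right (a * b) hq2
  have h9 := Nat.mul_lt_mul_of_pos_left h (show 0 < 2 * q by omega)
  nlinarith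

variable {G : Type*} [Group G] [Finite G] {π : Set ℕ}

theorem nil_hall {p : ℕ} (hp : ∀ q ∈ π, p ≤ q) (h : pp π (Nat.card G) < p * kpi π G) :
    ∃ H : Subgroup G, IsPiHall π H ∧ Group.IsNilpotent H := by
  obtain ⟨H, h1, h2⟩ := nil_hall_aux _ ((Nat.card G).primeFactors.filter (· ∈ π)) rfl
    (fun q hq => Nat.prime_of_mem_primeFactors (Finset.mem_filter.1 hq).1) G p
    (fun q hq => hp q (Finset.mem_filter.1 hq).2) (by
      rw [← one_mul (pp _ _)] at h ⊢
      exact lt_of_subset (fun q hq => (Finset.mem_filter.1 hq).2) h)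
  refine ⟨H, isPiHall_iff.2 (hall_congr (isPiHall_iff.1 h1) fun s hs e => ?_), h2⟩
  simpa [hs, Nat.card_pos.ne'] using fun _ => e

theorem exists_normal_compl (h : ∀ q ∈ π, q.Prime → HasNormalPComplement q G) :
    ∃ N : Subgroup G, N.Normal ∧ IsPiSubgroup πᶜ N ∧ IsPiNat π N.index := by
  let N : Subgroup G := ⨅ q : {q // q ∈ π ∧ q.Prime}, pResidual q G
  have hN : N.Normal := normal_iInf_normal fun _ => inferInstance
  have key : ∀ x, x ∈ N ↔ IsPiNat πᶜ (orderOf x) := fun x => by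
    rw [mem_iInf, piNat_compl_iff]
    refine ⟨fun hx q hq hq' => ?_, fun hx ⟨q, hq', hq⟩ => ?_⟩ <;> have := Fact.mk hq
    · exact hq.coprime_iff_not_dvd.1
        ((Transfer.mem_pResidual_iff_coprime (h q hq' hq)).1 (hx ⟨q, hq', hq⟩)).symm
    · exact (Transfer.mem_pResidual_iff_coprime (h q hq' hq)).2
        (hq.coprime_iff_not_dvd.2 (hx q hq hq')).symm
  refine ⟨N, hN, pi_iff_forall_mem.2 fun x => (key x).1, fun s hs e => by_contra fun hn => ?_⟩
  have := Fact.mk hs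
  obtain ⟨x, hx⟩ := exists_prime_orderOf_dvd_card' (G := G ⧸ N) s e
  obtain ⟨x, rfl⟩ := QuotientGroup.mk'_surjective N x
  obtain ⟨a, -, h1, j, h2⟩ := exists_pElement_lift (QuotientGroup.mk' N) (k := 1) x
    (hx.trans (pow_one s).symm)
  have h3 := (QuotientGroup.eq_one_iff a).2 ((key a).2 (h2 ▸ piNat_pow ((piNat_prime hs).2 hn) j))
  exact ne_one_of_orderOf_prime hs hx (h1.symm.trans h3)

theorem pp_eq_prod (π : Finset ℕ) (hπ : ∀ r ∈ π, r.Prime) {n : ℕ} (hn : n ≠ 0) :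
    π.prod (fun r => r ^ n.factorization r) = pp π n := by
  induction π using Finset.induction_on with
  | empty => exact (pp_eq hn (one_mul n).symm piNat_one fun _ _ _ => by simp).symm
  | insert r π hr ih =>
    have h := hπ r (Finset.mem_insert_self _ _)
    rw [Finset.prod_insert hr, ih fun s hs => hπ s (Finset.mem_insert_of_mem hs),
      pp_split (insert r π : Finset ℕ) {r} hn, Set.inter_eq_right.2 (by simp), ← Set.sdiff_eq,
      Finset.coe_insert, Set.insert_sdiff_self_of_notMem (by simpa using hr),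
      pp_eq hn (Nat.ordProj_mul_ordCompl_eq_self n r).symm (piNat_singleton_pow h _)
        ((piNat_compl_singleton h).2 (Nat.not_dvd_ordCompl h hn))]

theorem npc_of_two_mem (h2 : 2 ∈ π) (hπ : ∀ q ∈ π, q.Prime)
    (h : pp π (Nat.card G) < 2 * kpi π G) : ∀ q ∈ π, q.Prime → HasNormalPComplement q G := by
  intro q hq hq'
  have := Fact.mk hq'
  obtain ⟨H, h1, hH⟩ := nil_hall (fun q hq => (hπ q hq).two_le) h
  obtain ⟨Q', h3⟩ := exists_sylow q H
  obtain ⟨Q, rfl⟩ := exists_sylow_of_isSylowOf_top (sylow_of_hall h3 (isPiHall_iff.1 h1) hq)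
  rw [← one_mul (pp _ _)] at h
  have h4 := lt_of_subset (ρ := {q}) (by simpa using hq) h
  rw [one_mul, pp_card (sylow_hall Q)] at h4
  by_cases e : q = 2
  · subst e
    exact npc_two Q h4
  have hq3 : 3 ≤ q := by have := hq'.two_le; omega
  rw [kpi_eq_kS Q] at h4
  by_contra hn
  obtain ⟨s, k, g, hs, hsq, hk, h5, h6⟩ := exists_elt Q (comm_of_lt (p := 3)
    (fun s hs e => hq3.trans (le_of_dvd_card Q.2 s hs e)) (by omega)) hn
  have hs2 : s ≠ 2 := by
    rintro rfl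
    obtain ⟨T, h7⟩ := exists_sylow 2 H
    have h8 := sylow_not_dvd (sylow_of_hall h7 (isPiHall_iff.1 h1) h2)
    rw [relIndex_top_right] at h8
    have := le_of_isPGroup_of_le_normalizer (isPGroup_zpowers hk) (le_norm_cent h5) fun e' =>
      h8 (e'.trans (index_dvd_of_le (nil_le_cent_of_coprime hH h7.1 h3.1
        (pi_coprime_of_disjoint h7.2.1 h3.2.1 fun _ h h' => hsq (h.symm.trans h')))))
    exact h6.not_ge (le_inf le_rfl (le_centralizer_iff.1 this))
  have h7 := orbit_bound h5 (le_of_dvd_zpowers hs hk le_rfl)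
  have h8 := mul_card_le_of_lt (le_of_dvd_card Q.2) h6
  have hs3 : 3 ≤ s := by have := hs.two_le; omega
  by_cases e3 : q = 3
  · subst e3
    have := orbit_bound h5 (le_of_dvd_zpowers hs hk (hs.five_le_of_ne_two_of_ne_three hs2 hsq))
    omega
  · have := orbit_bound h5 (le_of_dvd_zpowers hs hk hs3)
    have := Nat.mul_le_mul_right (Nat.card ((Q : Subgroup G) ⊓ 𝐂(zpowers g) :))
      (hq'.five_le_of_ne_two_of_ne_three e e3)
    omega

end Cfsg.Agent.H23.Cnt
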