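import Mathlib
import Cfsg.Agent.Core.Basic
import Cfsg.Agent.FGS.SubCount
import Cfsg.Agent.FGS.FrobCount
import Cfsg.Agent.PGrp.Basic
import Cfsg.Agent.PGrp.Class

set_option autoImplicit false

namespace Cfsg.Agent.H23.Kul

open Subgroup Finset
open scoped Pointwise

section count

variable {α β : Type*} [Finite α] [Finite β]

theorem dc (S : Set α) (T : Set β) (r : α → β → Prop) :
    ∑ a ∈ (Set.toFinite S).toFinset, {b ∈ T | r a b}.ncard =
      ∑ b ∈ (Set.toFinite T).toFinset, {a ∈ S | r a b}.ncard := by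
  classical
  have := Finset.sum_card_bipartiteAbove_eq_sum_card_bipartiteBelow
    (s := (Set.toFinite S).toFinset) (t := (Set.toFinite T).toFinset) r
  convert this using 2 with a ha b hb
  · rw [← Set.ncard_coe_finset]; congr 1; ext; simp
  · rw [← Set.ncard_coe_finset]; congr 1; ext; simp

theorem sum_mod (S : Set α) (f : α → ℕ) (P : α → Prop) (c d N : ℕ)
    (h1 : ∀ a ∈ S, P a → f a + d ≡ c [MOD N]) (h2 : ∀ a ∈ S, ¬ P a → f a ≡ c [MOD N]) :
    ∑ a ∈ (Set.toFinite S).toFinset, f a + d * {a ∈ S | P a}.ncard ≡ c * S.ncard [MOD N] := by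
  classical
  have e1 : {a ∈ S | P a}.ncard = ∑ a ∈ (Set.toFinite S).toFinset, if P a then 1 else 0 := by
    rw [← Finset.card_filter, ← Set.ncard_coe_finset]; congr 1; ext; simp
  have e2 : c * S.ncard = ∑ _a ∈ (Set.toFinite S).toFinset, c := by
    rw [sum_const, smul_eq_mul, mul_comm, Set.ncard_eq_toFinset_card S (Set.toFinite S)]
  rw [e1, e2, mul_sum, ← sum_add_distrib]
  refine Nat.ModEq.sum fun a ha => ?_
  have ha' : a ∈ S := by simpa using ha
  split_ifs with h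
  · simpa using h1 a ha' h
  · simpa using h2 a ha' h

theorem sum_eq_mul (S : Set α) (f : α → ℕ) (c : ℕ) (h : ∀ a ∈ S, f a = c) :
    ∑ a ∈ (Set.toFinite S).toFinset, f a = S.ncard * c := by
  rw [Set.ncard_eq_toFinset_card S (Set.toFinite S), ← smul_eq_mul, ← sum_const]
  exact sum_congr rfl fun a ha => h a (by simpa using ha)

theorem ncard_eq_sum (S : Set α) (T : Set β) (r : α → β → Prop)
    (h : ∀ a ∈ S, ∃! b, b ∈ T ∧ r a b) :
    S.ncard = ∑ b ∈ (Set.toFinite T).toFinset, {a ∈ S | r a b}.ncard := by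
  rw [← dc, sum_eq_mul S _ 1, mul_one]
  intro a ha
  obtain ⟨b, hb, hu⟩ := h a ha
  rw [Set.ncard_eq_one]
  exact ⟨b, Set.eq_singleton_iff_unique_mem.2 ⟨hb, hu⟩⟩

theorem dvd_of_fibres (S : Set α) (T : Set β) (r : α → β → Prop) {d : ℕ}
    (h : ∀ a ∈ S, ∃! b, b ∈ T ∧ r a b) (hd : ∀ b ∈ T, d ∣ {a ∈ S | r a b}.ncard) :
    d ∣ S.ncard := by
  rw [ncard_eq_sum S T r h]
  exact dvd_sum fun b hb => hd b (by simpa using hb)

end count

variable {G : Type*} [Group G]

/-- number of subgroups of order `n` -/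
noncomputable def sub (G : Type*) [Group G] (n : ℕ) : ℕ := {H : Subgroup G | Nat.card H = n}.ncard

theorem sub_eq (n : ℕ) : Nat.card {H : Subgroup G // Nat.card H = n} = sub G n :=
  (Nat.card_coe_set_eq {H : Subgroup G | Nat.card H = n})

theorem sub_modEq [Finite G] {p k : ℕ} (hp : p.Prime) (hd : p ^ k ∣ Nat.card G) :
    sub G (p ^ k) ≡ 1 [MOD p] := by
  rw [← sub_eq]; exact FGS.card_subgroups_modEq_one hp hd

theorem ncard_subtype {N L : Subgroup G} (h : N ≤ L) (n : ℕ) :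
    {H : Subgroup G | N ≤ H ∧ H ≤ L ∧ Nat.card H = n}.ncard =
      {H : Subgroup L | N.subgroupOf L ≤ H ∧ Nat.card H = n}.ncard := by
  rw [← Set.ncard_image_of_injective _ (map_injective L.subtype_injective)]
  congr 1
  ext H
  constructor
  · rintro ⟨h1, h2, h3⟩
    exact ⟨H.subgroupOf L, ⟨subgroupOf_mono L h1, by rw [Core.card_subgroupOf_of_le h2, h3]⟩,
      map_subgroupOf_eq_of_le h2⟩
  · rintro ⟨K, ⟨h1, h2⟩, rfl⟩
    refine ⟨?_, map_subtype_le _, by rw [Core.card_map_subtype, h2]⟩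
    rw [← map_subgroupOf_eq_of_le h]
    exact map_mono h1

theorem ncard_quot [Finite G] (N : Subgroup G) [N.Normal] (n : ℕ) :
    {H : Subgroup G | N ≤ H ∧ Nat.card H = Nat.card N * n}.ncard = sub (G ⧸ N) n := by
  rw [sub, ← Set.ncard_image_of_injective _ (comap_injective (QuotientGroup.mk'_surjective N))]
  congr 1
  ext H
  constructor
  · rintro ⟨h1, h2⟩
    refine ⟨H.map (QuotientGroup.mk' N), ?_, by
      rw [comap_map_eq, QuotientGroup.ker_mk', sup_eq_left.2 h1]⟩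
    have := PGrp.card_map_mk'_mul N H
    rw [inf_eq_left.2 h1, h2, mul_comm] at this
    exact Nat.eq_of_mul_eq_mul_left Nat.card_pos this
  · rintro ⟨K, h, rfl⟩
    exact ⟨QuotientGroup.le_comap_mk' N K, by rw [Core.card_comap_mk', h]⟩

theorem ncard_between [Finite G] {N L : Subgroup G} (h : N ≤ L) [(N.subgroupOf L).Normal] (n : ℕ) :
    {H : Subgroup G | N ≤ H ∧ H ≤ L ∧ Nat.card H = Nat.card N * n}.ncard =
      sub (L ⧸ N.subgroupOf L) n := by
  rw [ncard_subtype h, ← ncard_quot, Core.card_subgroupOf_of_le h]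

theorem ncard_le (L : Subgroup G) (n : ℕ) :
    {H : Subgroup G | H ≤ L ∧ Nat.card H = n}.ncard = sub L n := by
  have := ncard_subtype (bot_le : ⊥ ≤ L) n
  simpa [sub] using this

theorem card_conj (g : G) (H : Subgroup G) : Nat.card (MulAut.conj g • H :) = Nat.card H :=
  (Nat.card_congr (equivSMul (MulAut.conj g) H).toEquiv).symm

theorem conj_of_normal (g : G) (N : Subgroup G) [h : N.Normal] : MulAut.conj g • N = N :=
  h.conj_smul_eq_self g N

/-- normal subgroups between two normal subgroups -/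
theorem ncard_normal_between [Finite G] {p : ℕ} [hp : Fact p.Prime] (hG : IsPGroup p G)
    {N L : Subgroup G} [N.Normal] [L.Normal] (h : N ≤ L) {k : ℕ} (h1 : Nat.card N ∣ p ^ k)
    (h2 : p ^ k ∣ Nat.card L) :
    {H : Subgroup G | H.Normal ∧ N ≤ H ∧ H ≤ L ∧ Nat.card H = p ^ k}.ncard ≡ 1 [MOD p] := by
  have := FGS.ncard_normal_modEq hG {H : Subgroup G | N ≤ H ∧ H ≤ L ∧ Nat.card H = p ^ k} (by
    rintro g H ⟨h1, h2, h3⟩
    refine ⟨?_, ?_, by rw [card_conj, h3]⟩
    · rw [← conj_of_normal g N]; exact pointwise_smul_le_pointwise_smul_iff.2 h1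
    · rw [← conj_of_normal g L]; exact pointwise_smul_le_pointwise_smul_iff.2 h2)
  have e : {H : Subgroup G | H.Normal ∧ N ≤ H ∧ H ≤ L ∧ Nat.card H = p ^ k} =
      {H ∈ {H : Subgroup G | N ≤ H ∧ H ≤ L ∧ Nat.card H = p ^ k} | H.Normal} := by
    ext; simp [and_comm]
  rw [e]
  refine this.trans ?_
  obtain ⟨n, hn⟩ := h1
  obtain ⟨j, -, rfl⟩ := (Nat.dvd_prime_pow hp.out).1 (Dvd.intro_left _ hn.symm)
  rw [hn, ncard_between h]
  refine sub_modEq hp.out ?_
  have e := card_eq_card_quotient_mul_card_subgroup (N.subgroupOf L)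
  rw [Core.card_subgroupOf_of_le h] at e
  rw [hn, e, mul_comm] at h2
  exact Nat.dvd_of_mul_dvd_mul_right Nat.card_pos h2

theorem dvd_not_le [Finite G] {p : ℕ} [hp : Fact p.Prime] (hG : IsPGroup p G)
    {L W : Subgroup G} [L.Normal] [W.Normal] (h : ¬ L ≤ W) {k : ℕ} (hL : Nat.card L = p ^ (k + 1)) :
    p ∣ {H : Subgroup G | H.Normal ∧ H ≤ L ∧ Nat.card H = p ^ k ∧ ¬ L ⊓ W ≤ H}.ncard := by
  have hd : p ^ k ∣ Nat.card L := by rw [hL]; exact pow_dvd_pow p (by omega)
  have h1 := ncard_normal_between hG (bot_le : ⊥ ≤ L) (k := k) (by simp) hd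
  have h2 := ncard_normal_between hG (inf_le_left : L ⊓ W ≤ L) (k := k) (by
    have h3 := card_dvd_of_le (inf_le_left : L ⊓ W ≤ L)
    have h4 := Core.card_lt_of_lt (inf_lt_left.2 h)
    rw [hL] at h3 h4
    obtain ⟨j, -, hj⟩ := (Nat.dvd_prime_pow hp.out).1 h3
    rw [hj] at h4 ⊢
    exact pow_dvd_pow p (Nat.lt_succ_iff.1 ((Nat.pow_lt_pow_iff_right hp.out.one_lt).1 h4))) hd
  have e : {H : Subgroup G | H.Normal ∧ ⊥ ≤ H ∧ H ≤ L ∧ Nat.card H = p ^ k} =
      {H : Subgroup G | H.Normal ∧ H ≤ L ∧ Nat.card H = p ^ k ∧ ¬ L ⊓ W ≤ H} ∪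
      {H : Subgroup G | H.Normal ∧ L ⊓ W ≤ H ∧ H ≤ L ∧ Nat.card H = p ^ k} := by
    ext H
    simp only [bot_le, true_and, Set.mem_setOf_eq, Set.mem_union]
    tauto
  rw [e, Set.ncard_union_eq (by
    rw [Set.disjoint_left]; rintro H ⟨-, -, -, h⟩ ⟨-, h', -⟩; exact h h')] at h1
  have h3 := (h1.trans h2.symm)
  rw [← Nat.modEq_zero_iff_dvd]
  exact Nat.ModEq.add_right_cancel' _ (h3.trans (by rw [zero_add]))

theorem ncard_gen [Finite G] (U : Subgroup G) (hU : IsCyclic U) :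
    {x : G | zpowers x = U}.ncard = Nat.totient (Nat.card U) := by
  classical
  haveI := Fintype.ofFinite U
  rw [Nat.card_eq_fintype_card, ← IsCyclic.card_orderOf_eq_totient (α := U) dvd_rfl,
    ← Set.ncard_coe_finset, ← Set.ncard_image_of_injective _ U.subtype_injective]
  congr 1
  ext x
  simp only [Set.mem_setOf_eq, coe_filter, mem_univ, true_and, Set.mem_image, coe_subtype,
    ← Nat.card_eq_fintype_card]
  constructor
  · rintro rfl
    exact ⟨⟨x, mem_zpowers x⟩, by rw [← Subgroup.orderOf_coe, Nat.card_zpowers], rfl⟩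
  · rintro ⟨y, hy, rfl⟩
    exact Core.eq_of_le_of_card_le (zpowers_le.2 y.2)
      (by rw [Nat.card_zpowers, Subgroup.orderOf_coe, hy])

theorem cyc_mul [Finite G] (n : ℕ) :
    {U : Subgroup G | Nat.card U = n ∧ IsCyclic U}.ncard * Nat.totient n =
      {x : G | orderOf x = n}.ncard := by
  rw [ncard_eq_sum {x : G | orderOf x = n} {U : Subgroup G | Nat.card U = n ∧ IsCyclic U}
    (fun x U => zpowers x = U) fun x hx => ⟨zpowers x,
      ⟨⟨by rw [Nat.card_zpowers]; exact hx, inferInstance⟩, rfl⟩, fun U hU => hU.2.symm⟩,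
    sum_eq_mul]
  rintro U ⟨h1, h2⟩
  rw [← h1, ← ncard_gen U h2]
  congr 1
  ext x
  simp only [Set.mem_setOf_eq, and_iff_right_iff_imp]
  rintro rfl
  exact (Nat.card_zpowers x).symm

theorem sub_prime_mul [Finite G] {p : ℕ} (hp : p.Prime) :
    sub G p * (p - 1) = {x : G | orderOf x = p}.ncard := by
  rw [← cyc_mul, Nat.totient_prime hp, sub]
  congr 2
  ext U
  haveI := Fact.mk hp
  exact ⟨fun h => ⟨h, isCyclic_of_prime_card h⟩, fun h => h.1⟩

theorem sub_cyclic [Finite G] (h : IsCyclic G) {n : ℕ} (hn : n ∣ Nat.card G) : sub G n = 1 := by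
  classical
  haveI := Fintype.ofFinite G
  have h1 := cyc_mul (G := G) n
  have h2 := IsCyclic.card_orderOf_eq_totient (α := G) (d := n)
    (by rwa [← Nat.card_eq_fintype_card])
  have h3 : {x : G | orderOf x = n}.ncard = Nat.totient n := by
    rw [← h2, ← Set.ncard_coe_finset]; congr 1; ext; simp
  have h4 : 0 < Nat.totient n := Nat.totient_pos.2 (Nat.pos_of_dvd_of_pos hn Nat.card_pos)
  rw [h3] at h1
  have h5 := Nat.eq_of_mul_eq_mul_right h4 (h1.trans (one_mul _).symm)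
  rw [← h5, sub]
  congr 1
  ext U
  exact ⟨fun h => ⟨h, inferInstance⟩, fun h => h.1⟩

end Cfsg.Agent.H23.Kul
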