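import Mathlib
import Cfsg.Agent.H23.Kulak
import Cfsg.Agent.Core.MinNormal
import Cfsg.Agent.PGrp.Frattini
import Cfsg.Agent.PGrp.Comm
import Cfsg.Agent.PGrp.CyclicOdd
import Cfsg.Agent.PGrp.MaxClass2
import Cfsg.Agent.H2.Frobenius

set_option autoImplicit false

namespace Cfsg.Agent.H23.Kul

open Subgroup Finset
open scoped Pointwise commutatorElement

variable {G : Type*} [Group G] [Finite G] {p : ℕ} [hp : Fact p.Prime]

/-- cyclic, or a non-abelian 2-group of maximal class -/
def Bad (p : ℕ) (G : Type*) [Group G] : Prop :=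
  IsCyclic G ∨ (p = 2 ∧ ¬ IsMulCommutative G ∧ (commutator G).index = 4)

theorem exists_R (hG : IsPGroup p G) (h : ¬ Bad p G) :
    ∃ R : Subgroup G, R.Normal ∧ IsElementaryAbelian p R ∧ Nat.card R = p ^ 2 := by
  have hnc : ¬ IsCyclic G := fun h' => h (Or.inl h')
  by_cases h2 : p = 2
  · subst h2
    by_cases hn : ∀ A : Subgroup G, A.Normal → IsMulCommutative A → IsCyclic A
    · exfalso
      obtain ⟨a, b, m, hm, hmc⟩ := PGrp.mc_of_normal_abelian_cyclic hG hn hnc
      have hc := PGrp.mc_nilpotencyClass hmc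
      exact h (Or.inr ⟨rfl, PGrp.not_isMulCommutative_of_class hG (by omega),
        PGrp.index_commutator_of_maximal_class (PGrp.mc_card hmc) (by omega) (by omega)⟩)
    · push Not at hn
      obtain ⟨A, hA, hc, hA'⟩ := hn
      obtain ⟨E, -, h1, h2, h3⟩ := PGrp.exists_invariant_elementary_sq_of_comm
        (hG.to_subgroup ⊤) le_top (PGrp.normal_iff_top_le_normalizer.1 hA) hc hA'
      exact ⟨E, PGrp.normal_iff_top_le_normalizer.2 h1, h2, h3⟩
  · obtain ⟨E, -, h⟩ := PGrp.exists_normal_elementary_sq h2 hG ⊤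
      (mt PGrp.isCyclic_top_iff.1 hnc)
    exact ⟨E, h⟩

theorem mul_pow_R (hG : IsPGroup p G) {R : Subgroup G} [hRn : R.Normal]
    (hR : IsElementaryAbelian p R) (hc : Nat.card R = p ^ 2) {c r : G} (hr : r ∈ R)
    (h : p = 2 → c ∈ centralizer (R : Set G)) : (c * r) ^ p = c ^ p := by
  by_cases h2 : p = 2
  · have : Commute c r := (mem_centralizer_iff.1 (h h2) r hr).symm
    rw [this.mul_pow, hR.2 r hr, mul_one]
  obtain ⟨N, hN, hNR, hNc⟩ := PGrp.exists_normal_le_card_eq hG R 1
    (by rw [hc]; exact Nat.pow_le_pow_right hp.out.pos (by omega))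
  rw [pow_one] at hNc
  have hNZ := PGrp.le_center_of_card_eq_prime hG N hNc
  have hrel : N.relIndex R = p := by
    have := Core.card_mul_relIndex hNR
    rw [hNc, hc, pow_two] at this
    exact Nat.eq_of_mul_eq_mul_left hp.out.pos this
  obtain ⟨x, hx, hxN, -, hxc⟩ := PGrp.exists_central_mod_normal hG R N (by
    intro hle
    have := card_le_of_le hle
    rw [hc, hNc] at this
    have := Nat.pow_lt_pow_right hp.out.one_lt (show 1 < 2 by omega)
    rw [pow_one] at this
    omega)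
  have h1 := PGrp.commutator_sup_zpowers_le (N := N) (P := ⊤) (x := x)
    (PGrp.normal_iff_top_le_normalizer.1 hN) (PGrp.normal_iff_top_le_normalizer.1 hN trivial)
    fun g _ => hxc g
  rw [PGrp.sup_zpowers_eq_of_relIndex_prime hp.out hrel hNR hx hxN] at h1
  have h3 : ⁅r, c⁆ ∈ N := h1 (commutator_mem_commutator hr (mem_top c))
  have h4 := mem_center_iff.1 (hNZ h3)
  rw [PGrp.mul_pow_of_commute_of_odd (hp.out.odd_of_ne_two h2) (h4 c) (h4 r)
    (hR.2 _ (hNR h3)), hR.2 r hr, mul_one]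

omit hp in
theorem ncard_preimage (N : Subgroup G) [N.Normal] (S : Set (G ⧸ N)) :
    (QuotientGroup.mk' N ⁻¹' S).ncard = Nat.card N * S.ncard := by
  rw [← Nat.card_coe_set_eq, ← Nat.card_coe_set_eq, ← Nat.card_prod]
  exact Nat.card_congr (QuotientGroup.preimageMkEquivSubgroupProdSet N S)

theorem dvd_L (hG : IsPGroup p G) (h : ¬ Bad p G) {j : ℕ} (hj : p = 2 → 1 ≤ j)
    (hd : p ^ (j + 2) ∣ Nat.card G) : p ^ (j + 2) ∣ {x : G | x ^ p ^ (j + 1) = 1}.ncard := by
  obtain ⟨R, hRn, hR, hc⟩ := exists_R hG h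
  set π := QuotientGroup.mk' R
  have hcent : ∀ x : G, p = 2 → x ^ p ^ j ∈ centralizer (R : Set G) := by
    intro x h2
    obtain ⟨i, rfl⟩ : ∃ i, j = i + 1 := ⟨j - 1, by have := hj h2; omega⟩
    have h1 := PGrp.index_centralizer_le_of_card_eq_sq hG R hc
    obtain ⟨k, hk⟩ := hG.index (centralizer (R : Set G))
    have h3 : (centralizer (R : Set G)).index ∣ p := by
      rw [hk] at h1 ⊢
      rcases k with _ | _ | k
      · simp
      · simp
      · have := Nat.pow_lt_pow_right hp.out.one_lt (show 1 < k + 1 + 1 by omega)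
        rw [pow_one] at this
        omega
    obtain ⟨t, ht⟩ := h3
    rw [pow_succ, pow_mul]
    nth_rewrite 2 [ht]
    rw [pow_mul]
    exact pow_mem ((centralizer (R : Set G)).pow_index_mem _) t
  have := FGS.gcd_dvd_ncard (G := G ⧸ R) (p ^ j)
    (π '' {c : G | c ^ p = 1 ∧ (p = 2 → c ∈ centralizer (R : Set G))}) (by
      rintro _ ⟨c, ⟨h1, h2⟩, rfl⟩ y hy
      obtain ⟨g, rfl⟩ := isConj_iff.1 hy
      obtain ⟨g, rfl⟩ := QuotientGroup.mk'_surjective R g
      refine ⟨g * c * g⁻¹, ⟨by rw [conj_pow, h1]; simp, fun h => ?_⟩, by simp [π]⟩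
      exact (inferInstance : (centralizer (R : Set G)).Normal).conj_mem c (h2 h) g)
  have hdq : p ^ j ∣ Nat.card (G ⧸ R) := by
    rw [card_eq_card_quotient_mul_card_subgroup R, hc, pow_add] at hd
    exact Nat.dvd_of_mul_dvd_mul_right (pow_pos hp.out.pos 2) hd
  rw [Nat.gcd_eq_left hdq] at this
  have e : {x : G | x ^ p ^ (j + 1) = 1} = π ⁻¹' {x : G ⧸ R | x ^ p ^ j ∈
      π '' {c : G | c ^ p = 1 ∧ (p = 2 → c ∈ centralizer (R : Set G))}} := by
    ext x
    simp only [Set.mem_setOf_eq, Set.mem_preimage, Set.mem_image]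
    constructor
    · intro hx
      exact ⟨x ^ p ^ j, ⟨by rw [← pow_mul, ← pow_succ, hx], hcent x⟩, map_pow _ _ _⟩
    · rintro ⟨c, ⟨h1, h2⟩, h3⟩
      rw [← map_pow, QuotientGroup.mk'_eq_mk'] at h3
      obtain ⟨r, hr, h3⟩ := h3
      rw [pow_succ, pow_mul, ← h3, mul_pow_R hG hR hc hr h2, h1]
  rw [e, ncard_preimage, hc, pow_add, mul_comm]
  exact Nat.mul_dvd_mul_left _ this

theorem dvd_cyc (hG : IsPGroup p G) (h : ¬ Bad p G) {j : ℕ} (hj : p = 2 → 1 ≤ j)
    (hd : p ^ (j + 2) ∣ Nat.card G) :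
    p ∣ {U : Subgroup G | Nat.card U = p ^ (j + 2) ∧ IsCyclic U}.ncard := by
  have h1 := dvd_L hG h hj hd
  have h2 : p ^ (j + 2) ∣ {x : G | x ^ p ^ (j + 2) = 1}.ncard := by
    rw [← Nat.card_coe_set_eq]; exact FGS.dvd_card_pow_eq_one hd
  have e : {x : G | x ^ p ^ (j + 2) = 1} =
      {x : G | x ^ p ^ (j + 1) = 1} ∪ {x : G | orderOf x = p ^ (j + 2)} := by
    ext x
    simp only [Set.mem_setOf_eq, Set.mem_union]
    constructor
    · intro hx
      by_cases h' : x ^ p ^ (j + 1) = 1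
      · exact Or.inl h'
      · exact Or.inr (orderOf_eq_prime_pow h' hx)
    · rintro (hx | hx)
      · rw [pow_succ p (j + 1), pow_mul, hx, one_pow]
      · rw [← hx, pow_orderOf_eq_one]
  rw [e, Set.ncard_union_eq (by
    rw [Set.disjoint_left]
    intro x h1 h2
    have := orderOf_dvd_of_pow_eq_one h1
    rw [h2, Nat.pow_dvd_pow_iff_le_right hp.out.one_lt] at this
    omega), Nat.dvd_add_right h1, ← cyc_mul, Nat.totient_prime_pow_succ hp.out] at h2
  generalize {U : Subgroup G | Nat.card U = p ^ (j + 2) ∧ IsCyclic U}.ncard = c at h2 ⊢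
  rw [pow_succ' p (j + 1), ← mul_assoc, mul_comm _ (p - 1)] at h2
  have h3 : (p * p ^ (j + 1)).Coprime (p - 1) := by
    rw [← pow_succ']
    exact Nat.Coprime.pow_left _ ((Nat.coprime_self_sub_right hp.out.one_le).2 (by simp))
  exact Nat.dvd_of_mul_dvd_mul_right (pow_pos hp.out.pos _) (h3.dvd_of_dvd_mul_left h2)

omit hp in
theorem mc_sub (hG : IsPGroup 2 G) (hna : ¬ IsMulCommutative G)
    (h4 : (commutator G).index = 4) : sub G 2 ≡ 1 [MOD 2 ^ 2] := by
  obtain ⟨x, y, m, hm, h⟩ := PGrp.exists_mc_of_index_commutator hG h4 hna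
  have h1 := sub_prime_mul (G := G) Nat.prime_two
  rw [show 2 - 1 = 1 from rfl, mul_one] at h1
  have e : {g : G | orderOf g = 2} = {x ^ 2 ^ m} ∪ {g : G | g ∉ zpowers x ∧ g * g = 1} := by
    ext g
    simp only [Set.mem_setOf_eq, Set.mem_union, Set.mem_singleton_iff]
    constructor
    · intro hg
      by_cases hx : g ∈ zpowers x
      · exact Or.inl (h.eq_z hx hg)
      · exact Or.inr ⟨hx, by rw [← pow_two, ← hg, pow_orderOf_eq_one]⟩
    · rintro (rfl | ⟨h1, h2⟩)
      · exact h.z_two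
      · exact orderOf_eq_prime (by rw [pow_two, h2]) (by rintro rfl; exact h1 (one_mem _))
  obtain ⟨k, rfl⟩ : ∃ k, m = k + 1 := ⟨m - 1, by omega⟩
  have hu : orderOf (x ^ 2 ^ k) = 4 := by
    rw [orderOf_pow' _ (by positivity), h.ord, Nat.gcd_eq_right (pow_dvd_pow 2 (by omega)),
      Nat.pow_div (by omega) (by norm_num), show k + 1 + 1 - k = 2 by omega]
  have hinv : ∀ g ∉ zpowers x, ∀ a ∈ zpowers (x ^ 2 ^ k), g * a * g⁻¹ = a⁻¹ := by
    intro g hg a ha
    have h' := h.change (mem_top g) hg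
    obtain ⟨i, rfl⟩ := mem_zpowers_iff.1 ha
    rw [← zpow_natCast, ← zpow_mul]
    rcases h'.conj_zpow (((2 ^ k : ℕ) : ℤ) * i) with h2 | ⟨h2, h3, -⟩
    · exact h2
    · exfalso
      obtain ⟨l, rfl⟩ : ∃ l, k = l + 1 := ⟨k - 1, by omega⟩
      rw [← Int.not_even_iff_odd] at h3
      exact h3 (Even.mul_right (by push_cast; exact ⟨2 ^ l, by ring⟩) i)
  have h2 := H2.card_dvd_ncard_of_free (A := zpowers (x ^ 2 ^ k))
    {g : G | g ∉ zpowers x ∧ g * g = 1} (by
      rintro ⟨a, ha⟩ g ⟨h1, h2⟩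
      have hax : a ∈ zpowers x := zpowers_le.2 (pow_mem (mem_zpowers x) _) ha
      refine ⟨fun h3 => h1 (((zpowers x).mul_mem_cancel_left hax).1 h3), ?_⟩
      change a * g * (a * g) = 1
      calc a * g * (a * g) = a * (g * a * g⁻¹) * (g * g) := by group
        _ = 1 := by rw [hinv g h1 a ha, h2]; group) (by
      rintro ⟨a, ha⟩ g _ h3
      exact Subtype.ext (mul_eq_right.1 h3))
  rw [Nat.card_zpowers, hu] at h2
  rw [h1, e, Set.ncard_union_eq (by
    rw [Set.disjoint_singleton_left]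
    exact fun h3 => h3.1 (Inv.MC.z_memX x _)), Set.ncard_singleton]
  obtain ⟨t, ht⟩ := h2
  rw [ht]
  unfold Nat.ModEq
  omega

theorem uniq_normal (hG : IsPGroup p G) (h : Bad p G) {A B : Subgroup G} [A.Normal] [B.Normal]
    (hA : Nat.card A = p) (hB : Nat.card B = p) : A = B := by
  rcases h with h | ⟨rfl, hna, h4⟩
  · have := sub_cyclic h (n := p) (hA ▸ card_subgroup_dvd_card A)
    obtain ⟨C, hC⟩ := Set.ncard_eq_one.1 this
    have h1 : A ∈ ({C} : Set (Subgroup G)) := hC ▸ hA
    have h2 : B ∈ ({C} : Set (Subgroup G)) := hC ▸ hB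
    exact h1.trans h2.symm
  obtain ⟨x, y, m, hm, h⟩ := PGrp.exists_mc_of_index_commutator hG h4 hna
  have key : ∀ A : Subgroup G, A.Normal → Nat.card A = 2 → A = zpowers (x ^ 2 ^ m) := by
    intro A hA hc
    refine Core.eq_of_le_of_card_le (fun s hs => ?_) (by rw [Nat.card_zpowers, h.z_two, hc])
    have hz := mem_center_iff.1 (PGrp.le_center_of_card_eq_prime hG A hc hs)
    by_cases hsx : s ∈ zpowers x
    · rcases h.eq_of_commute hsx (hz y).symm with rfl | rfl
      · exact one_mem _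
      · exact mem_zpowers _
    · exfalso
      have h' := h.change (mem_top s) hsx
      have ho := h.ord
      have h5 : 2 ^ 2 ≤ 2 ^ (m + 1) := Nat.pow_le_pow_right (by norm_num) (by omega)
      rcases h'.eq_of_commute (mem_zpowers x) (hz x) with e | e
      · rw [e, orderOf_one] at ho; omega
      · rw [e, h.z_two] at ho; omega
  rw [key A inferInstance hA, key B inferInstance hB]

omit [Finite G] in
theorem sup_eq_of_not_le {H L X : Subgroup G} {k : ℕ} (hHL : H ≤ L) (hH : Nat.card H = p ^ k)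
    (hL : Nat.card L = p ^ (k + 1)) (hX : X ≤ L) (h : ¬ X ≤ H) : H ⊔ X = L := by
  have hrel : H.relIndex L = p := by
    have := Core.card_mul_relIndex hHL
    rw [hH, hL, pow_succ] at this
    exact Nat.eq_of_mul_eq_mul_left (pow_pos hp.out.pos _) this
  refine (PGrp.eq_or_eq_of_relIndex_prime hp.out hrel le_sup_left (sup_le hHL hX)).resolve_left
    fun e => h (e ▸ le_sup_right)

omit hp [Finite G] in
theorem index_comm_quot (H : Subgroup G) [H.Normal] :
    (commutator (G ⧸ H)).index = (commutator G ⊔ H).index := by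
  rw [← PGrp.map_commutator_mk', index_map, QuotientGroup.ker_mk',
    MonoidHom.range_eq_top.2 (QuotientGroup.mk'_surjective H), index_top, mul_one]

/-- the property that `H` is normal with bad quotient -/
def BadN (p : ℕ) (H : Subgroup G) : Prop := ∃ _ : H.Normal, Bad p (G ⧸ H)

theorem dvd_fibre (hG : IsPGroup p G) (h : ¬ Bad p G) {L : Subgroup G} [L.Normal] {k : ℕ}
    (hL : Nat.card L = p ^ (k + 1)) (hLt : L ≠ ⊤) :
    p ∣ {H : Subgroup G | (Nat.card H = p ^ k ∧ BadN p H) ∧ H ≤ L}.ncard := by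
  have hnle : ∀ H : Subgroup G, Nat.card H = p ^ k → ¬ L ≤ H := by
    intro H hH hle
    have := card_le_of_le hle
    rw [hH, hL, Nat.pow_le_pow_iff_right hp.out.one_lt] at this
    omega
  by_cases hc : IsCyclic (G ⧸ L)
  · have := dvd_not_le hG (W := frattini G)
      (fun hle => h (Or.inl (PGrp.isCyclic_of_quotient_le_frattini L hle hc))) hL
    convert this using 2
    ext H
    simp only [Set.mem_setOf_eq]
    constructor
    · rintro ⟨⟨h1, hn, hb⟩, h2⟩
      refine ⟨hn, h2, h1, fun hle => ?_⟩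
      rcases hb with hb | ⟨-, hb, -⟩
      · apply hnle H h1
        intro l hl
        obtain ⟨g, hg⟩ := hb.exists_generator
        obtain ⟨g, rfl⟩ := QuotientGroup.mk_surjective g
        obtain ⟨i, hi⟩ := mem_zpowers_iff.1 (hg l)
        have hgi : g ^ i ∈ L := by
          rw [← QuotientGroup.mk_zpow, QuotientGroup.eq] at hi
          exact L.inv_mem_iff.1 ((L.mul_mem_cancel_right hl).1 (h2 hi))
        by_cases hpi : (p : ℤ) ∣ i
        · obtain ⟨t, rfl⟩ := hpi
          have h3 : g ^ (p * t : ℤ) ∈ H := hle ⟨hgi, by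
            rw [mul_comm, zpow_mul, zpow_natCast]; exact PGrp.pow_mem_frattini hG _⟩
          rw [← QuotientGroup.eq_one_iff] at h3 ⊢
          rw [← hi, ← QuotientGroup.mk_zpow, h3]
        · exfalso
          apply hLt
          obtain ⟨n, hn⟩ := IsPGroup.iff_orderOf.1 hG g
          have hgL : g ∈ L :=
            zpowers_le.2 hgi (PGrp.mem_zpowers_of_coprime hp.out hn hpi)
          rw [eq_top_iff]
          intro x _
          obtain ⟨j, hj⟩ := mem_zpowers_iff.1 (hg x)
          rw [← QuotientGroup.mk_zpow, QuotientGroup.eq] at hj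
          exact (L.mul_mem_cancel_left (L.inv_mem (L.zpow_mem hgL j))).1 (h2 hj)
      · apply hb
        haveI : (L.map (QuotientGroup.mk' H)).Normal :=
          Normal.map inferInstance _ (QuotientGroup.mk'_surjective H)
        have h3 : Nat.card (L.map (QuotientGroup.mk' H)) = p := by
          have := PGrp.card_map_mk'_mul H L
          rw [inf_eq_left.2 h2, h1, hL, pow_succ'] at this
          exact Nat.eq_of_mul_eq_mul_right (pow_pos hp.out.pos _) this
        have h4 := PGrp.le_center_of_card_eq_prime (hG.to_quotient H) _ h3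
        refine ⟨⟨commutative_of_cyclic_center_quotient
          (QuotientGroup.map H L (MonoidHom.id G) h2) fun x hx => h4 ?_⟩⟩
        obtain ⟨x, rfl⟩ := QuotientGroup.mk_surjective x
        exact ⟨x, (QuotientGroup.eq_one_iff x).1 hx, rfl⟩
    · rintro ⟨hn, h2, h1, h3⟩
      refine ⟨⟨h1, hn, Or.inl ?_⟩, h2⟩
      have h4 := sup_eq_of_not_le h2 h1 hL inf_le_left h3
      obtain ⟨g, hg⟩ := hc.exists_generator
      obtain ⟨g, rfl⟩ := QuotientGroup.mk_surjective g
      have h5 : (H ⊔ zpowers g) ⊔ frattini G = ⊤ := by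
        rw [eq_top_iff]
        intro x _
        obtain ⟨j, hj⟩ := mem_zpowers_iff.1 (hg x)
        rw [← QuotientGroup.mk_zpow, QuotientGroup.eq, ← h4] at hj
        have h6 : H ⊔ L ⊓ frattini G ≤ (H ⊔ zpowers g) ⊔ frattini G :=
          sup_le_sup le_sup_left inf_le_right
        exact (Subgroup.mul_mem_cancel_left _ (inv_mem (mem_sup_left (mem_sup_right
          (zpow_mem (mem_zpowers g) j))))).1 (h6 hj)
      have h6 := frattini_nongenerating h5
      refine ⟨⟨g, fun x => ?_⟩⟩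
      obtain ⟨x, rfl⟩ := QuotientGroup.mk_surjective x
      obtain ⟨n, hn', j, rfl⟩ := (PGrp.mem_sup_zpowers
        (PGrp.normal_iff_top_le_normalizer.1 hn trivial)).1 (h6 ▸ mem_top x)
      refine ⟨j, ?_⟩
      simp [(QuotientGroup.eq_one_iff n).2 hn']
  · have hge : p ^ 2 ≤ (commutator G ⊔ L).index := by
      by_contra hlt
      apply hc
      refine PGrp.isCyclic_of_isCyclic_quotient_commutator (hG.to_quotient L) ?_
      obtain ⟨n, hn⟩ := hG.index (commutator G ⊔ L)
      have e : Nat.card ((G ⧸ L) ⧸ commutator (G ⧸ L)) = p ^ n := by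
        rw [← hn, ← index_comm_quot]; rfl
      rw [hn, Nat.pow_le_pow_iff_right hp.out.one_lt] at hlt
      refine isCyclic_of_card_dvd_prime (p := p) ?_
      rw [e]
      exact (pow_dvd_pow p (show n ≤ 1 by omega)).trans (pow_one p).dvd
    have key : ∀ H : Subgroup G, BadN p H → H ≤ L → p = 2 ∧ ¬ IsMulCommutative G ∧
        (commutator G ⊔ L).index = 4 ∧ commutator G ⊔ H = commutator G ⊔ L := by
      rintro H ⟨hn, hb | ⟨h2, hb, h4⟩⟩ hHL
      · exact absurd (isCyclic_of_surjective (QuotientGroup.map H L (MonoidHom.id G) hHL)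
          (fun y => by
            obtain ⟨y, rfl⟩ := QuotientGroup.mk_surjective y
            exact ⟨y, rfl⟩)) hc
      subst h2
      rw [index_comm_quot] at h4
      have hle : commutator G ⊔ H ≤ commutator G ⊔ L := sup_le_sup_left hHL _
      have h5 := index_antitone hle
      refine ⟨rfl, fun hcm => hb (Subgroup.Normal.quotient_commutative_iff_commutator_le.2 ?_),
        by omega, ?_⟩
      · rw [(commutator_eq_bot_iff_center_eq_top G).2 (center_eq_top_iff.2 hcm)]; exact bot_le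
      have h6 := relIndex_mul_index hle
      rw [h4, show (commutator G ⊔ L).index = 4 by omega] at h6
      exact le_antisymm hle (relIndex_eq_one.1 (by omega))
    by_cases hne : ∃ H0 : Subgroup G, BadN p H0 ∧ H0 ≤ L
    swap
    · rw [Set.eq_empty_iff_forall_notMem.2
        fun (H : Subgroup G) (hH : H ∈ {H : Subgroup G | (Nat.card H = p ^ k ∧ BadN p H) ∧ H ≤ L}) =>
          hne ⟨H, hH.1.2, hH.2⟩]
      simp
    obtain ⟨H0, hH0, hH0L⟩ := hne
    obtain ⟨h2, hna, h4, -⟩ := key H0 hH0 hH0L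
    have := dvd_not_le hG (W := commutator G) (fun hle => h (Or.inr ⟨h2, hna, by
      rwa [sup_eq_left.2 hle] at h4⟩)) hL
    convert this using 2
    ext H
    simp only [Set.mem_setOf_eq]
    constructor
    · rintro ⟨⟨h1, hb⟩, h3⟩
      refine ⟨hb.1, h3, h1, fun hle => hnle H h1 fun l hl => ?_⟩
      have h5 : l ∈ commutator G ⊔ H := by
        rw [(key H hb h3).2.2.2]; exact mem_sup_right hl
      obtain ⟨c, hc, x, hx, rfl⟩ :=
        (Core.mem_sup_of_le_normalizer (by rw [normalizer_eq_top]; exact le_top)).1 h5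
      exact H.mul_mem (hle ⟨(L.mul_mem_cancel_right (h3 hx)).1 hl, hc⟩) hx
    · rintro ⟨hn, h3, h1, h5⟩
      have h6 := sup_eq_of_not_le h3 h1 hL inf_le_left h5
      refine ⟨⟨h1, hn, Or.inr ⟨h2, fun hcm => h5 (inf_le_right.trans ?_), ?_⟩⟩, h3⟩
      · exact (Subgroup.Normal.quotient_commutative_iff_commutator_le).1 hcm
      · rw [index_comm_quot, ← h4]
        congr 1
        refine le_antisymm (sup_le_sup_left h3 _) (sup_le le_sup_left ?_)
        rw [← h6]
        exact sup_le le_sup_right (inf_le_right.trans le_sup_left)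

theorem dvd_badN (hG : IsPGroup p G) (h : ¬ Bad p G) {k : ℕ} (hk : p ^ (k + 1) < Nat.card G) :
    p ∣ {H : Subgroup G | Nat.card H = p ^ k ∧ BadN p H}.ncard := by
  refine dvd_of_fibres _ {L : Subgroup G | L.Normal ∧ Nat.card L = p ^ (k + 1)}
    (fun H L => H ≤ L) ?_ ?_
  · rintro H ⟨h1, hn, hb⟩
    obtain ⟨L, hL, hHL, -, hc⟩ := PGrp.exists_normal_between_card_eq hG H ⊤ le_top 1
      (by rw [h1, card_top, pow_one, ← pow_succ]; exact hk.le)
    rw [h1, pow_one, ← pow_succ] at hc
    refine ⟨L, ⟨⟨hL, hc⟩, hHL⟩, ?_⟩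
    rintro L' ⟨⟨hL', hc'⟩, hHL'⟩
    have key : ∀ L : Subgroup G, H ≤ L → Nat.card L = p ^ (k + 1) →
        Nat.card (L.map (QuotientGroup.mk' H)) = p := by
      intro L h2 hL
      have := PGrp.card_map_mk'_mul H L
      rw [inf_eq_left.2 h2, h1, hL, pow_succ'] at this
      exact Nat.eq_of_mul_eq_mul_right (pow_pos hp.out.pos _) this
    haveI := hL.map _ (QuotientGroup.mk'_surjective H)
    haveI := hL'.map _ (QuotientGroup.mk'_surjective H)
    have := congrArg (comap (QuotientGroup.mk' H))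
      (uniq_normal (hG.to_quotient H) hb (key L' hHL' hc') (key L hHL hc))
    rwa [comap_map_eq, comap_map_eq, QuotientGroup.ker_mk', sup_eq_left.2 hHL,
      sup_eq_left.2 hHL'] at this
  · rintro L ⟨hL, hc⟩
    refine dvd_fibre hG h hc ?_
    rintro rfl
    rw [card_top] at hc
    omega

end Cfsg.Agent.H23.Kul
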