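import Mathlib
import Cfsg.Agent.H23.Kulak2
import Cfsg.Agent.Core.SylowOf
import Cfsg.Agent.Perm.Derang
import Cfsg.Agent.S4477

set_option autoImplicit false

namespace Cfsg.Agent.H23.Kul

open Subgroup Finset
open scoped Pointwise commutatorElement

universe u

variable {p : ℕ} [hp : Fact p.Prime]

/-- the counting theorem for one group -/
def T (p : ℕ) (G : Type*) [Group G] : Prop :=
  ∀ m, Nat.card G = p ^ m → ¬ Bad p G → ∀ k, 1 ≤ k → k < m → sub G (p ^ k) ≡ 1 + p [MOD p ^ 2]

theorem mu {X : Type*} [Group X] [Finite X] {k : ℕ} (hX : Nat.card X = p ^ (k + 1))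
    (hnc : ¬ IsCyclic X) (hT : T p (X ⧸ frattini X)) : sub X (p ^ k) ≡ 1 + p [MOD p ^ 2] := by
  have hG : IsPGroup p X := IsPGroup.of_card hX
  obtain ⟨d, hd⟩ := hG.index (frattini X)
  obtain ⟨f, hf⟩ := PGrp.exists_card_eq_pow hG (frattini X)
  have h1 := (frattini X).card_mul_index
  rw [hd, hf, hX, ← pow_add, Nat.pow_right_inj hp.out.one_lt] at h1
  have h2 : 2 ≤ d := by
    by_contra hlt
    refine hnc (PGrp.isCyclic_of_index_frattini_le hG ?_)
    rw [hd]
    exact (Nat.pow_le_pow_right hp.out.pos (show d ≤ 1 by omega)).trans (pow_one p).le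
  have h3 := hT d hd (by
    rintro (h | ⟨-, h, -⟩)
    · exact hnc (PGrp.isCyclic_of_quotient_le_frattini _ le_rfl h)
    · exact h (Subgroup.Normal.quotient_commutative_iff_commutator_le.2
        (PGrp.commutator_le_frattini hG))) (d - 1) (by omega) (by omega)
  rw [← ncard_quot, hf, ← pow_add, show f + (d - 1) = k by omega] at h3
  refine Eq.subst (motive := fun n => n ≡ 1 + p [MOD p ^ 2]) ?_ h3
  rw [sub]
  symm
  congr 1
  ext H
  simp only [Set.mem_setOf_eq, iff_and_self]
  intro hH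
  refine frattini_le_coatom (PGrp.isCoatom_of_index_prime hp.out ?_)
  have := H.card_mul_index
  rw [hH, hX, pow_succ] at this
  exact Nat.eq_of_mul_eq_mul_left (pow_pos hp.out.pos _) this

theorem bad_sub {X : Type*} [Group X] [Finite X] (hX : IsPGroup p X) (hd : p ∣ Nat.card X)
    (h : Bad p X) : sub X p ≡ 1 [MOD p ^ 2] := by
  rcases h with h | ⟨rfl, h1, h2⟩
  · rw [sub_cyclic h hd]
  · exact mc_sub hX h1 h2

theorem good_sub {X : Type*} [Group X] [Finite X] (hX : IsPGroup p X)
    (h : ¬ Bad p X) (hT : T p X) : sub X p ≡ 1 + p [MOD p ^ 2] := by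
  obtain ⟨m, hm⟩ := IsPGroup.iff_card.1 hX
  have := hT m hm h 1 le_rfl (by
    by_contra hlt
    refine h (Or.inl (isCyclic_of_card_dvd_prime (p := p) ?_))
    rw [hm]
    exact (pow_dvd_pow p (show m ≤ 1 by omega)).trans (pow_one p).dvd)
  rwa [pow_one] at this

theorem not_modEq : ¬ 1 ≡ 1 + p [MOD p ^ 2] := by
  intro h
  have h1 := (Nat.modEq_iff_dvd' (by omega)).1 h
  rw [Nat.add_sub_cancel_left] at h1
  have h2 := Nat.le_of_dvd hp.out.pos h1
  have := Nat.pow_lt_pow_right hp.out.one_lt (show 1 < 2 by omega)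
  rw [pow_one] at this
  omega

theorem ncard_conj {G : Type*} [Group G] (g : G) (S : Set (Subgroup G)) :
    {K | (MulAut.conj g)⁻¹ • K ∈ S}.ncard = S.ncard := by
  rw [← Set.ncard_image_of_injective S (MulAction.injective (MulAut.conj g))]
  congr 1
  ext K
  constructor
  · intro h
    exact ⟨_, h, smul_inv_smul _ _⟩
  · rintro ⟨K, h, rfl⟩
    simpa using h

theorem step {G : Type u} [Group G] [Finite G] (hG : IsPGroup p G) (h : ¬ Bad p G)
    (ih : ∀ (X : Type u) [Group X] [Finite X], Nat.card X < Nat.card G → T p X) {k : ℕ}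
    (hk1 : 1 ≤ k) (hk : p ^ (k + 1) < Nat.card G)
    (hc : p ∣ {U : Subgroup G | Nat.card U = p ^ (k + 1) ∧ IsCyclic U}.ncard) :
    sub G (p ^ (k + 1)) ≡ sub G (p ^ k) [MOD p ^ 2] := by
  set ν : Subgroup G → ℕ := fun H =>
    {K ∈ {K : Subgroup G | Nat.card K = p ^ (k + 1)} | H ≤ K}.ncard with hν
  have h1 := dc {H : Subgroup G | Nat.card H = p ^ k} {K : Subgroup G | Nat.card K = p ^ (k + 1)}
    (fun H K => H ≤ K)
  have hmu : ∀ K : Subgroup G,
      {H ∈ {H : Subgroup G | Nat.card H = p ^ k} | H ≤ K}.ncard = sub K (p ^ k) := by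
    intro K
    rw [← ncard_le]; congr 1; ext; simp [and_comm]
  have h2 := sum_mod {K : Subgroup G | Nat.card K = p ^ (k + 1)}
    (fun K => {H ∈ {H : Subgroup G | Nat.card H = p ^ k} | H ≤ K}.ncard) (fun K => IsCyclic K)
    (1 + p) p (p ^ 2) (fun K hK hcy => by
      rw [hmu, sub_cyclic hcy (by rw [hK]; exact pow_dvd_pow p (by omega))])
    (fun K hK hcy => by
      rw [hmu]
      refine mu hK hcy (ih _ (lt_of_le_of_lt ?_ hk))
      rw [← hK]
      exact Nat.le_of_dvd Nat.card_pos (card_quotient_dvd_card _))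
  have hnu : ∀ H : Subgroup G, Nat.card H = p ^ k →
      ν H = sub (normalizer (H : Set G) ⧸ H.subgroupOf (normalizer (H : Set G))) p := by
    intro H hH
    rw [← ncard_between le_normalizer, hH, ← pow_succ]
    simp only [hν]
    congr 1
    ext K
    simp only [Set.mem_setOf_eq]
    refine ⟨fun ⟨h1, h2⟩ => ⟨h2, PGrp.le_normalizer_of_relIndex_prime (hG.to_subgroup K) h2 ?_, h1⟩,
      fun ⟨h1, _, h3⟩ => ⟨h3, h1⟩⟩
    have := Core.card_mul_relIndex h2
    rw [hH, h1, pow_succ] at this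
    exact Nat.eq_of_mul_eq_mul_left (pow_pos hp.out.pos _) this
  have hnu' : ∀ (H : Subgroup G) [H.Normal], Nat.card H = p ^ k → ν H = sub (G ⧸ H) p := by
    intro H _ hH
    rw [← ncard_quot, hH, ← pow_succ]
    simp only [hν]
    congr 1
    ext K
    simp [and_comm]
  have hne : ∀ H : Subgroup G, Nat.card H = p ^ k → H ≠ ⊥ := by
    rintro H hH rfl
    rw [card_bot] at hH
    have := Nat.one_lt_pow (show k ≠ 0 by omega) hp.out.one_lt
    omega
  have h3 := sum_mod {H : Subgroup G | Nat.card H = p ^ k} ν (fun H => ¬ ν H ≡ 1 + p [MOD p ^ 2])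
    (1 + p) p (p ^ 2) (fun H hH hb => by
      rw [hnu H hH] at hb ⊢
      have hX := (hG.to_subgroup (normalizer (H : Set G))).to_quotient
        (H.subgroupOf (normalizer (H : Set G)))
      refine Nat.ModEq.add_right p (bad_sub hX ?_ ?_)
      · have hlt : H < normalizer (H : Set G) := by
          have := Core.lt_inf_normalizer_of_nilpotent (H := H) (K := ⊤)
            (hG.to_subgroup ⊤).isNilpotent (lt_top_iff_ne_top.2 (by
              rintro rfl
              rw [Set.mem_setOf_eq, card_top] at hH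
              have := Nat.pow_lt_pow_right hp.out.one_lt (show k < k + 1 by omega)
              omega))
          rwa [top_inf_eq] at this
        obtain ⟨n, hn⟩ := IsPGroup.iff_card.1 hX
        rcases n with _ | n
        · exact absurd (relIndex_eq_one.1 hn) hlt.not_ge
        · rw [hn]; exact dvd_pow_self p (by omega)
      · by_contra hnb
        refine hb (good_sub hX hnb (ih _ (lt_of_lt_of_le (Core.card_quotient_lt _ ?_)
          (card_le_card_group _))))
        rw [Ne, subgroupOf_eq_bot, disjoint_iff, inf_eq_left.2 le_normalizer]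
        exact hne H hH)
    (fun H _ hb => not_not.1 hb)
  have h4 : p ∣ {H ∈ {H : Subgroup G | Nat.card H = p ^ k} | ¬ ν H ≡ 1 + p [MOD p ^ 2]}.ncard := by
    have h5 := FGS.ncard_normal_modEq hG
      {H ∈ {H : Subgroup G | Nat.card H = p ^ k} | ¬ ν H ≡ 1 + p [MOD p ^ 2]} (by
        rintro g H ⟨h1, h2⟩
        refine ⟨(card_conj g H).trans h1, ?_⟩
        have : ν (MulAut.conj g • H) = ν H := by
          simp only [hν]
          rw [← ncard_conj g {K ∈ {K : Subgroup G | Nat.card K = p ^ (k + 1)} | H ≤ K}]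
          congr 1
          ext K
          simp only [Set.mem_setOf_eq, pointwise_smul_subset_iff]
          rw [← map_inv, card_conj]
        rwa [this])
    refine (h5.dvd_iff dvd_rfl).1 ?_
    convert dvd_badN hG h hk using 2
    ext H
    simp only [Set.mem_setOf_eq]
    have hdq : ∀ [H.Normal], Nat.card H = p ^ k → p ∣ Nat.card (G ⧸ H) := by
      intro _ hH
      obtain ⟨n, hn⟩ := IsPGroup.iff_card.1 (hG.to_quotient H)
      rcases n with _ | n
      · have := card_eq_card_quotient_mul_card_subgroup H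
        have h6 := Nat.pow_lt_pow_right hp.out.one_lt (show k < k + 1 by omega)
        rw [hn, hH, pow_zero, one_mul] at this
        omega
      · rw [hn]; exact dvd_pow_self p (by omega)
    constructor
    · rintro ⟨⟨h1, h2⟩, hn⟩
      refine ⟨h1, hn, ?_⟩
      by_contra hnb
      rw [hnu' H h1] at h2
      exact h2 (good_sub (hG.to_quotient H) hnb (ih _ (Core.card_quotient_lt _ (hne H h1))))
    · rintro ⟨h1, hn, hb⟩
      refine ⟨⟨h1, fun h2 => ?_⟩, hn⟩
      rw [hnu' H h1] at h2
      exact not_modEq ((bad_sub (hG.to_quotient H) (hdq h1) hb).symm.trans h2)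
  have z : ∀ a b : ℕ, p ∣ b → a + p * b ≡ a [MOD p ^ 2] := by
    rintro a _ ⟨b, rfl⟩
    rw [← mul_assoc, ← pow_two]
    exact Nat.add_mul_mod_self_left _ _ _
  have h6 := ((z _ _ hc).symm.trans h2).symm.trans (h1 ▸ (z _ _ h4).symm.trans h3)
  refine Nat.ModEq.cancel_left_of_coprime ?_ h6
  exact Nat.Coprime.pow_left 2 (by simp)

theorem main_T (G : Type u) [Group G] [Finite G] : T p G := by
  refine Core.induction_on_card (P := fun G _ _ => T p G) ?_ G
  intro G _ _ ih m hm h k hk1 hk
  have hG : IsPGroup p G := IsPGroup.of_card hm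
  have hlt : ∀ j, j < m → p ^ j < Nat.card G := fun j hj => by
    rw [hm]; exact Nat.pow_lt_pow_right hp.out.one_lt hj
  have chain : ∀ i, 1 ≤ i → (∀ j, i ≤ j → j + 1 < m →
      p ∣ {U : Subgroup G | Nat.card U = p ^ (j + 1) ∧ IsCyclic U}.ncard) →
      ∀ j, i ≤ j → j < m → sub G (p ^ j) ≡ sub G (p ^ i) [MOD p ^ 2] := by
    intro i hi hc j hij
    induction j, hij using Nat.le_induction with
    | base => intro _; rfl
    | succ j hij ihj =>
      intro hj
      exact (step hG h ih (by omega) (hlt _ hj) (hc j hij hj)).trans (ihj (by omega))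
  by_cases hF : frattini G = ⊥
  · have he := ((PGrp.frattini_eq_bot_iff hG).1 hF).2
    refine (chain 1 le_rfl (fun j hj _ => ?_) k hk1 hk).trans ?_
    · rw [Set.eq_empty_iff_forall_notMem.2
        fun (U : Subgroup G) (hU : U ∈ {U : Subgroup G | Nat.card U = p ^ (j + 1) ∧ IsCyclic U}) =>
          ?_]
      · simp
      obtain ⟨a, rfl⟩ := PGrp.exists_zpowers_eq_of_isCyclic hU.2
      have h1 := orderOf_dvd_of_pow_eq_one (he a)
      rw [← Nat.card_zpowers, hU.1] at h1
      nth_rewrite 2 [← pow_one p] at h1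
      rw [Nat.pow_dvd_pow_iff_le_right hp.out.one_lt] at h1
      omega
    · have h1 := sub_prime_mul (G := G) hp.out
      have e : {x : G | orderOf x = p} = {1}ᶜ := by
        ext x
        simp only [Set.mem_setOf_eq, Set.mem_compl_iff, Set.mem_singleton_iff]
        refine ⟨fun hx => ?_, fun hx => orderOf_eq_prime (he x) hx⟩
        rintro rfl
        rw [orderOf_one] at hx
        exact hp.out.one_lt.ne hx
      have h2 := Set.ncard_add_ncard_compl ({1} : Set G)
      rw [← e, ← h1, Set.ncard_singleton, hm] at h2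
      rw [pow_one]
      refine Nat.ModEq.cancel_right_of_coprime (c := p - 1) ?_ (Nat.ModEq.add_left_cancel' 1 ?_)
      · exact Nat.Coprime.pow_left _ ((Nat.coprime_self_sub_right hp.out.one_le).2 (by simp))
      rw [h2]
      have h3 : 1 + (1 + p) * (p - 1) = p ^ 2 := by
        obtain ⟨q, hq⟩ : ∃ q, p = q + 1 := ⟨p - 1, by have := hp.out.pos; omega⟩
        rw [hq, Nat.add_sub_cancel]; ring
      rw [h3]
      exact (Nat.modEq_zero_iff_dvd.2 (pow_dvd_pow p (by omega))).trans
        (Nat.modEq_zero_iff_dvd.2 dvd_rfl).symm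
  by_cases h2 : p = 2 ∧ k = 1
  · obtain ⟨rfl, rfl⟩ := h2
    have h1 := sub_prime_mul (G := G) Nat.prime_two
    rw [show 2 - 1 = 1 from rfl, mul_one, ← Nat.card_coe_set_eq] at h1
    have h3 := sub_modEq (G := G) (k := 1) Nat.prime_two (by rw [hm]; exact pow_dvd_pow 2 hk.le)
    have h4 : sub G 2 % 4 ≠ 1 := by
      intro h4
      rw [h1] at h4
      rcases S4477.result hG h4 with h5 | h5
      · exact h (Or.inl h5)
      refine h (Or.inr ⟨rfl, fun hcm => ?_, h5⟩)
      rw [(commutator_eq_bot_iff_center_eq_top G).2 (center_eq_top_iff.2 hcm), index_bot] at h5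
      apply hF
      obtain ⟨R, -, hR, hc⟩ := exists_R hG h
      have : R = ⊤ := eq_top_of_card_eq R (by rw [hc, h5]; rfl)
      subst this
      exact (PGrp.frattini_eq_bot_iff hG).2 ⟨hcm, fun x => hR.2 x trivial⟩
    rw [pow_one] at h3 ⊢
    unfold Nat.ModEq at h3 ⊢
    omega
  obtain ⟨n, rfl⟩ : ∃ n, m = n + 1 := ⟨m - 1, by omega⟩
  refine (chain k hk1 (fun j hj hjm => ?_) n (by omega) (by omega)).symm.trans
    (mu hm (fun h' => h (Or.inl h')) (ih _ (Core.card_quotient_lt _ hF)))
  obtain ⟨i, rfl⟩ : ∃ i, j = i + 1 := ⟨j - 1, by omega⟩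
  refine dvd_cyc hG h (fun h3 => ?_) (by rw [hm]; exact pow_dvd_pow p (by omega))
  have : k ≠ 1 := fun h4 => h2 ⟨h3, h4⟩
  omega

theorem s4157 {G : Type*} [Group G] [Finite G] (m : ℕ)
    (hG : Nat.card G = p ^ m) (hnc : ¬ IsCyclic G) (h2 : p = 2 → Group.nilpotencyClass G ≠ m - 1)
    (k : ℕ) (hk1 : 1 ≤ k) (hk2 : k < m) :
    Nat.card {H : Subgroup G // Nat.card H = p ^ k} ≡ 1 + p [MOD p ^ 2] := by
  rw [sub_eq]
  refine main_T G m hG ?_ k hk1 hk2
  rintro (h | ⟨rfl, h1, h4⟩)
  · exact hnc h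
  obtain ⟨x, y, n, -, h⟩ := PGrp.exists_mc_of_index_commutator (IsPGroup.of_card hG) h4 h1
  apply h2 rfl
  have := PGrp.mc_card h
  rw [hG, Nat.pow_right_inj (by norm_num)] at this
  rw [PGrp.mc_nilpotencyClass h]
  omega

end Cfsg.Agent.H23.Kul
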