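import Mathlib
import Cfsg.Agent.H23.Kulak3

set_option autoImplicit false

namespace Cfsg.Agent.H23.Kul

open Subgroup Finset
open scoped Pointwise commutatorElement

variable {G : Type*} [Group G] [Finite G] {p : ℕ} [hp : Fact p.Prime]

omit [Finite G] in
theorem rel_eq {M K : Subgroup G} {t : ℕ} (h : M ≤ K) (hM : Nat.card M = p ^ t)
    (hK : Nat.card K = p ^ (t + 1)) : M.relIndex K = p := by
  have := Core.card_mul_relIndex h
  rw [hM, hK, pow_succ] at this
  exact Nat.eq_of_mul_eq_mul_left (pow_pos hp.out.pos _) this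

omit hp [Finite G] in
theorem conj_normalizer (g : G) (H : Subgroup G) :
    normalizer ((MulAut.conj g • H : Subgroup G) : Set G) = MulAut.conj g • normalizer (H : Set G) :=
  (map_equiv_normalizer_eq H (MulAut.conj g)).symm

theorem dvd_F {P M : Subgroup G} {a t : ℕ} (h : M ≤ P) (hM : Nat.card M = p ^ t)
    (hP : Nat.card P = p ^ (t + 1)) (hat : a ≤ t) :
    p ∣ {H : Subgroup G | Nat.card H = p ^ a ∧ H ≤ P ∧ ¬ H ≤ M ∧ P ≤ normalizer (H : Set G)}.ncard := by
  have hPp : IsPGroup p P := IsPGroup.of_card hP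
  haveI : (M.subgroupOf P).Normal := (normal_subgroupOf_iff_le_normalizer h).2
    (PGrp.le_normalizer_of_relIndex_prime hPp h (rel_eq h hM hP))
  have h1 := ncard_normal_between hPp (bot_le : ⊥ ≤ (⊤ : Subgroup P)) (k := a) (by simp)
    (by rw [card_top, hP]; exact pow_dvd_pow p (by omega))
  have h2 := ncard_normal_between hPp (bot_le : ⊥ ≤ M.subgroupOf P) (k := a) (by simp)
    (by rw [Core.card_subgroupOf_of_le h, hM]; exact pow_dvd_pow p hat)
  have e : {H : Subgroup P | H.Normal ∧ ⊥ ≤ H ∧ H ≤ ⊤ ∧ Nat.card H = p ^ a} =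
      {H : Subgroup P | H.Normal ∧ Nat.card H = p ^ a ∧ ¬ H ≤ M.subgroupOf P} ∪
      {H : Subgroup P | H.Normal ∧ ⊥ ≤ H ∧ H ≤ M.subgroupOf P ∧ Nat.card H = p ^ a} := by
    ext H
    simp only [bot_le, le_top, true_and, Set.mem_setOf_eq, Set.mem_union]
    tauto
  rw [e, Set.ncard_union_eq (by
    rw [Set.disjoint_left]; rintro H ⟨-, -, h⟩ ⟨-, -, h', -⟩; exact h h')] at h1
  have h3 := Nat.modEq_zero_iff_dvd.1
    (Nat.ModEq.add_right_cancel' _ ((h1.trans h2.symm).trans (by rw [zero_add])))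
  rw [← Set.ncard_image_of_injective _ (map_injective P.subtype_injective)] at h3
  convert h3 using 2
  ext H
  constructor
  · rintro ⟨h1, h2, h3, h4⟩
    exact ⟨H.subgroupOf P, ⟨(normal_subgroupOf_iff_le_normalizer h2).2 h4,
      by rw [Core.card_subgroupOf_of_le h2, h1], fun h5 => h3 fun x hx => h5 (x := ⟨x, h2 hx⟩) hx⟩,
      map_subgroupOf_eq_of_le h2⟩
  · rintro ⟨K, ⟨h1, h2, h3⟩, rfl⟩
    exact ⟨by rw [Core.card_map_subtype, h2], map_subtype_le _,
      fun h4 => h3 (map_le_iff_le_comap.1 h4), Core.le_normalizer_map_subtype_of_normal P K⟩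

theorem dvd_YM (P : Sylow p G) {M : Subgroup G} {a t : ℕ} (h : M ≤ P) (hM : Nat.card M = p ^ t)
    (hP : Nat.card P = p ^ (t + 1)) (hat : a ≤ t) :
    p ^ 2 ∣ {H : Subgroup G | Nat.card H = p ^ a ∧ ¬ H ≤ P ∧ M ≤ normalizer (H : Set G)}.ncard := by
  have hS := Core.isSylowOf_top P
  have hKN : ∀ K : Subgroup G, M ≤ K → Nat.card K = p ^ (t + 1) → K ≤ normalizer (M : Set G) :=
    fun K h1 h2 => PGrp.le_normalizer_of_relIndex_prime (IsPGroup.of_card h2) h1 (rel_eq h1 hM h2)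
  rw [ncard_eq_sum _ {K : Subgroup G | M ≤ K ∧ Nat.card K = p ^ (t + 1) ∧ K ≠ P}
    (fun H K => H ≤ K), sum_eq_mul _ _ {H : Subgroup G | Nat.card H = p ^ a ∧ H ≤ P ∧ ¬ H ≤ M ∧
      (P : Subgroup G) ≤ normalizer (H : Set G)}.ncard, pow_two]
  · refine Nat.mul_dvd_mul ?_ (dvd_F h hM hP hat)
    have h1 := ncard_between (le_normalizer (H := M)) p
    have h2 := sub_modEq (G := normalizer (M : Set G) ⧸ M.subgroupOf (normalizer (M : Set G)))
      (k := 1) hp.out (by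
        rw [pow_one, ← rel_eq h hM hP]
        exact Dvd.intro _ (relIndex_mul_relIndex M P _ h (hKN P h hP)))
    rw [pow_one, ← h1] at h2
    have e : {H : Subgroup G | M ≤ H ∧ H ≤ normalizer (M : Set G) ∧ Nat.card H = Nat.card M * p} =
        insert (P : Subgroup G) {K : Subgroup G | M ≤ K ∧ Nat.card K = p ^ (t + 1) ∧ K ≠ P} := by
      ext K
      rw [hM, ← pow_succ]
      simp only [Set.mem_setOf_eq, Set.mem_insert_iff]
      constructor
      · rintro ⟨h1, -, h2⟩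
        by_cases e : K = P
        · exact Or.inl e
        · exact Or.inr ⟨h1, h2, e⟩
      · rintro (rfl | ⟨h1, h2, -⟩)
        · exact ⟨h, hKN _ h hP, hP⟩
        · exact ⟨h1, hKN _ h1 h2, h2⟩
    rw [e, Set.ncard_insert_of_notMem (fun h3 => h3.2.2 rfl)] at h2
    exact Nat.modEq_zero_iff_dvd.1 (Nat.ModEq.add_right_cancel' 1 (h2.trans (by rw [zero_add])))
  · rintro K ⟨h1, h2, h3⟩
    have hS' : Core.IsSylowOf p P (normalizer (M : Set G)) := hS.of_le (hKN _ h hP) le_top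
    obtain ⟨g, hg, rfl⟩ := hS'.exists_conj_eq
      (hS'.of_card_le (IsPGroup.of_card h2) (hKN _ h1 h2) (h2.trans hP.symm).ge)
    have hgM : MulAut.conj g • M = M := Core.conj_smul_eq_iff_mem_normalizer.2 hg
    rw [← ncard_conj g {H : Subgroup G | Nat.card H = p ^ a ∧ H ≤ P ∧ ¬ H ≤ M ∧
      (P : Subgroup G) ≤ normalizer (H : Set G)}]
    congr 1
    ext H
    simp only [Set.mem_setOf_eq]
    rw [← map_inv, card_conj, conj_normalizer, map_inv, pointwise_smul_subset_iff, inv_inv,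
      pointwise_smul_subset_iff, inv_inv, hgM, ← pointwise_smul_subset_iff]
    constructor
    · rintro ⟨⟨h4, h5, h6⟩, h7⟩
      have h8 : ¬ H ≤ M := fun e => h5 (e.trans h)
      refine ⟨h4, h7, h8, ?_⟩
      rw [← sup_eq_of_not_le h1 hM h2 h7 h8]
      exact sup_le h6 le_normalizer
    · rintro ⟨h4, h5, h6, h7⟩
      refine ⟨⟨h4, fun h8 => h3 ?_, h1.trans h7⟩, h5⟩
      rw [← sup_eq_of_not_le h1 hM h2 h5 h6, sup_eq_of_not_le h hM hP h8 h6]
  · rintro H ⟨h1, h2, h3⟩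
    have h4 : ¬ H ≤ M := fun e => h2 (e.trans h)
    have h5 : IsPGroup p (H ⊔ M : Subgroup G) :=
      (IsPGroup.of_card h1).to_sup_of_normal_left' (IsPGroup.of_card hM) h3
    have h6 : Nat.card (H ⊔ M : Subgroup G) = p ^ (t + 1) := by
      have h7 := hS.card_dvd h5 le_top
      have h8 := Core.card_lt_of_lt (right_lt_sup.2 h4)
      rw [hP] at h7
      obtain ⟨j, hj, e⟩ := (Nat.dvd_prime_pow hp.out).1 h7
      rw [e, hM, Nat.pow_lt_pow_iff_right hp.out.one_lt] at h8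
      rw [e]; congr 1; omega
    refine ⟨H ⊔ M, ⟨⟨le_sup_right, h6, fun e => h2 (e ▸ le_sup_left)⟩, le_sup_left⟩, ?_⟩
    rintro K ⟨⟨h7, h8, -⟩, h9⟩
    rw [← sup_eq_of_not_le h7 hM h8 h9 h4, sup_comm]

theorem sub_sylow (P : Sylow p G) {a t : ℕ} (hP : Nat.card P = p ^ (t + 1)) (hat : a ≤ t) :
    sub G (p ^ a) ≡ sub P (p ^ a) [MOD p ^ 2] := by
  have hS := Core.isSylowOf_top P
  let A : Subgroup G → Prop := fun H =>
    ∃ M : Subgroup G, M ≤ P ∧ Nat.card M = p ^ t ∧ M ≤ normalizer (H : Set G)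
  have h1 : p ^ 2 ∣ {H : Subgroup G | (Nat.card H = p ^ a ∧ ¬ H ≤ P) ∧ A H}.ncard := by
    refine dvd_of_fibres _ {M : Subgroup G | M ≤ P ∧ Nat.card M = p ^ t}
      (fun (H : Subgroup G) M => M ≤ normalizer (H : Set G)) ?_ ?_
    · rintro H ⟨⟨h1, h2⟩, M, h3, h4, h5⟩
      refine ⟨M, ⟨⟨h3, h4⟩, h5⟩, ?_⟩
      rintro M' ⟨⟨h6, h7⟩, h8⟩
      by_contra hne
      refine h2 (hS.le_of_le_normalizer (IsPGroup.of_card h1) le_top ?_)
      rw [← sup_eq_of_not_le h3 h4 hP h6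
        (fun e => hne (Core.eq_of_le_of_card_le e (h4.trans h7.symm).le))]
      exact sup_le h5 h8
    · rintro M ⟨h3, h4⟩
      convert dvd_YM P h3 h4 hP hat using 2
      ext H
      exact ⟨fun ⟨⟨⟨h1, h2⟩, _⟩, h5⟩ => ⟨h1, h2, h5⟩,
        fun ⟨h1, h2, h5⟩ => ⟨⟨⟨h1, h2⟩, M, h3, h4, h5⟩, h5⟩⟩
  have h2 : p ^ 2 ∣ {H : Subgroup G | (Nat.card H = p ^ a ∧ ¬ H ≤ P) ∧ ¬ A H}.ncard := by
    letI : MulAction G (Subgroup G) := MulAction.compHom _ (MulAut.conj (G := G))
    have hsm : ∀ (g : G) (H : Subgroup G), g • H = MulAut.conj g • H := fun _ _ => rfl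
    refine Perm.dvd_ncard_of_forall_orbit (P : Subgroup G) _ (Set.toFinite _) ?_ ?_
    · rintro g hg H ⟨⟨h1, h2⟩, h3⟩
      have hgP : (MulAut.conj g)⁻¹ • (P : Subgroup G) = P := by
        rw [← map_inv]; exact conj_smul_eq_self_of_mem (inv_mem hg)
      rw [hsm]
      refine ⟨⟨(card_conj g H).trans h1, by rwa [pointwise_smul_subset_iff, hgP]⟩, ?_⟩
      rintro ⟨M, h4, h5, h6⟩
      refine h3 ⟨(MulAut.conj g)⁻¹ • M, ?_, by rw [← map_inv, card_conj, h5], ?_⟩
      · rw [← hgP]; exact pointwise_smul_le_pointwise_smul_iff.2 h4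
      · rwa [conj_normalizer, subset_pointwise_smul_iff] at h6
    · rintro H ⟨⟨h1, h2⟩, h3⟩
      rw [← MulAction.index_stabilizer]
      have e : MulAction.stabilizer (P : Subgroup G) H = (normalizer (H : Set G)).subgroupOf P := by
        ext g
        rw [MulAction.mem_stabilizer_iff, mem_subgroupOf, Subgroup.smul_def, hsm,
          Core.conj_smul_eq_iff_mem_normalizer]
      rw [e]
      obtain ⟨i, hi⟩ := P.isPGroup'.index ((normalizer (H : Set G)).subgroupOf P)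
      rw [hi]
      refine pow_dvd_pow p ?_
      by_contra hlt
      have h4 := ((normalizer (H : Set G)).subgroupOf P).card_mul_index
      rw [hi, hP] at h4
      have h5 : p ^ t ∣ Nat.card ((normalizer (H : Set G)).subgroupOf P) := by
        refine Nat.dvd_of_mul_dvd_mul_right (pow_pos hp.out.pos i) ?_
        rw [h4, ← pow_add]
        exact pow_dvd_pow p (by omega)
      obtain ⟨M, hM⟩ := Sylow.exists_subgroup_card_pow_prime p h5
      refine h3 ⟨(M.map (Subgroup.subtype _)).map (Subgroup.subtype _), map_subtype_le _,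
        by rw [Core.card_map_subtype, Core.card_map_subtype, hM], ?_⟩
      rintro _ ⟨x, ⟨y, -, rfl⟩, rfl⟩
      exact y.2
  have e : {H : Subgroup G | Nat.card H = p ^ a} = {H : Subgroup G | H ≤ P ∧ Nat.card H = p ^ a} ∪
      ({H : Subgroup G | (Nat.card H = p ^ a ∧ ¬ H ≤ P) ∧ A H} ∪
       {H : Subgroup G | (Nat.card H = p ^ a ∧ ¬ H ≤ P) ∧ ¬ A H}) := by
    ext H
    simp only [Set.mem_setOf_eq, Set.mem_union]
    generalize A H = b
    tauto
  rw [sub, e, Set.ncard_union_eq (by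
    rw [Set.disjoint_left]
    rintro H ⟨h, -⟩ (⟨⟨-, h'⟩, -⟩ | ⟨⟨-, h'⟩, -⟩) <;> exact h' h), Set.ncard_union_eq (by
    rw [Set.disjoint_left]
    rintro H ⟨-, h⟩ ⟨-, h'⟩
    exact h' h), ncard_le]
  exact (Nat.ModEq.add_left _ (Nat.modEq_zero_iff_dvd.2 (dvd_add h1 h2))).trans (by rw [add_zero])

theorem s4237 (a : ℕ) (hdvd : p ^ (a + 1) ∣ Nat.card G) :
    Nat.card {H : Subgroup G // Nat.card H = p ^ a} ≡ 1 [MOD p ^ 2] ∨
      Nat.card {H : Subgroup G // Nat.card H = p ^ a} ≡ 1 + p [MOD p ^ 2] := by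
  rw [sub_eq]
  by_cases h2 : p = 2
  · subst h2
    have := sub_modEq (G := G) (k := a) Nat.prime_two ((pow_dvd_pow 2 (by omega)).trans hdvd)
    unfold Nat.ModEq at this ⊢
    omega
  obtain ⟨P⟩ : Nonempty (Sylow p G) := inferInstance
  obtain ⟨n, hn⟩ := IsPGroup.iff_card.1 P.isPGroup'
  have h1 : a + 1 ≤ n := by
    have := P.pow_dvd_card_of_pow_dvd_card hdvd
    rwa [hn, Nat.pow_dvd_pow_iff_le_right hp.out.one_lt] at this
  obtain ⟨t, rfl⟩ : ∃ t, n = t + 1 := ⟨n - 1, by omega⟩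
  have h3 := sub_sylow P hn (show a ≤ t by omega)
  by_cases hc : IsCyclic P
  · left
    rwa [sub_cyclic hc (by rw [hn]; exact pow_dvd_pow p (by omega))] at h3
  rcases Nat.eq_zero_or_pos a with rfl | ha
  · left
    have : {H : Subgroup G | Nat.card H = p ^ 0} = {⊥} := by
      ext H; simp
    rw [sub, this, Set.ncard_singleton]
  right
  refine h3.trans (main_T P _ hn ?_ a ha (by omega))
  rintro (h | ⟨h, -⟩)
  · exact hc h
  · exact h2 h

end Cfsg.Agent.H23.Kul
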