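import Mathlib
import Cfsg.Agent.Inv.Ess9

/-!
# Essential subgroups that are elementary abelian of order `p ^ 3`: local analysis, part 1
-/

set_option autoImplicit false

namespace Cfsg.Agent.H23.MCE

open Subgroup Cfsg.Agent.Fusion Cfsg.Agent.Fusion.FS Cfsg.Agent.Inv.Es
open scoped commutatorElement

variable {G : Type*} [Group G] {p : ℕ} [hp : Fact p.Prime] [Finite G] {F : FS G} {E P R : Subgroup G}

omit hp [Finite G] in
theorem bil {A A0 B B0 Y P : Subgroup G} (hA : A ≤ P) (hB : B ≤ P) (hP : P ≤ nz Y) (hA0 : A0 ≤ A) (hB0 : B0 ≤ B)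
    (h1 : ∀ a ∈ A, ∀ b ∈ B, ∀ g ∈ P, ⁅g, ⁅a, b⁆⁆ ∈ Y) (h2 : ∀ a ∈ A0, ∀ b ∈ B, ⁅a, b⁆ ∈ Y)
    (h3 : ∀ a ∈ A, ∀ b ∈ B0, ⁅a, b⁆ ∈ Y) {a b a' b' : G} (ha : a ∈ A) (hb : b ∈ B) {k l : ℤ}
    (c1 : Cg A0 (a ^ k) a') (c2 : Cg B0 (b ^ l) b') : Cg Y (⁅a, b⁆ ^ (k * l)) ⁅a', b'⁆ := by
  obtain ⟨u, hu, rfl⟩ := c1.exists
  obtain ⟨v, hv, rfl⟩ := c2.exists
  haveI : (Y.subgroupOf P).Normal := normal_subgroupOf_of_le_normalizer hP
  let π := QuotientGroup.mk' (Y.subgroupOf P)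
  have k1 : ∀ x y : P, ⁅(x : G), (y : G)⁆ ∈ Y → ⁅π x, π y⁆ = 1 := fun x y h => by
    rw [← map_commutatorElement]
    exact (QuotientGroup.eq_one_iff _).mpr h
  have k2 : ∀ x y g : P, (x : G) ∈ A → (y : G) ∈ B → Commute (π g) ⁅π x, π y⁆ := fun x y g hx hy => by
    rw [← map_commutatorElement]
    exact commutatorElement_eq_one_iff_commute.mp (k1 g ⁅x, y⁆ (h1 _ hx _ hy _ g.2))
  set a1 : P := ⟨a, hA ha⟩
  set b1 : P := ⟨b, hB hb⟩
  set u1 : P := ⟨u, hA (hA0 hu)⟩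
  set v1 : P := ⟨v, hB (hB0 hv)⟩
  have hbv : ((b1 ^ l * v1 : P) : G) ∈ B := mul_mem (zpow_mem hb l) (hB0 hv)
  have hak : ((a1 ^ k : P) : G) ∈ A := zpow_mem ha k
  have e : π (⁅a1, b1⁆ ^ (k * l)) = π ⁅a1 ^ k * u1, b1 ^ l * v1⁆ := by
    rw [map_commutatorElement, map_mul π (a1 ^ k), PGrp.commutator_mul_left_of_commute (k2 u1 _ _ (hA0 hu) hbv),
      k1 u1 _ (h2 _ hu _ hbv), one_mul, map_mul, PGrp.commutator_mul_right_of_commute (k2 _ v1 _ hak (hB0 hv)),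
      k1 _ v1 (h3 _ hak _ hv), mul_one, map_zpow π b1, PGrp.commutator_zpow_right_of_commute (k2 _ b1 _ hak hb),
      map_zpow π a1, PGrp.commutator_zpow_left_of_commute (k2 a1 b1 _ ha hb), map_zpow, map_commutatorElement, zpow_mul]
  have e' : (⁅a1, b1⁆ ^ (k * l))⁻¹ * ⁅a1 ^ k * u1, b1 ^ l * v1⁆ ∈ Y.subgroupOf P := QuotientGroup.eq.mp e
  exact e'

theorem ext_chain (hF : F.Sat p) (hP : F.FN P) (c : ℕ → Subgroup G) (h0 : c 0 = P) (hle : ∀ i, c (i + 1) ≤ c i)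
    {m : ℕ} (hm : c m = ⊥) (hn : ∀ i, F.S ⊓ nz P ≤ nz (c i)) {t : G} (ht : t ∈ F.aut P) (ht' : ∀ i, t ∈ nz (c i))
    (hR : R ≤ F.S ⊓ nz P) (h1 : ∀ i, R ≤ trv (c i) (c (i + 1))) : ∃ d ∈ cz P, F.M (P ⊔ R) (t * d) := by
  have hcP : ∀ i, c i ≤ P := fun i => by
    induction i with
    | zero => exact h0.le
    | succ i ih => exact (hle i).trans ih
  set K := F.aut P ⊓ ⨅ i, trv (c i) (c (i + 1)) with hKd
  have hK : ∀ a ∈ F.aut P, (∀ i, a ∈ nz (c i)) → a ∈ nz K := fun a ha h => mem_nz_of_forall fun x hx =>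
    ⟨conj_mem_of_nz (le_nz _ ha) hx.1, mem_iInf.mpr fun i =>
      conj_mem_of_nz (Fusion.mem_nz_trv (h i) (h (i + 1))) (mem_iInf.mp hx.2 i)⟩
  have hpm : ∀ j, j ≤ m → PMod p K (cz (c (m - j))) := fun j hj => by
    induction j with
    | zero => rw [Nat.sub_zero, hm, cz_bot]; exact .of_le le_top
    | succ j ih =>
      have e : m - j = m - (j + 1) + 1 := by omega
      refine pmod_cz_of_pmod (hF.pg_le ((hcP _).trans hP.1)) (.of_le (inf_le_right.trans (iInf_le _ _))) ?_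
      rw [← e]; exact ih (by omega)
  have h3 : K ≤ ai F.S P := by
    have := hpm m le_rfl
    rw [Nat.sub_self, h0] at this
    refine (hF.fa hP).le_aiS inf_le_left this fun a ha => hK a (aiS_le_aut hP.1 ha) fun i => ?_
    rw [ai_eq] at ha
    exact sup_le (hn i) ((cz_anti (hcP i)).trans (cz_le_nz _)) ha
  refine ess_extend hF hP ht (hR.trans inf_le_left) (cj_le_iff.2 fun a ha => h3 (conj_mem_of_nz (hK t ht ht') ?_))
  exact ⟨NS_le_aut hP.1 (hR ha), mem_iInf.mpr fun i => h1 i ha⟩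

omit hp in
theorem exists_notMem_two {W A B : Subgroup G} (hA : ¬ W ≤ A) (hB : ¬ W ≤ B) : ∃ w ∈ W, w ∉ A ∧ w ∉ B := by
  obtain ⟨a, ha, ha'⟩ := SetLike.not_le_iff_exists.mp hA
  obtain ⟨b, hb, hb'⟩ := SetLike.not_le_iff_exists.mp hB
  by_cases h1 : a ∈ B
  · by_cases h2 : b ∈ A
    · exact ⟨a * b, mul_mem ha hb, fun h => ha' ((mul_mem_cancel_right h2).mp h),
        fun h => hb' ((mul_mem_cancel_left h1).mp h)⟩
    · exact ⟨b, hb, h2, hb'⟩
  · exact ⟨a, ha, ha', h1⟩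

theorem eq_of_mem_card {L L' : Subgroup G} (h : Nat.card L = p) (h' : Nat.card L' = p) {x : G} (hx : x ∈ L)
    (hx' : x ∈ L') (h1 : x ≠ 1) : L = L' := by
  have e : L ⊓ L' = L := (eq_bot_or_eq_of_card h inf_le_left).resolve_left fun e => h1 (mem_bot.mp (e.le ⟨hx, hx'⟩))
  exact Fusion.eq_of_le_of_card_le (e.ge.trans inf_le_right) (by rw [h, h'])

/-- a transvection forces `|N_S(E) : E| < p ^ 2` -/
theorem tv_lt {L : Subgroup G} {g : G} (T : TV p F E E L g) (hc : Nat.card E = p ^ 3) :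
    E.relIndex (F.S ⊓ nz E) < p ^ 2 := by
  classical
  by_contra hlt
  rw [not_lt] at hlt
  have hF := T.sat
  have hE := T.ess
  obtain ⟨H, hH, hle⟩ := exists_spe hF hE
  have key : ∀ x ∈ F.S, x ∈ nz E → x ∉ E → ∀ c ∈ F.aut E, c * x * c⁻¹ ∈ H → c ∈ H := fun x x1 x2 x3 c hc h => by
    obtain ⟨k, hk⟩ := exists_pow_of_S hF x1
    exact hH.mem hc (hle (mem_ai_of_mem x1 x2)) (fun h => x3 (hE.cent.mem_of_ai x1 h)) (k := k) (hk ▸ one_mem _) h
  have K1 : ∀ b ∈ F.aut E, cj b L = L → b ∈ H := fun b hb e => by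
    by_contra hn
    exact T.not_cz T (opp_of_not_mem hF hE hH hle hb hn) (e.symm ▸ T.gL)
  set W := E ⊓ cz (zpowers g) with hW
  obtain ⟨a, ha, haH⟩ := SetLike.exists_of_lt hH.lt
  have oa := opp_of_not_mem hF hE hH hle ha haH
  have hWc : Nat.card W = p ^ 2 := by
    have := Fusion.card_inf_mul_relIndex (cz (zpowers g)) E
    rw [T.idx oa, inf_comm, hc, pow_succ p 2] at this
    exact Nat.eq_of_mul_eq_mul_right hp.out.pos this
  have hNH : F.S ⊓ nz E ≤ H := (inf_le_ai _ _).trans hle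
  -- every element outside `W` lies in a conjugate of `L`
  have surj : ∀ y ∈ E, y ∉ W → ∃ u ∈ F.S ⊓ nz E, y ∈ cj (u * a⁻¹) L := by
    intro y hy hyW
    have hop : ∀ u ∈ F.S ⊓ nz E, Opp p F E (u * a⁻¹) := fun u hu =>
      opp_of_not_mem hF hE hH hle (mul_mem (NS_le_aut hE.le hu) (inv_mem ha))
        fun h => haH (inv_mem_iff.mp ((mul_mem_cancel_left (hNH hu)).mp h))
    have ex : ∀ u : ↥(F.S ⊓ nz E), ∃ w : W, (w : G) * y ∈ cj ((u : G) * a⁻¹) L := fun u => by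
      have h1 := (T.sup1 (hop u u.2)).ge hy
      obtain ⟨w, hw, l, hl, e⟩ := (mem_sup_of_nz (T.le_nz' inf_le_left (T.L'le (hop u u.2).1))).mp h1
      exact ⟨⟨w⁻¹, inv_mem hw⟩, by rw [← e]; simpa using hl⟩
    choose φ hφ using ex
    let ψ : ↥(F.S ⊓ nz E) ⧸ E.subgroupOf (F.S ⊓ nz E) → W := fun q => φ q.out
    have hinj : Function.Injective ψ := fun q q' e => by
      have h1 := hφ q.out
      have h2 := hφ q'.out
      have e' : φ q.out = φ q'.out := e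
      rw [← e'] at h2
      have h3 := eq_of_mem_card ((card_cj _ _).trans T.card) ((card_cj _ _).trans T.card) h1 h2 fun h =>
        hyW ((mul_mem_cancel_left (φ q.out).2).mp (h ▸ one_mem _))
      have h4 : cj (((q'.out : G) * a⁻¹)⁻¹ * ((q.out : G) * a⁻¹)) L = L := by rw [cj_mul, h3, cj_inv_cj]
      have h5 := K1 _ (mul_mem (inv_mem (hop _ q'.out.2).1) (hop _ q.out.2).1) h4
      rw [← QuotientGroup.out_eq' q, ← QuotientGroup.out_eq' q', eq_comm, QuotientGroup.eq, mem_subgroupOf]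
      by_contra hn
      have h6 : ((q'.out⁻¹ * q.out : ↥(F.S ⊓ nz E)) : G) ∈ F.S ⊓ nz E := (q'.out⁻¹ * q.out).2
      refine haH (key _ h6.1 h6.2 hn a ha (mem_of_eq h5 ?_))
      simp only [Subgroup.coe_mul, Subgroup.coe_inv]; group
    have hb := hinj.bijective_of_nat_card_le (hWc.le.trans hlt)
    obtain ⟨q, hq⟩ := hb.2 1
    refine ⟨q.out, q.out.2, ?_⟩
    have := hφ q.out
    have e : φ q.out = 1 := hq
    rw [e] at this
    simpa using this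
  obtain ⟨w, hw, h1, h2⟩ := exists_notMem_two (W := W) (A := cz (zpowers (a * g * a⁻¹))) (B := L)
    (fun h => T.not_cz' oa (zpowers_le.1 (le_cz_comm.1 (T.L_le_Z.trans h)))) (fun h => by
      have := Fusion.card_le_of_le h
      rw [hWc, T.card] at this
      have := hp.out.one_lt
      nlinarith)
  obtain ⟨u, hu, h3⟩ := surj (a⁻¹ * w * a) (conj_mem_of_nz' (F.aut_le_nz E ha) hw.1) fun h => h1 (by
    have := conj_mem_cz_cj (g := a) h.2
    rw [cj_zpowers] at this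
    exact mem_of_eq this (by group))
  have h4 : w ∈ cj (a * u * a⁻¹) L := by
    rw [mem_cj] at h3 ⊢
    exact mem_of_eq h3 (by group)
  have hb : a * u * a⁻¹ ∈ F.aut E := conj_mem_of_nz (le_nz _ ha) (NS_le_aut hE.le hu)
  have hw1 : w ≠ 1 := fun e => h2 (e ▸ one_mem _)
  by_cases hbH : a * u * a⁻¹ ∈ H
  · have huE : u ∈ E := by_contra fun hn => haH (key u hu.1 hu.2 hn a ha hbH)
    have : a * u * a⁻¹ ∈ cz L := cz_anti T.Lle (T.ab (conj_mem_of_nz (F.aut_le_nz E ha) huE))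
    rw [cj_of_cz this] at h4
    exact h2 h4
  · refine T.not_cz T (opp_of_not_mem hF hE hH hle hb hbH) ?_
    have hz : zpowers w = cj (a * u * a⁻¹) L := by
      refine (eq_bot_or_eq_of_card ((card_cj _ _).trans T.card) (zpowers_le.mpr h4)).resolve_left fun e => hw1 ?_
      exact zpowers_eq_bot.mp e
    rw [← hz]
    exact zpowers_le.1 (le_cz_comm.1 (zpowers_le.2 hw.2))

/-- an element of `N_S(E)` outside `E` centralizing a subgroup of order `p ^ 2` is a transvection -/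
theorem tv_of (hF : F.Sat p) (hE : F.Ess p E) (hc : Nat.card E = p ^ 3) (hab : E ≤ cz E) (he : ∀ x ∈ E, x ^ p = 1)
    {Y : Subgroup G} (hY : Y ≤ E) (hYc : Nat.card Y = p ^ 2) {g e : G} (g1 : g ∈ F.S) (g2 : g ∈ nz E) (g3 : g ∉ E)
    (g4 : g ∈ cz Y) (e1 : e ∈ E) (e2 : e ∉ Y) : TV p F E E (zpowers ⁅g, e⁆) g := by
  have hi : Y.relIndex E = p := by
    have := card_mul_relIndex hY
    rw [hYc, hc, pow_succ p 2] at this
    exact Nat.eq_of_mul_eq_mul_left (pow_pos hp.out.pos 2) this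
  have hs := PGrp.sup_zpowers_eq_of_relIndex_prime hp.out hi hY e1 e2
  have hl : ⁅g, e⁆ ∈ E := mul_mem (conj_mem_of_nz g2 e1) (inv_mem e1)
  have hl1 : ⁅g, e⁆ ≠ 1 := fun h => g3 (hE.cent.cz_le ⟨g1, by
    rw [← hs, cz_sup]
    exact ⟨g4, mem_cz_zpowers.mpr (commutatorElement_eq_one_iff_mul_comm.mp h).symm⟩⟩)
  have hLE : zpowers ⁅g, e⁆ ≤ E := zpowers_le.mpr hl
  have hLc : Nat.card (zpowers ⁅g, e⁆) = p := by rw [Nat.card_zpowers, orderOf_eq_prime (he _ hl) hl1]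
  have hEL : E ≤ nz (zpowers ⁅g, e⁆) := hab.trans ((cz_anti hLE).trans (cz_le_nz _))
  have hgY : g ∈ trv E Y := mem_trv_of_pg hY (hab.trans ((cz_anti hY).trans (cz_le_nz _))) hi.dvd g2 (cz_le_nz _ g4)
    (exists_pow_of_S hF g1)
  have hlY : ⁅g, e⁆ ∈ Y := by
    have h1 : e⁻¹ * (g * e * g⁻¹) ∈ Y := hgY.2 e e1
    have h2 := mem_cz.1 (hab e1) _ (conj_mem_of_nz g2 e1)
    refine mem_of_eq h1 ?_
    rw [commutatorElement_def, inv_mul_eq_iff_eq_mul, ← mul_assoc, ← h2]; group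
  have hgL : g ∈ nz (zpowers ⁅g, e⁆) := cz_le_nz _ (cz_anti (zpowers_le.mpr hlY) g4)
  refine ⟨hF, hE, le_rfl, F.aut_le_nz E, hab, hLE, hLc, g1, g3, mem_trv_of_le le_rfl g2, ?_⟩
  rw [← hs]
  refine mem_trv_sup (mem_trv_of_cz g4 hgL) (mem_trv_zpowers hgL (hEL e1) ?_) (hY.trans hEL) (zpowers_le.2 (hEL e1))
  rw [PGrp.conj_eq_commutator_mul]
  exact cg_mem_mul (mem_zpowers _) (hEL e1)

end Cfsg.Agent.H23.MCE
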