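import Mathlib
import Cfsg.Agent.H23.MC1

/-!
# Essential subgroups that are elementary abelian of order `p ^ 3`: local analysis, part 2
-/

set_option autoImplicit false

namespace Cfsg.Agent.H23.MCE

open Subgroup Cfsg.Agent.Fusion Cfsg.Agent.Fusion.FS Cfsg.Agent.Inv.Es
open scoped commutatorElement

variable {G : Type*} [Group G] {p : ℕ} [hp : Fact p.Prime] [Finite G] {F : FS G} {E N Y Fo N1 : Subgroup G}

/-- the basic hypothesis -/
structure Hy (p : ℕ) (F : FS G) (E : Subgroup G) : Prop where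
  sat : F.Sat p
  ess : F.Ess p E
  card : Nat.card E = p ^ 3
  ab : E ≤ cz E
  ex : ∀ x ∈ E, x ^ p = 1
  big : p ^ 5 ≤ Nat.card F.S

theorem relIndex_of_card {A B : Subgroup G} (h : A ≤ B) {k : ℕ} (hA : Nat.card A = p ^ k)
    (hB : Nat.card B = p ^ (k + 1)) : A.relIndex B = p := by
  have := card_mul_relIndex h
  rw [hA, hB, pow_succ p k] at this
  exact Nat.eq_of_mul_eq_mul_left (pow_pos hp.out.pos k) this

omit [Finite G] hp in
theorem card_of_relIndex {A B : Subgroup G} (h : A ≤ B) {k : ℕ} (hA : Nat.card A = p ^ k)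
    (hB : A.relIndex B = p) : Nat.card B = p ^ (k + 1) := by
  rw [← card_mul_relIndex h, hA, hB, pow_succ]

theorem Hy.idx (h : Hy p F E) : E.relIndex (F.S ⊓ nz E) = p := by
  have hN := h.sat.pg_le (inf_le_left : F.S ⊓ nz E ≤ _)
  have hEN := le_NS h.ess.le
  obtain ⟨k, hk⟩ := relIndex_pow (Y := E) hN
  have h1 : E.relIndex (F.S ⊓ nz E) < p ^ 2 := by
    by_contra hlt
    obtain ⟨E2, -, h2, h3, h4⟩ := PGrp.exists_invariant_card_eq hN hEN inf_le_right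
      (N := ⊥) (le_top.trans nz_bot.ge) bot_le 2 (by rw [card_bot, one_mul, h.card]; exact Nat.pow_le_pow_right hp.out.pos (by omega))
    rw [card_bot, one_mul] at h3
    have h5 := PGrp.relIndex_centralizer_le_pow_choose hN 2 E2 (h2.trans hEN) h4 h3
    have h6 : ¬ (F.S ⊓ nz E) ⊓ cz E2 ≤ E := fun hle => by
      have := relIndex_le_of_le_left hle (relIndex_ne_zero _ (F.S ⊓ nz E))
      rw [inf_comm (F.S ⊓ nz E) (cz E2), inf_relIndex_right] at this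
      have h7 := this.trans h5
      have := hp.out.one_lt
      simp only [Nat.choose_self, pow_one] at h7
      nlinarith
    obtain ⟨g, hg, hgE⟩ := SetLike.not_le_iff_exists.mp h6
    obtain ⟨e, e1, e2⟩ := exists_notMem_of_card h3 h.card
    exact hlt (tv_lt (tv_of h.sat h.ess h.card h.ab h.ex h2 h3 hg.1.1 hg.1.2 hgE hg.2 e1 e2) h.card)
  rw [hk, Nat.pow_lt_pow_iff_right hp.out.one_lt] at h1
  have h2 : k ≠ 0 := fun e => by
    rw [e, pow_zero, relIndex_eq_one] at hk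
    exact (h.sat.lt_NS (h.ess.lt h.sat)).not_ge hk
  rw [hk, show k = 1 by omega, pow_one]

/-- the local data -/
structure Loc (p : ℕ) (F : FS G) (E N Y Fo N1 : Subgroup G) : Prop extends Hy p F E where
  hN : N = F.S ⊓ nz E
  hY : Y = N ⊓ cz N
  hN1 : N1 = F.S ⊓ nz N
  cN : Nat.card N = p ^ 4
  cY : Nat.card Y = p ^ 2
  cN1 : Nat.card N1 = p ^ 5
  YE : Y ≤ E
  YF : Y ≤ Fo
  FN' : Fo ≤ N
  iF : Y.relIndex Fo = p
  t1 : N1 ≤ trv N Fo
  t2 : N1 ≤ trv Fo Y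

theorem Hy.loc (h : Hy p F E) : ∃ Fo, Loc p F E (F.S ⊓ nz E) ((F.S ⊓ nz E) ⊓ cz (F.S ⊓ nz E)) Fo
    (F.S ⊓ nz (F.S ⊓ nz E)) := by
  have hi := h.idx
  have hEN := le_NS h.ess.le
  set N := F.S ⊓ nz E with hN
  have cN : Nat.card N = p ^ 4 := card_of_relIndex hEN h.card hi
  have hlt : N < F.S := lt_of_le_of_ne inf_le_left fun e => by
    have := h.big
    rw [← e, cN, Nat.pow_le_pow_iff_right hp.out.one_lt] at this
    omega
  obtain ⟨x0, h1, h2, h3⟩ := exists_nz_of_lt h.sat.pg hlt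
  obtain ⟨j, x2, x4⟩ := PGrp.exists_pow_notMem_pow_mem h2 (exists_pow_of_S h.sat h1)
  have x1 := pow_mem h1 (p ^ j)
  have x3 := pow_mem h3 (p ^ j)
  generalize x0 ^ p ^ j = x at *
  have e1 : cj x E ≤ N := (cj_mono hEN).trans (cj_of_nz x3).le
  have e2 : ¬ cj x E ≤ E := fun e => x2 ⟨x1, mem_nz_of_le e⟩
  have e3 : E ⊔ cj x E = N := (PGrp.eq_or_eq_of_relIndex_prime hp.out hi le_sup_left (sup_le hEN e1)).resolve_left
    fun e => e2 (le_sup_right.trans e.le)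
  have e4 : Nat.card ↥(E ⊓ cj x E) = p ^ 2 := by
    have := PGrp.card_sup_mul_card_inf (N := E) (H := cj x E) (e1.trans inf_le_right)
    rw [e3, cN, card_cj, h.card] at this
    exact Nat.eq_of_mul_eq_mul_left (pow_pos hp.out.pos 4) (this.trans (by ring))
  have e5 : E ⊓ cj x E ≤ N ⊓ cz N := le_inf (inf_le_left.trans hEN) (by
    rw [← e3, cz_sup]
    refine le_inf (inf_le_left.trans h.ab) (inf_le_right.trans ?_)
    rw [← cj_cz]; exact cj_mono h.ab)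
  have YE : N ⊓ cz N ≤ E := fun y hy => h.ess.cent.cz_le ⟨hy.1.1, cz_anti hEN hy.2⟩
  have cY : Nat.card ↥(N ⊓ cz N) = p ^ 2 := by
    rw [(PGrp.eq_or_eq_of_relIndex_prime hp.out (relIndex_of_card inf_le_left e4 h.card) e5 YE).resolve_right fun e =>
      e2 fun y hy => h.ess.cent.cz_le ⟨(e1 hy).1, le_cz_comm.1 (e.ge.trans inf_le_right) (e1 hy)⟩, e4]
  set Y := N ⊓ cz N with hY
  set N1 := F.S ⊓ nz N with hN1
  have hP1 := h.sat.pg_le (inf_le_left : N1 ≤ _)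
  have hNN : N ≤ N1 := le_NS inf_le_left
  have hn1 : N1 ≤ nz Y := fun g hg => mem_nz_inf hg.2 (nz_le_nz_cz _ hg.2)
  obtain ⟨Fo, f1, f2, f3, f4, f5, f6⟩ := PGrp.exists_step hP1 hNN inf_le_right hn1
    (lt_of_le_of_ne inf_le_left fun e => by
      rw [e, cN] at cY
      exact absurd (Nat.pow_right_injective hp.out.two_le cY) (by omega))
  rw [cY, ← pow_succ] at f4
  have i2 := relIndex_of_card f2 f4 cN
  have t1 : N1 ≤ trv N Fo := fun g hg => mem_trv_of_pg f2 (hNN.trans f6) i2.dvd hg.2 (f6 hg) (exists_pow_of_S h.sat hg.1)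
  have t2 : N1 ≤ trv Fo Y := le_trv_of f1 fun g hg y hy => cg_of_comm_le f5 hy hg
  have t3 : ∀ g ∈ N1, g ∈ trv N Y → g ∈ N := fun g hg hg' => ⟨hg.1, trv_le_nz_of_le YE hEN hg'⟩
  obtain ⟨w, w1, w2⟩ := exists_notMem_of_card f4 cN
  have e6 : N ⊔ zpowers x = N1 := by
    refine le_antisymm (sup_le hNN (zpowers_le.2 ⟨x1, x3⟩)) fun g hg => ?_
    obtain ⟨j, hj⟩ := exists_mul_mem_trv f1 (hNN.trans hn1) f2 f3
      (PGrp.sup_zpowers_eq_of_relIndex_prime hp.out i2 f2 w1 w2) (t1 ⟨x1, x3⟩) (t2 ⟨x1, x3⟩)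
      (fun e => x2 (t3 x ⟨x1, x3⟩ e)) (t1 hg) (t2 hg)
    have := t3 _ (mul_mem (inv_mem (pow_mem (show x ∈ N1 from ⟨x1, x3⟩) j)) hg) hj
    exact mem_of_eq (mul_mem (mem_sup_right (pow_mem (mem_zpowers x) j)) (mem_sup_left this)) (by group)
  refine ⟨Fo, h, rfl, rfl, rfl, cN, cY, ?_, YE, f1, f2, f3, t1, t2⟩
  rw [← e6, PGrp.card_sup_zpowers hp.out x3 x4 x2, cN, ← pow_succ]

theorem Hy.cj (h : Hy p F E) {g : G} (hg : F.M (F.S ⊓ nz E) g) :
    Hy p F (cj g E) ∧ F.S ⊓ nz (cj g E) = cj g (F.S ⊓ nz E) := by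
  have hg' := F.mono hg (le_NS h.ess.le)
  have h1 := cj_inf_nz_le hg (inf_le_right : F.S ⊓ nz E ≤ _)
  have h2 : F.FN (Fusion.cj g E) := h.ess.fn.of_card_le hg' (by rw [← card_cj g]; exact Fusion.card_le_of_le h1)
  refine ⟨⟨h.sat, h.ess.cj hg' h2, (card_cj _ _).trans h.card, by rw [← cj_cz]; exact cj_mono h.ab, fun x hx => ?_,
    h.big⟩, (Fusion.eq_of_le_of_card_le h1 (by rw [card_cj]; exact h.ess.fn.2 g hg')).symm⟩
  obtain ⟨y, hy, rfl⟩ := mem_cj'.1 hx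
  rw [conj_pow, h.ex y hy]; group

namespace Loc

theorem EN (h : Loc p F E N Y Fo N1) : E ≤ N := h.hN ▸ le_NS h.ess.le
theorem NS (h : Loc p F E N Y Fo N1) : N ≤ F.S := h.hN ▸ inf_le_left
theorem NN (h : Loc p F E N Y Fo N1) : N ≤ N1 := h.hN1 ▸ le_NS h.NS
theorem N1S (h : Loc p F E N Y Fo N1) : N1 ≤ F.S := h.hN1 ▸ inf_le_left
theorem N1n (h : Loc p F E N Y Fo N1) : N1 ≤ nz N := h.hN1 ▸ inf_le_right
theorem Nn (h : Loc p F E N Y Fo N1) : N ≤ nz E := h.hN ▸ inf_le_right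
theorem NY (h : Loc p F E N Y Fo N1) : N ≤ cz Y := le_cz_comm.1 (h.hY.le.trans inf_le_right)
theorem nY (h : Loc p F E N Y Fo N1) : nz N ≤ nz Y := fun _ hg => h.hY ▸ mem_nz_inf hg (nz_le_nz_cz _ hg)
theorem iY (h : Loc p F E N Y Fo N1) : Y.relIndex E = p := relIndex_of_card h.YE h.cY h.card
theorem iE (h : Loc p F E N Y Fo N1) : E.relIndex N = p := relIndex_of_card h.EN h.card h.cN
theorem iN (h : Loc p F E N Y Fo N1) : N.relIndex N1 = p := relIndex_of_card h.NN h.cN h.cN1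
theorem cF (h : Loc p F E N Y Fo N1) : Nat.card Fo = p ^ 3 := card_of_relIndex h.YF h.cY h.iF
theorem memN (h : Loc p F E N Y Fo N1) {g : G} (h1 : g ∈ F.S) (h2 : g ∈ nz E) : g ∈ N := h.hN.ge ⟨h1, h2⟩
theorem memN1 (h : Loc p F E N Y Fo N1) {g : G} (h1 : g ∈ F.S) (h2 : g ∈ nz N) : g ∈ N1 := h.hN1.ge ⟨h1, h2⟩

theorem fn (h : Loc p F E N Y Fo N1) : F.FN N := by
  refine ⟨h.NS, fun g hg => ?_⟩
  obtain ⟨h1, h2⟩ := h.toHy.cj (h.hN ▸ hg)
  obtain ⟨_, h3⟩ := h1.loc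
  rw [← h.hN1, h.cN1, h.hN, ← h2, h3.cN1]

theorem tv (h : Loc p F E N Y Fo N1) {g e : G} (g1 : g ∈ N) (g2 : g ∉ E) (e1 : e ∈ E) (e2 : e ∉ Y) :
    TV p F E E (zpowers ⁅g, e⁆) g :=
  tv_of h.sat h.ess h.card h.ab h.ex h.YE h.cY (h.NS g1) (h.Nn g1) g2 (h.NY g1) e1 e2

theorem comm_mem (h : Loc p F E N Y Fo N1) {g e : G} (g1 : g ∈ N) (g2 : g ∉ E) (e1 : e ∈ E) (e2 : e ∉ Y)
    {u v : G} (hu : u ∈ N) (hv : v ∈ N) : ⁅u, v⁆ ∈ zpowers ⁅g, e⁆ := by
  have T := h.tv g1 g2 e1 e2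
  have hs := PGrp.sup_zpowers_eq_of_relIndex_prime hp.out h.iE h.EN g1 g2
  have hEL : E ≤ nz (zpowers ⁅g, e⁆) := T.le_nz' le_rfl T.Lle
  have A0 : ∀ x ∈ E, ⁅g, x⁆ ∈ zpowers ⁅g, e⁆ := fun x hx =>
    mem_of_eq (conj_mem_of_nz (hEL hx) (T.t2.2 x hx)) (by rw [commutatorElement_def]; group)
  have dec : ∀ v ∈ N, ∃ y ∈ E, ∃ j : ℤ, y * g ^ j = v := fun v hv => (PGrp.mem_sup_zpowers (h.Nn g1)).1 (hs.ge hv)
  obtain ⟨x, hx, i, rfl⟩ := dec u hu
  obtain ⟨y, hy, j, rfl⟩ := dec v hv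
  refine PGrp.commutator_mul_left_mem (hEL hx) (PGrp.commutator_symm_mem ?_)
    (PGrp.commutator_zpow_left_mem T.t2.1 (PGrp.commutator_symm_mem ?_) i)
  · refine PGrp.commutator_mul_left_mem (hEL hy) ?_ (PGrp.commutator_zpow_left_mem T.t2.1 (A0 x hx) j)
    rw [commutatorElement_eq_one_iff_mul_comm.mpr (mem_cz.1 (h.ab hx) y hy)]; exact one_mem _
  · refine PGrp.commutator_mul_left_mem (hEL hy) (PGrp.commutator_symm_mem (A0 y hy)) ?_
    rw [commutatorElement_eq_one_iff_commute.mpr (Commute.zpow_left (Commute.refl g) j)]; exact one_mem _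

theorem LY (h : Loc p F E N Y Fo N1) {g e : G} (g1 : g ∈ N) (g2 : g ∉ E) (e1 : e ∈ E) (e2 : e ∉ Y) :
    zpowers ⁅g, e⁆ ≤ Y := by
  have T := h.tv g1 g2 e1 e2
  have hs := PGrp.sup_zpowers_eq_of_relIndex_prime hp.out h.iE h.EN g1 g2
  rw [h.hY]
  refine le_inf (T.Lle.trans h.EN) ?_
  rw [← hs, cz_sup]
  exact le_inf (T.Lle.trans h.ab) (le_cz_comm.1 (zpowers_le.2 T.gL))

theorem nL (h : Loc p F E N Y Fo N1) {g e : G} (g1 : g ∈ N) (g2 : g ∉ E) (e1 : e ∈ E) (e2 : e ∉ Y) :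
    nz N ≤ nz (zpowers ⁅g, e⁆) := by
  have : ⁅N, N⁆ = zpowers ⁅g, e⁆ := le_antisymm (commutator_le.2 fun u hu v hv => h.comm_mem g1 g2 e1 e2 hu hv)
    (zpowers_le.2 (commutator_mem_commutator g1 (h.EN e1)))
  rw [← this]
  exact fun a ha => mem_nz_commutator ha ha

/-- the torus -/
theorem tor (h : Loc p F E N Y Fo N1) {g e : G} (g1 : g ∈ N) (g2 : g ∉ E) (e1 : e ∈ E) (e2 : e ∉ Y)
    (a d : ℤ) (had : (p : ℤ) ∣ a * d - 0 * 0 - 1) : ∃ t ∈ F.aut N, t ∈ nz E ∧ t * ⁅g, e⁆ * t⁻¹ = ⁅g, e⁆ ^ a ∧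
      Cg Y (e ^ d) (t * e * t⁻¹) ∧ ∃ c ∈ Y, c ∉ zpowers ⁅g, e⁆ ∧ t * c * t⁻¹ = c := by
  have T := h.tv g1 g2 e1 e2
  obtain ⟨b, hb⟩ := exists_opp h.sat h.ess
  have hW : E ⊓ cz (zpowers g) = Y := by
    refine (PGrp.eq_or_eq_of_relIndex_prime hp.out h.iY
      (le_inf h.YE (le_cz_comm.1 (zpowers_le.2 (h.NY g1)))) inf_le_left).resolve_right fun e => ?_
    exact T.not_cz T hb (zpowers_le.1 (le_cz_comm.1 ((T.L'le hb.1).trans (e.ge.trans inf_le_right))))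
  set l := ⁅g, e⁆ with hl
  have gW := trv_le_nz_of_le le_sup_left (T.Wle hb.1) T.t2
  obtain ⟨t, ht, c1, c2⟩ := plane (X := zpowers l ⊔ cj b (zpowers l)) (Y := ⊥) (D := closure {g, b * g * b⁻¹}) bot_le
    (comm_eq_bot_iff.2 ((T.Wle hb.1).trans (T.ab.trans (cz_anti (T.Wle hb.1))))).le (T.expW hb.1)
    (by simpa using T.cardW hb)
    ((closure_le _).2 (by rintro _ (rfl | rfl); exacts [gW, trv_le_nz_of_le le_sup_right (T.Wle hb.1) (T.t2' hb.1)]))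
    (by simp [nz_bot]) (closure_le_pres' (by rintro _ (rfl | rfl); exacts [T.pw, T.pw' b]))
    (by rw [trv_bot]; exact T.not_pmod T hb) (x := l) (y := b * l * b⁻¹) (mem_sup_left (mem_zpowers l))
    (mem_sup_right (conj_mem_cj_of (mem_zpowers l))) (by rw [bot_sup_eq, cj_zpowers]) a 0 0 d had
  rw [zpow_zero, mul_one, cg_bot] at c1
  rw [zpow_zero, one_mul, cg_bot] at c2
  have hD : closure {g, b * g * b⁻¹} ≤ cz (E ⊓ cz (zpowers g) ⊓ cz (zpowers (b * g * b⁻¹))) :=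
    (closure_le _).2 (by
      rintro _ (rfl | rfl)
      · exact zpowers_le.1 (le_cz_comm.1 (inf_le_left.trans inf_le_right))
      · exact zpowers_le.1 (le_cz_comm.1 inf_le_right))
  have htA : t ∈ F.aut E := ((closure_le _).2 (by
    rintro _ (rfl | rfl); exacts [T.gA, conj_mem_of_nz (le_nz _ hb.1) T.gA]) : closure {g, b * g * b⁻¹} ≤ F.aut E) ht
  have s2 := T.sup2 hb
  have s1 := T.sup1 hb
  have htC := hD ht
  rw [hW] at s1 s2 htC
  have htY : t ∈ nz Y := by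
    rw [← s2]
    refine mem_nz_sup (cz_le_nz _ htC) (mem_nz_of_le ?_)
    rw [cj_zpowers, ← c1]
    exact zpowers_le.2 (zpow_mem (mem_zpowers l) a)
  obtain ⟨d', hd', hM⟩ := ext_chain (R := N) h.sat h.ess.fn (fun i => match i with | 0 => E | 1 => Y | _ => ⊥) rfl
    (fun i => match i with | 0 => h.YE | 1 => bot_le | _ + 2 => le_rfl) (m := 2) rfl
    (fun i => match i with
      | 0 => inf_le_right
      | 1 => h.hN.ge.trans (h.NY.trans (cz_le_nz _))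
      | _ + 2 => by simp [nz_bot]) htA
    (fun i => match i with | 0 => F.aut_le_nz E htA | 1 => htY | _ + 2 => by simp [nz_bot]) h.hN.le
    (fun i => match i with
      | 0 => fun u hu => mem_trv_of_pg h.YE (h.EN.trans (h.NY.trans (cz_le_nz _))) h.iY.dvd (h.Nn hu)
          (cz_le_nz _ (h.NY hu)) (exists_pow_of_S h.sat (h.NS hu))
      | 1 => h.NY.trans (trv_bot Y).ge
      | _ + 2 => by simp [trv_bot, cz_bot])
  rw [sup_eq_right.2 h.EN] at hM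
  have hn : t * d' ∈ nz E := mul_mem (F.aut_le_nz E htA) (cz_le_nz _ hd')
  refine ⟨t * d', mem_aut_of hM (mem_nz_of_le ?_), hn, ?_, ?_, ?_⟩
  · have := cj_inf_nz_le hM h.Nn
    rwa [cj_of_nz hn, ← h.hN] at this
  · rw [conj_mul_cz hd' (T.Lle (mem_zpowers l)), c1]
  · rw [conj_mul_cz hd' e1]
    have hl' : b * l * b⁻¹ ∈ E := T.L'le hb.1 (conj_mem_cj_of (mem_zpowers l))
    rw [cj_zpowers] at s1
    obtain ⟨y, hy, i, ee⟩ := (PGrp.mem_sup_zpowers (h.nY (le_nz N (h.EN hl')))).1 (s1.ge e1)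
    rw [← ee]
    have hc : Commute y ((b * l * b⁻¹) ^ i) := (mem_cz.1 (h.ab (zpow_mem hl' i)) y (h.YE hy))
    have e3 : t * (y * (b * l * b⁻¹) ^ i) * t⁻¹ = (t * y * t⁻¹) * ((b * l * b⁻¹) ^ i) ^ d := by
      rw [← zpow_mul, mul_comm i d, zpow_mul, c2, conj_zpow (a := t)]; group
    rw [e3, hc.mul_zpow]
    exact (Cg.of_mem (zpow_mem hy d) (conj_mem_of_nz htY hy)).mul_right
      (h.nY (le_nz N (h.EN (zpow_mem (zpow_mem hl' i) d))))
  · have : ¬ Y ⊓ cz (zpowers (b * g * b⁻¹)) ≤ zpowers l := fun hle => by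
      have := Fusion.card_le_of_le (s2.ge.trans (sup_le hle le_rfl))
      rw [h.cY, T.card] at this
      have := hp.out.one_lt
      nlinarith
    obtain ⟨c, hc, hc'⟩ := SetLike.not_le_iff_exists.mp this
    exact ⟨c, hc.1, hc', by rw [conj_mul_cz hd' (h.YE hc.1), conj_eq_of_cz htC hc]⟩

end Loc

end Cfsg.Agent.H23.MCE
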