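import Mathlib
import Cfsg.Agent.H23.MC2

/-!
# Essential subgroups that are elementary abelian of order `p ^ 3`: local analysis, part 3
-/

set_option autoImplicit false

namespace Cfsg.Agent.H23.MCE

open Subgroup Cfsg.Agent.Fusion Cfsg.Agent.Fusion.FS Cfsg.Agent.Inv.Es
open scoped commutatorElement

variable {G : Type*} [Group G] {p : ℕ} [hp : Fact p.Prime] [Finite G] {F : FS G} {E N Y Fo N1 : Subgroup G}

omit hp [Finite G] in
theorem comm_mem_of_trv {X Z : Subgroup G} {g x : G} (h : g ∈ trv X Z) (hx : x ∈ X) (hn : x ∈ nz Z) : ⁅g, x⁆ ∈ Z :=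
  mem_of_eq (conj_mem_of_nz hn (h.2 x hx)) (by rw [commutatorElement_def]; group)

omit hp [Finite G] in
theorem conj_comm (t a b : G) : t * ⁅a, b⁆ * t⁻¹ = ⁅t * a * t⁻¹, t * b * t⁻¹⁆ := by
  simp only [commutatorElement_def]; group

namespace Loc

theorem nF (h : Loc p F E N Y Fo N1) : N1 ≤ nz Fo := h.t1.trans (trv_le_nz _ _)

theorem notMem (h : Loc p F E N Y Fo N1) {x e : G} (x1 : x ∈ N1) (x2 : x ∉ N) (e1 : e ∈ E) (e2 : e ∉ Y) :
    ⁅x, e⁆ ∉ E := fun hx => x2 (h.memN (h.N1S x1) (mem_nz_of_le (by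
      rw [← PGrp.sup_zpowers_eq_of_relIndex_prime hp.out h.iY h.YE e1 e2, cj_sup, cj_of_nz (h.nY (h.N1n x1)),
        cj_zpowers, PGrp.sup_zpowers_eq_of_relIndex_prime hp.out h.iY h.YE e1 e2, PGrp.conj_eq_commutator_mul]
      exact sup_le h.YE (zpowers_le.2 (mul_mem hx e1)))))

theorem aut_nz (h : Loc p F E N Y Fo N1) {t : G} (ht : t ∈ F.aut N) : t ∈ nz Fo := by
  by_contra hn
  have h1 : ¬ cj t Fo ≤ Fo := fun e => hn (mem_nz_of_le e)
  obtain ⟨w, w1, w2⟩ := SetLike.not_le_iff_exists.mp h1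
  have htN := F.aut_le_nz N ht
  have hFN : cj t Fo ≤ N := (cj_mono h.FN').trans (cj_of_nz htN).le
  have wN := hFN w1
  have hNY : N ≤ nz Y := h.NY.trans (cz_le_nz _)
  obtain ⟨x, x1, x2⟩ := exists_notMem_of_card h.cN h.cN1
  have i2 := relIndex_of_card h.FN' h.cF h.cN
  have hs := PGrp.sup_zpowers_eq_of_relIndex_prime hp.out i2 h.FN' wN w2
  have hu : w⁻¹ * (x * w * x⁻¹) ∈ Fo := (h.t1 x1).2 w wN
  have hu' : w⁻¹ * (x * w * x⁻¹) ∉ Y := fun e => x2 (h.memN (h.N1S x1) (trv_le_nz_of_le h.YE h.EN (by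
    rw [← hs]
    exact mem_trv_sup (h.t2 x1) (mem_trv_zpowers (h.t2 x1).1 (hNY wN) e) (h.FN'.trans hNY) (zpowers_le.2 (hNY wN)))))
  have hEF : ¬ E ≤ Fo := fun e => x2 (h.memN (h.N1S x1) (by
    rw [Fusion.eq_of_le_of_card_le e (by rw [h.cF, h.card])]; exact h.nF x1))
  have hsup : Fo ⊔ E = N := (PGrp.eq_or_eq_of_relIndex_prime hp.out i2 le_sup_left (sup_le h.FN' h.EN)).resolve_left
    fun e => hEF (le_sup_right.trans e.le)
  obtain ⟨e', he', f', hf', ee⟩ := (mem_sup_of_nz (h.EN.trans (h.NN.trans h.nF))).1 (((sup_comm E Fo).trans hsup).ge wN)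
  obtain ⟨y, hy, k, hk⟩ := (PGrp.mem_sup_zpowers_nat (hNY (h.FN' hu))).1
    ((PGrp.sup_zpowers_eq_of_relIndex_prime hp.out h.iF h.YF hu hu').ge (inv_mem hf'))
  have h2 := pow_mul_nat_cg wN (h.t1 x1) (h.t2 x1) (h.FN'.trans hNY) k
  have h3 : w * (w⁻¹ * (x * w * x⁻¹)) ^ k ∈ E := by
    have e1 : (w⁻¹ * (x * w * x⁻¹)) ^ k = y⁻¹ * f'⁻¹ := by rw [← hk]; group
    have e2 : y⁻¹ * f'⁻¹ = f'⁻¹ * y⁻¹ := mem_cz.1 (h.NY (h.FN' (inv_mem hf'))) _ (inv_mem hy)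
    rw [e1, e2, ← ee]
    exact mem_of_eq (mul_mem he' (h.YE (inv_mem hy))) (by group)
  have h4 := h2.mem h.YE h3
  have hwY : w ∉ Y := fun e => w2 (h.YF e)
  have h5 : Y ⊔ zpowers w = cj t Fo := by
    refine PGrp.sup_zpowers_eq_of_relIndex_prime hp.out ?_ ?_ w1 hwY
    · rw [← cj_of_nz (h.nY htN), relIndex_cj, h.iF]
    · rw [← cj_of_nz (h.nY htN)]; exact cj_mono h.YF
  have h6 : cj (x ^ k * t) Fo = E := by
    refine Fusion.eq_of_le_of_card_le ?_ (by rw [card_cj, h.cF, h.card])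
    rw [cj_mul, ← h5, cj_sup, cj_of_nz (h.nY (h.N1n (pow_mem x1 k))), cj_zpowers]
    exact sup_le h.YE (zpowers_le.2 h4)
  have h7 : F.M Fo (x ^ k * t) := S_mul (F.mono (M_of_aut h.NS ht) h.FN') (pow_mem (h.N1S x1) k)
  have h8 := F.inv h7
  rw [h6] at h8
  have h9 := h.ess.fn.2 _ h8
  rw [← h6, cj_inv_cj, h6, ← h.hN, h.cN] at h9
  have := (Fusion.card_le_of_le (le_inf h.N1S h.nF)).trans h9
  rw [h.cN1, Nat.pow_le_pow_iff_right hp.out.one_lt] at this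
  omega

theorem cent (h : Loc p F E N Y Fo N1) (h5 : 5 ≤ p) : N1 ≤ cz Y := by
  obtain ⟨x, x1, x2⟩ := exists_notMem_of_card h.cN h.cN1
  obtain ⟨e, e1, e2⟩ := exists_notMem_of_card h.cY h.card
  have hNY : N ≤ nz Y := h.NY.trans (cz_le_nz _)
  have hN1Y : N1 ≤ nz Y := h.N1n.trans h.nY
  have f1 : ⁅x, e⁆ ∈ Fo := comm_mem_of_trv (h.t1 x1) (h.EN e1) (h.nF (h.NN (h.EN e1)))
  have f2 := h.notMem x1 x2 e1 e2
  set f := ⁅x, e⁆ with hf
  have fN := h.FN' f1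
  have T := h.tv fN f2 e1 e2
  have hLY := h.LY fN f2 e1 e2
  have hnL := h.nL fN f2 e1 e2
  have hcm := fun u hu v hv => h.comm_mem fN f2 e1 e2 (u := u) (v := v) hu hv
  obtain ⟨a, ha⟩ := exists_half h5
  obtain ⟨t, t1, -, t3, t4, c, c1, c2, c3⟩ := h.tor fN f2 e1 e2 a 2 ha
  set l := ⁅f, e⁆ with hl
  have htN := F.aut_le_nz N t1
  have iL : (zpowers l).relIndex Y = p := relIndex_of_card hLY (k := 1) (by rw [T.card, pow_one]) h.cY
  have hN1L : N1 ≤ cz (zpowers l) := fun u hu =>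
    mem_cz_of_pg T.card.dvd (hnL (h.N1n hu)) (exists_pow_of_S h.sat (h.N1S hu))
  have hYL : N1 ≤ trv Y (zpowers l) := fun u hu => mem_trv_of_pg hLY (h.YE.trans (T.le_nz' le_rfl T.Lle)) iL.dvd
    (hN1Y hu) (hnL (h.N1n hu)) (exists_pow_of_S h.sat (h.N1S hu))
  obtain ⟨d, hd, hM⟩ := ext_chain (R := N1) h.sat h.fn
    (fun i => match i with | 0 => N | 1 => Fo | 2 => Y | 3 => zpowers l | _ => ⊥) rfl
    (fun i => match i with | 0 => h.FN' | 1 => h.YF | 2 => hLY | 3 => bot_le | _ + 4 => le_rfl) (m := 4) rfl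
    (fun i => match i with
      | 0 => inf_le_right
      | 1 => h.hN1.ge.trans h.nF
      | 2 => inf_le_right.trans h.nY
      | 3 => inf_le_right.trans hnL
      | _ + 4 => by simp [nz_bot]) t1
    (fun i => match i with
      | 0 => htN
      | 1 => h.aut_nz t1
      | 2 => h.nY htN
      | 3 => hnL htN
      | _ + 4 => by simp [nz_bot]) h.hN1.le
    (fun i => match i with
      | 0 => h.t1
      | 1 => h.t2
      | 2 => hYL
      | 3 => hN1L.trans (trv_bot _).ge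
      | _ + 4 => by simp [trv_bot, cz_bot])
  rw [sup_eq_right.2 h.NN] at hM
  have hn : t * d ∈ nz N := mul_mem htN (cz_le_nz _ hd)
  have hn1 : t * d ∈ nz N1 := mem_nz_of_le (by
    have := cj_inf_nz_le hM h.N1n
    rwa [cj_of_nz hn, ← h.hN1] at this)
  obtain ⟨k, hk⟩ := exists_wt_of_prime h.NN h.N1n h.iN hn1 x1 x2
  rw [← conj_mul_cz hd (h.EN e1)] at t4
  rw [← conj_mul_cz hd (h.EN (T.Lle (mem_zpowers l)))] at t3
  rw [← conj_mul_cz hd (h.EN (h.YE c1))] at c3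
  generalize t * d = s at *
  have cmb : ∀ {g z : G}, g ∈ cz (zpowers l) → z ∈ zpowers l → ⁅g, z⁆ ∈ (⊥ : Subgroup G) := fun hg hz =>
    mem_bot.2 (commutatorElement_eq_one_iff_mul_comm.2 (mem_cz.1 hg _ hz).symm)
  have B1 := bil (A := N1) (A0 := N) (B := N) (B0 := Fo) (Y := Y) le_rfl h.NN hN1Y h.NN h.FN'
    (fun u hu v hv g hg => by
      have := comm_mem_of_trv (h.t1 hu) hv (h.nF (h.NN hv))
      exact comm_mem_of_trv (h.t2 hg) this (hNY (h.FN' this)))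
    (fun u hu v hv => hLY (hcm u hu v hv)) (fun u hu v hv => comm_mem_of_trv (h.t2 hu) hv (hNY (h.FN' hv)))
    x1 (h.EN e1) hk (t4.mono h.YF)
  rw [← conj_comm, ← hf] at B1
  have B2 := bil (A := N) (A0 := Y) (B := N) (B0 := Y) (Y := ⊥) (P := N) le_rfl le_rfl (le_top.trans nz_bot.ge)
    (h.YE.trans h.EN) (h.YE.trans h.EN) (fun u hu v hv g hg => cmb (hN1L (h.NN hg)) (hcm u hu v hv))
    (fun u hu v hv => mem_bot.2 (commutatorElement_eq_one_iff_mul_comm.2 (mem_cz.1 (h.NY hv) _ hu)))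
    (fun u hu v hv => mem_bot.2 (commutatorElement_eq_one_iff_mul_comm.2 (mem_cz.1 (h.NY hu) _ hv).symm))
    fN (h.EN e1) B1 t4
  rw [← conj_comm, ← hl, t3] at B2
  have hl1 : l ∉ (⊥ : Subgroup G) := fun e => by
    have := T.card
    rw [mem_bot.1 e, zpowers_one_eq_bot, card_bot] at this
    exact hp.out.one_lt.ne this
  have hpl : ∀ z ∈ zpowers l, z ^ p ∈ (⊥ : Subgroup G) := fun z hz => mem_bot.2 (pow_of_card T.card hz)
  have d1 := (cg_zpow_iff hp.out (hpl l (mem_zpowers l)) hl1).1 B2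
  have hxc : ⁅x, c⁆ = 1 := by
    by_contra hne
    have hz : ⁅x, c⁆ ∈ zpowers l := comm_mem_of_trv (hYL x1) c1 (hnL (le_nz N (h.EN (h.YE c1))))
    have B3 := bil (A := N1) (A0 := N) (B := Y) (B0 := zpowers l) (Y := ⊥) (P := N1) le_rfl
      (h.YE.trans (h.EN.trans h.NN)) (le_top.trans nz_bot.ge) h.NN hLY
      (fun u hu v hv g hg => cmb (hN1L hg) (comm_mem_of_trv (hYL hu) hv (hnL (le_nz N (h.EN (h.YE hv))))))
      (fun u hu v hv => mem_bot.2 (commutatorElement_eq_one_iff_mul_comm.2 (mem_cz.1 (h.NY hu) _ hv).symm))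
      (fun u hu v hv => cmb (hN1L hu) hv) x1 c1 hk (l := 1) (b' := s * c * s⁻¹) (Cg.of_eq (by rw [zpow_one, c3]))
    rw [← conj_comm] at B3
    have e3 : s * ⁅x, c⁆ * s⁻¹ = ⁅x, c⁆ ^ a := by
      obtain ⟨j, hj⟩ := mem_zpowers_iff.1 hz
      rw [← hj, ← conj_zpow, t3, ← zpow_mul, ← zpow_mul, mul_comm]
    rw [e3] at B3
    have d2 := (cg_zpow_iff hp.out (hpl _ hz) fun e => hne (mem_bot.1 e)).1 B3
    have d3 : (p : ℤ) ∣ 3 := by
      have : (3 : ℤ) = -2 * (a - k * 2 * 2) + 8 * (a - k * 1) - 3 * (a * 2 - 0 * 0 - 1) := by ring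
      rw [this]
      exact dvd_sub (dvd_add (d1.mul_left _) (d2.mul_left _)) (ha.mul_left _)
    have := Int.le_of_dvd (by norm_num) d3
    omega
  rw [← PGrp.sup_zpowers_eq_of_relIndex_prime hp.out h.iN h.NN x1 x2]
  refine sup_le h.NY (zpowers_le.2 ?_)
  rw [← PGrp.sup_zpowers_eq_of_relIndex_prime hp.out iL hLY c1 c2, cz_sup]
  exact ⟨hN1L x1, mem_cz_zpowers.2 (commutatorElement_eq_one_iff_mul_comm.1 hxc).symm⟩

end Loc

end Cfsg.Agent.H23.MCE
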