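import Mathlib
import Cfsg.Agent.H23.MC3
import Cfsg.Agent.Inv.MCl4

/-!
# The standard chain of a `p`-group of maximal class inside an ambient group
-/

set_option autoImplicit false

namespace Cfsg.Agent.H23.MCE

open Subgroup Cfsg.Agent.Fusion Cfsg.Agent.Inv.Es Cfsg.Agent.Inv.Rg Cfsg.Agent.H23.Kr
open scoped commutatorElement

variable {G : Type*} [Group G] {p n : ℕ} [hp : Fact p.Prime] [Finite G]

theorem exc_aux (h : MCl p G n) (h5 : 5 ≤ n) (hne : KK G (n - 2) ≠ KK G 2) :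
    ∃ y ∈ Γ G 2, ∃ w ∈ Γ G (n - 3), ⁅y, w⁆ ≠ 1 := by
  obtain ⟨k, rfl⟩ : ∃ k, n = k + 5 := ⟨n - 5, by omega⟩
  have h4 : 4 ≤ k + 5 := by omega
  have hm : NE G (k + 3) := h.ne_sub_two
  have hne' : KK G (k + 3) ≠ KK G 2 := hne
  obtain ⟨s, hs, hs'⟩ := h.exists_KK (i := k + 3) (by omega) le_rfl
  obtain ⟨x, hx, hx'⟩ := h.exists_KK le_rfl h4
  have hs2 : s ∉ KK G 2 := fun e => hne' (h.KK_eq_of_mem (by omega) le_rfl le_rfl h4 hs e hs')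
  have hxm : x ∉ KK G (k + 3) := fun e => hne' (h.KK_eq_of_mem (by omega) le_rfl le_rfl h4 e hx hx')
  have hk := h.ad_notMem h4 (hm.good hs2) (j := k + 2) le_rfl (Gm_one.ge hx) hx' (by omega)
  have hk1 := ad_mem s (mem_Γ_one x) (k + 2)
  rw [show 1 + (k + 2) = k + 3 by omega] at hk hk1
  have hw := h.comm_notMem (by omega) hxm hk1 hk
  have hB := lie_stepB (ee_succ s x) (hm.ee_zero hx s) 1 (k + 1) (by omega)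
  refine ⟨ad s 1 x, ad_mem s (mem_Γ_one x) 1, ad s (k + 1) x,
    Γ_antitone (by omega) (ad_mem s (mem_Γ_one x) (k + 1)), fun e => hw ?_⟩
  have h0 : ⁅ee s x 1, ee s x (k + 1)⁆ = 0 := by
    rw [ee, ee, lie_mk_eq_zero, e]; exact one_mem _
  rw [h0, pow_one, neg_one_smul, eq_comm, neg_eq_zero, ee, ee, lie_mk_eq_zero] at hB
  exact Γ_antitone (by omega) hB

/-- the chain -/
structure Ch (p n : ℕ) (S K1 K : Subgroup G) (γ : ℕ → Subgroup G) : Prop where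
  n5 : 5 ≤ n
  cS : Nat.card S = p ^ n
  le : ∀ i, γ i ≤ S
  anti : ∀ {i j}, i ≤ j → γ j ≤ γ i
  nrm : ∀ i, S ≤ nz (γ i)
  card : ∀ {i}, 2 ≤ i → i ≤ n → Nat.card (γ i) = p ^ (n - i)
  cm : ∀ {i j u v}, u ∈ γ i → v ∈ γ j → ⁅u, v⁆ ∈ γ (i + j)
  cm1 : ∀ {i u v}, u ∈ S → v ∈ γ i → ⁅u, v⁆ ∈ γ (i + 1)
  cm0 : ∀ {u v}, u ∈ S → v ∈ S → ⁅u, v⁆ ∈ γ 2
  K1le : K1 ≤ S
  cK1 : Nat.card K1 = p ^ (n - 1)
  gK1 : γ 2 ≤ K1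
  cmK : ∀ {i u v}, u ∈ K1 → 2 ≤ i → i + 3 ≤ n → v ∈ γ i → ⁅u, v⁆ ∈ γ (i + 2)
  hK : K = S ⊓ cz (γ (n - 2))
  cK : Nat.card K = p ^ (n - 1)
  inter : K ≠ K1 → K ⊓ K1 ≤ γ 2
  good : ∀ {u}, u ∈ S → u ∉ K1 → u ∉ K → Nat.card ↥(S ⊓ cz (zpowers u)) ≤ p ^ 2
  exc : K ≠ K1 → Even n ∧ ∃ y ∈ γ 2, ∃ w ∈ γ (n - 3), ⁅y, w⁆ ≠ 1
  nm : ∀ {i e v}, e ∈ S → e ∉ K1 → 2 ≤ i → i + 3 ≤ n → v ∈ γ i → v ∉ γ (i + 1) → ⁅e, v⁆ ∉ γ (i + 2)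
  nm3 : ∀ {e x}, e ∈ S → e ∉ K1 → x ∈ K1 → x ∉ γ 2 → ⁅e, x⁆ ∉ γ 3
  pw : ∀ {e}, e ∈ S → e ∉ K1 → e ^ p ∈ γ (n - 2)
  cjg : ∀ {e x}, e ∈ S → e ∉ K1 → x ∈ γ 2 → ∃ g ∈ S, (g * e * g⁻¹)⁻¹ * (x⁻¹ * e) ∈ γ (n - 1)
  cent : ∀ {e c r}, e ∈ S → e ∉ K1 → c ∈ γ 2 → r + 1 ≤ n → ⁅e, c⁆ ∈ γ r → c ∈ γ (r - 1)

theorem exists_ch {S : Subgroup G} (h : MCl p S n) (h5 : 5 ≤ n) : ∃ K1 K γ, Ch p n S K1 K γ := by
  have mm : ∀ {X : Subgroup S} (u : S), (u : G) ∈ X.map S.subtype ↔ u ∈ X := fun u =>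
    mem_map_iff_mem S.subtype_injective
  have cd : ∀ X : Subgroup S, Nat.card (X.map S.subtype) = Nat.card X := fun X => card_map_of_injective S.subtype_injective
  have h4 : 4 ≤ n := by omega
  have hKK : ∀ i, 2 ≤ i → i + 3 ≤ n → KK S i = KK S 2 := fun i h1 h2 => h.ne_sub_two i h1 (by omega)
  have gd : ∀ e : S, e ∉ KK S 2 → Good e (n - 1) := fun e he => by
    have := h.ne_sub_two.good he
    rwa [show n - 2 + 1 = n - 1 by omega] at this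
  have hne : (KK S (n - 2)).map S.subtype ≠ (KK S 2).map S.subtype → KK S (n - 2) ≠ KK S 2 := fun h e => h (by rw [e])
  refine ⟨(KK S 2).map S.subtype, (KK S (n - 2)).map S.subtype, fun i => (Γ S i).map S.subtype, h5, h.card,
    fun i => map_subtype_le _, fun hij => map_mono (Γ_antitone hij), fun i => ?_, fun h1 h2 => ?_, ?_, ?_, ?_,
    map_subtype_le _, ?_, map_mono (Γ_two_le_KK 2), ?_, ?_, ?_, ?_, ?_, ?_, ?_, ?_, ?_, ?_, ?_⟩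
  · refine le_nz_iff.2 ?_
    rintro s hs _ ⟨v, hv, rfl⟩
    exact (mm (⟨s, hs⟩ * v * ⟨s, hs⟩⁻¹)).2 ((Γ_normal i).conj_mem v hv _)
  · rw [cd, h.card_Γ h1 h2]
  · rintro i j _ _ ⟨u, hu, rfl⟩ ⟨v, hv, rfl⟩
    exact (mm ⁅u, v⁆).2 (Γ_comm hu hv)
  · rintro i u _ hu ⟨v, hv, rfl⟩
    exact (mm ⁅(⟨u, hu⟩ : S), v⁆).2 (add_comm 1 i ▸ Γ_comm (mem_Γ_one _) hv)
  · intro u v hu hv
    exact (mm ⁅(⟨u, hu⟩ : S), (⟨v, hv⟩ : S)⁆).2 (Γ_comm (mem_Γ_one _) (mem_Γ_one _))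
  · rw [cd, h.card_KK le_rfl h4]
  · rintro i _ _ ⟨u, hu, rfl⟩ h1 h2 ⟨v, hv, rfl⟩
    exact (mm ⁅u, v⁆).2 (mem_KK.1 ((hKK i h1 h2).ge hu) v hv)
  · ext g
    constructor
    · rintro ⟨u, hu, rfl⟩
      refine ⟨u.2, mem_cz.2 ?_⟩
      rintro _ ⟨v, hv, rfl⟩
      have := mem_KK.1 hu v hv
      rw [h.bot (by omega), mem_bot, commutatorElement_eq_one_iff_mul_comm] at this
      exact (congrArg Subtype.val this).symm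
    · rintro ⟨h1, h2⟩
      refine (mm ⟨g, h1⟩).2 (mem_KK.2 fun v hv => ?_)
      rw [commutatorElement_eq_one_iff_mul_comm.2 (Subtype.ext (mem_cz.1 h2 v ((mm v).2 hv)).symm)]
      exact one_mem _
  · rw [cd, h.card_KK (by omega) (by omega)]
  · rintro h1 _ ⟨⟨u, hu, rfl⟩, h2⟩
    by_contra h3
    exact hne h1 (h.KK_eq_of_mem (by omega) (by omega) le_rfl h4 hu ((mm u).1 h2) fun e => h3 ((mm u).2 e))
  · intro u hu h1 h2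
    have h3 : (⟨u, hu⟩ : S) ∉ KK S 2 := fun e => h1 ((mm ⟨u, hu⟩).2 e)
    have h6 : Good (⟨u, hu⟩ : S) n := ⟨h3, fun i i1 i2 => by
      rcases i2.lt_or_eq with i3 | i3
      · rw [hKK i i1 (by omega)]; exact h3
      · rw [show i = n - 2 by omega]; exact fun e => h2 ((mm ⟨u, hu⟩).2 e)⟩
    refine le_trans ?_ (h.card_centralizer_le h4 h6)
    rw [← cd]
    refine Fusion.card_le_of_le fun g hg => (mm ⟨g, hg.1⟩).2 (mem_centralizer_singleton_iff.2 (Subtype.ext ?_))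
    exact (mem_cz_zpowers.1 hg.2).symm
  · intro h1
    refine ⟨?_, ?_⟩
    · obtain ⟨-, ⟨k, hk⟩, -⟩ := h.blackburn (i := n - 2) (by omega) (by omega) (hne h1)
      exact ⟨k + 1, by omega⟩
    · obtain ⟨y, hy, w, hw, e⟩ := exc_aux h h5 (hne h1)
      exact ⟨y, (mm y).2 hy, w, (mm w).2 hw, fun e' => e (Subtype.ext e')⟩
  · rintro i e _ he h1 i1 i2 ⟨v, hv, rfl⟩ h2 h3
    exact h.comm_notMem i1 (t := ⟨e, he⟩) (by rw [hKK i i1 i2]; exact fun e' => h1 ((mm ⟨e, he⟩).2 e')) hv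
      (fun e' => h2 ((mm v).2 e')) ((mm ⁅(⟨e, he⟩ : S), v⁆).1 h3)
  · rintro e _ he h1 ⟨x, hx, rfl⟩ h2 h3
    have h6 : (⟨e, he⟩ : S) ∉ KK S 2 := fun e' => h1 ((mm ⟨e, he⟩).2 e')
    have h7 : ⁅(⟨e, he⟩ : S), x⁆ ∈ Γ S 3 := (mm ⁅(⟨e, he⟩ : S), x⁆).1 h3
    exact h.comm_notMem_three (i := 2) le_rfl h4 h6 hx (fun e' => h2 ((mm x).2 e')) h7
  · intro e he h1
    have := h.good_pow (gd ⟨e, he⟩ fun e' => h1 ((mm ⟨e, he⟩).2 e'))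
    exact (mm (⟨e, he⟩ ^ p)).2 this
  · rintro e _ he h1 ⟨x, hx, rfl⟩
    obtain ⟨g, hg⟩ := h.good_conj h4 (gd ⟨e, he⟩ fun e' => h1 ((mm ⟨e, he⟩).2 e')) (by omega) hx
    exact ⟨g, g.2, (mm ((g * ⟨e, he⟩ * g⁻¹)⁻¹ * (x⁻¹ * ⟨e, he⟩))).2 hg⟩
  · rintro e _ r he h1 ⟨c, hc, rfl⟩ hr h2
    exact (mm c).2 (h.good_cent ((gd ⟨e, he⟩ fun e' => h1 ((mm ⟨e, he⟩).2 e')).mono (by omega)) hc
      ((mm ⁅(⟨e, he⟩ : S), c⁆).1 h2))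

end Cfsg.Agent.H23.MCE
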