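import Mathlib
import Cfsg.Agent.H23.MC4

/-!
# The position of an elementary abelian essential subgroup of order `p ^ 3` in a group of maximal class
-/

set_option autoImplicit false

namespace Cfsg.Agent.H23.MCE

open Subgroup Cfsg.Agent.Fusion Cfsg.Agent.Fusion.FS Cfsg.Agent.Inv.Es
open scoped commutatorElement

variable {G : Type*} [Group G] {p n : ℕ} [hp : Fact p.Prime] [Finite G] {F : FS G} {E N Y Fo N1 S K1 K : Subgroup G}
  {γ : ℕ → Subgroup G} {e : G} {i j : ℕ}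

omit hp in
theorem mem_nz_of_comm {X : Subgroup G} {u : G} (h : ∀ x ∈ X, ⁅x, u⁆ ∈ X) : u ∈ nz X :=
  mem_nz_of_forall fun x hx => by
    rw [PGrp.conj_eq_commutator_mul]
    exact mul_mem (PGrp.commutator_symm_mem (h x hx)) hx

omit hp in
theorem mem_nz_sup_zpowers {X : Subgroup G} {u e : G} (h1 : u ∈ nz X) (h : ⁅e, u⁆ ∈ X) : u ∈ nz (X ⊔ zpowers e) :=
  mem_nz_of_le (by
    rw [cj_sup, cj_of_nz h1, cj_zpowers, PGrp.conj_eq_commutator_mul]
    exact sup_le le_sup_left (zpowers_le.2 (mul_mem (mem_sup_left (PGrp.commutator_symm_mem h))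
      (mem_sup_right (mem_zpowers e)))))

theorem pow_le_iff {a b : ℕ} : p ^ a ≤ p ^ b ↔ a ≤ b := Nat.pow_le_pow_iff_right hp.out.one_lt

namespace Ch

omit hp [Finite G] in
theorem bot (c : Ch p n S K1 K γ) (hi : n ≤ i) : γ i = ⊥ := by
  have := c.card (i := n) (by have := c.n5; omega) le_rfl
  rw [Nat.sub_self, pow_zero, card_eq_one] at this
  exact eq_bot_iff.2 (this ▸ c.anti hi)

omit hp [Finite G] in
theorem comm (c : Ch p n S K1 K γ) {u v : G} (hu : u ∈ γ i) (hv : v ∈ γ j) (h : n ≤ i + j) : u * v = v * u :=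
  commutatorElement_eq_one_iff_mul_comm.1 (mem_bot.1 ((c.bot h).le (c.cm hu hv)))

omit hp [Finite G] in
theorem gK (c : Ch p n S K1 K γ) : γ 2 ≤ K := fun u hu =>
  c.hK.ge ⟨c.le 2 hu, mem_cz.2 fun v hv => c.comm hv hu (by omega)⟩

omit hp [Finite G] in
theorem Kle (c : Ch p n S K1 K γ) : K ≤ S := c.hK.le.trans inf_le_left

omit hp [Finite G] in
theorem Kcz (c : Ch p n S K1 K γ) : K ≤ cz (γ (n - 2)) := c.hK.le.trans inf_le_right

omit hp [Finite G] in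
theorem cen (c : Ch p n S K1 K γ) : γ (n - 1) ≤ S ⊓ cz S := fun u hu =>
  ⟨c.le _ hu, mem_cz.2 fun v hv =>
    commutatorElement_eq_one_iff_mul_comm.1 (mem_bot.1 ((c.bot (by omega)).le (c.cm1 hv hu)))⟩

theorem idx (c : Ch p n S K1 K γ) (h2 : 2 ≤ i) (hi : i < n) : (γ (i + 1)).relIndex (γ i) = p :=
  relIndex_of_card (c.anti (Nat.le_succ i)) (c.card (by omega) hi) (by rw [c.card h2 hi.le]; congr 1; omega)

omit [Finite G] in
theorem cardP (c : Ch p n S K1 K γ) (h1 : e ∈ S) (h2 : e ∉ K1) (hj : 2 ≤ j) (hj' : j + 2 ≤ n) :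
    Nat.card ↥(γ j ⊔ zpowers e) = p ^ (n - j + 1) := by
  rw [PGrp.card_sup_zpowers hp.out (c.nrm j h1) (c.anti (by omega) (c.pw h1 h2)) fun h => h2 (c.gK1 (c.anti hj h)),
    c.card hj (by omega), pow_succ]

omit [Finite G] in
theorem infP (c : Ch p n S K1 K γ) (h1 : e ∈ S) (h2 : e ∉ K1) (hj : 2 ≤ j) (hj' : j + 2 ≤ n) {u : G}
    (hu : u ∈ γ j ⊔ zpowers e) (hu' : u ∈ K1) : u ∈ γ j := by
  obtain ⟨x, hx, k, rfl⟩ := (PGrp.mem_sup_zpowers (c.nrm j h1)).1 hu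
  have h3 : e ^ k ∈ K1 := (mul_mem_cancel_left (c.gK1 (c.anti hj hx))).1 hu'
  obtain ⟨m, rfl⟩ := PGrp.dvd_of_zpow_mem hp.out (c.gK1 (c.anti (by omega) (c.pw h1 h2))) h2 h3
  refine mul_mem hx ?_
  rw [zpow_mul, zpow_natCast]
  exact zpow_mem (c.anti (by omega) (c.pw h1 h2)) m

theorem nzP (c : Ch p n S K1 K γ) (h1 : e ∈ S) (h2 : e ∉ K1) (hj : 2 ≤ j) (hj' : j + 3 ≤ n) :
    S ⊓ nz (γ (j + 1) ⊔ zpowers e) = γ j ⊔ zpowers e := by
  have n5 := c.n5
  refine le_antisymm (fun u hu => ?_) (sup_le (fun u hu => ⟨c.le _ hu, mem_nz_sup_zpowers (c.nrm _ (c.le _ hu))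
    (c.cm1 h1 hu)⟩) (zpowers_le.2 ⟨h1, le_nz _ (mem_sup_right (mem_zpowers e))⟩))
  have hi : K1.relIndex S = p := relIndex_of_card c.K1le c.cK1 (by rw [c.cS]; congr 1; omega)
  have hn := PGrp.le_normalizer_of_relIndex_prime (.of_card c.cS) c.K1le hi
  obtain ⟨k, hk, m, rfl⟩ := (PGrp.mem_sup_zpowers (hn h1)).1
    ((PGrp.sup_zpowers_eq_of_relIndex_prime hp.out hi c.K1le h1 h2).ge hu.1)
  have he : e ∈ γ (j + 1) ⊔ zpowers e := mem_sup_right (mem_zpowers e)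
  have h3 : k ∈ nz (γ (j + 1) ⊔ zpowers e) := (mul_mem_cancel_right (zpow_mem (le_nz _ he) m)).1 hu.2
  have h4 : ⁅e, k⁆ ∈ γ (j + 1) := c.infP h1 h2 (by omega) (by omega)
    (mem_of_eq (mul_mem he (conj_mem_of_nz h3 (inv_mem he))) (by rw [commutatorElement_def]; group))
    (c.gK1 (c.cm0 h1 (c.K1le hk)))
  have h5 : k ∈ γ 2 := by_contra fun h => c.nm3 h1 h2 hk h (c.anti (by omega) h4)
  exact mul_mem (mem_sup_left (c.cent h1 h2 h5 (by omega) h4)) (mem_sup_right (zpow_mem (mem_zpowers e) m))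

end Ch

theorem typ (c : Ch p n F.S K1 K γ) (h : Loc p F E N Y Fo N1) (h5 : 5 ≤ p) :
    Y = γ (n - 2) ∧ E ≤ K ∧ ¬ E ≤ K1 ∧ N = E ⊔ γ (n - 3) ∧ 6 ≤ n := by
  have n5 := c.n5
  have hES := h.ess.le
  have hZ : γ (n - 1) ≤ E := c.cen.trans h.ess.cent.center_le
  have hN : ∀ i, (∀ x ∈ E, ∀ u ∈ γ i, ⁅x, u⁆ ∈ E) → γ i ≤ N := fun i hi u hu =>
    h.memN (c.le _ hu) (mem_nz_of_comm fun x hx => hi x hx u hu)
  have hor : ∀ x ∈ E, x ∉ K → x ∈ K1 := fun x hx hx' => by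
    by_contra hn
    have := (Fusion.card_le_of_le (le_inf hES (h.ab.trans (cz_anti (zpowers_le.2 hx))))).trans (c.good (hES hx) hn hx')
    rw [h.card, pow_le_iff] at this
    omega
  have c3 : Nat.card (γ (n - 3)) = p ^ 3 := by rw [c.card (by omega) (by omega)]; congr 1; omega
  have c2 : Nat.card (γ (n - 2)) = p ^ 2 := by rw [c.card (by omega) (by omega)]; congr 1; omega
  by_cases hEK : E ≤ K
  · have h1 : γ (n - 2) ≤ E := fun u hu => h.ess.cent.cz_le ⟨c.le _ hu, le_cz_comm.1 (hEK.trans c.Kcz) hu⟩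
    have h2 : γ (n - 3) ≤ N := hN _ fun x hx u hu => h1 (c.anti (by omega) (c.cm1 (hES hx) hu))
    have h3 : ¬ γ (n - 3) ≤ E := fun hle => by
      have e1 := Fusion.eq_of_le_of_card_le hle (by rw [c3, h.card])
      have := Fusion.card_le_of_le (fun u hu => h.memN hu (e1 ▸ c.nrm _ hu) : F.S ≤ N)
      rw [c.cS, h.cN, pow_le_iff] at this
      omega
    have h4 : E ⊔ γ (n - 3) = N := (PGrp.eq_or_eq_of_relIndex_prime hp.out h.iE le_sup_left
      (sup_le h.EN h2)).resolve_left fun e => h3 (le_sup_right.trans e.le)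
    have h6 : N ≤ K := h4.ge.trans (sup_le hEK ((c.anti (by omega)).trans c.gK))
    have h7 : γ (n - 2) = Y := Fusion.eq_of_le_of_card_le
      (h.hY.ge.trans' (le_inf (h1.trans h.EN) (le_cz_comm.1 (h6.trans c.Kcz)))) (by rw [c2, h.cY])
    have h8 : 6 ≤ n := by
      have := Fusion.card_le_of_le ((le_inf h.N1S (h7 ▸ h.cent h5)).trans c.hK.ge)
      rw [h.cN1, c.cK, pow_le_iff] at this
      omega
    refine ⟨h7.symm, hEK, fun hle => ?_, h4.symm, h8⟩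
    have h9 : γ (n - 4) = N := Fusion.eq_of_le_of_card_le
      (hN _ fun x hx u hu => h1 (c.anti (by omega) (c.cmK (hle hx) (by omega) (by omega) hu)))
      (by rw [c.card (by omega) (by omega), h.cN, pow_le_iff]; omega)
    have := Fusion.card_le_of_le (fun u hu => h.memN1 hu (h9 ▸ c.nrm _ hu) : F.S ≤ N1)
    rw [c.cS, h.cN1, pow_le_iff] at this
    omega
  · exfalso
    obtain ⟨e, e1, e2⟩ := SetLike.not_le_iff_exists.mp hEK
    have e3 := hor e e1 e2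
    have hne : K ≠ K1 := fun h => e2 (h ▸ e3)
    have hE1 : E ≤ K1 := fun x hx => by
      by_cases hx' : x ∈ K
      · exact (mul_mem_cancel_right e3).1 (hor _ (mul_mem hx e1) fun h => e2 ((mul_mem_cancel_left hx').1 h))
      · exact hor x hx hx'
    have h2 : γ (n - 3) ≤ N := hN _ fun x hx u hu => hZ (c.anti (by omega) (c.cmK (hE1 hx) (by omega) (by omega) hu))
    obtain ⟨⟨k, hk⟩, y, hy, w, hw, hyw⟩ := c.exc hne
    have e4 : e ∉ γ 2 := fun h => e2 (c.gK h)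
    have h3 : γ (n - 3) = N ⊓ γ 2 := Fusion.eq_of_le_of_card_le (le_inf h2 (c.anti (by omega))) (by
      have := PGrp.mul_card_le_of_lt (h.sat.pg_le h.NS) (lt_of_le_of_ne (inf_le_left : N ⊓ γ 2 ≤ N)
        fun e => e4 (e.ge (h.EN e1)).2)
      rw [h.cN, pow_succ' p 3] at this
      exact c3 ▸ Nat.le_of_mul_le_mul_left this hp.out.pos)
    have h4 : γ (n - 3) ⊔ zpowers e = N := PGrp.sup_zpowers_eq_of_relIndex_prime hp.out
      (relIndex_of_card h2 c3 h.cN) h2 (h.EN e1) fun h => e4 (c.anti (by omega) h)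
    have h6 : ∀ i, 2 ≤ i → n ≤ i + 5 → i + 3 ≤ n → γ i ≤ N1 := fun i i1 i2 i3 u hu => h.memN1 (c.le _ hu) (by
      rw [← h4]
      exact mem_nz_sup_zpowers (c.nrm _ (c.le _ hu)) (c.anti (by omega) (c.cmK e3 i1 i3 hu)))
    by_cases h7 : 7 ≤ n
    · have := Fusion.eq_of_le_of_card_le (h6 (n - 5) (by omega) (by omega) (by omega))
        (by rw [c.card (by omega) (by omega), h.cN1, pow_le_iff]; omega)
      exact e4 (c.anti (by omega) (this.ge (h.NN (h.EN e1))))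
    have h8 : Y ≤ γ (n - 3) := fun u hu => h3.ge ⟨h.EN (h.YE hu), c.inter hne ⟨c.hK.ge ⟨hES (h.YE hu),
      le_cz_comm.1 (((c.anti (by omega)).trans h2).trans h.NY) hu⟩, hE1 (h.YE hu)⟩⟩
    have h9 : ¬ Y ≤ γ (n - 3 + 1) := fun hle => by
      have e5 := Fusion.eq_of_le_of_card_le (hle.trans (c.anti (i := n - 2) (by omega))) (by rw [c2, h.cY])
      exact e2 (c.hK.ge ⟨hES e1, e5 ▸ h.NY (h.EN e1)⟩)
    obtain ⟨z, z1, z2⟩ := SetLike.not_le_iff_exists.mp h9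
    have h10 : y ∈ cz (γ (n - 3)) := by
      rw [← PGrp.sup_zpowers_eq_of_relIndex_prime hp.out (c.idx (by omega) (by omega)) (c.anti (Nat.le_succ _))
        (h8 z1) z2, cz_sup]
      exact ⟨cz_anti (c.anti (by omega)) (c.Kcz (c.gK hy)),
        cz_anti (zpowers_le.2 z1) (h.cent h5 (h6 2 le_rfl (by omega) (by omega) hy))⟩
    exact hyw (commutatorElement_eq_one_iff_mul_comm.2 (mem_cz.1 h10 w hw).symm)

end Cfsg.Agent.H23.MCE
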