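import Mathlib
import Cfsg.Agent.H23.MC5

/-!
# No elementary abelian essential subgroup of order `p ^ 3` in a group of maximal class of order at least `p ^ 5`
-/

set_option autoImplicit false

namespace Cfsg.Agent.H23.MCE

open Subgroup Cfsg.Agent.Fusion Cfsg.Agent.Fusion.FS Cfsg.Agent.Inv.Es
open scoped commutatorElement

variable {G : Type*} [Group G] {p n : ℕ} [hp : Fact p.Prime] [Finite G] {F : FS G} {E N Y Fo N1 K1 K : Subgroup G}
  {γ : ℕ → Subgroup G} {e g : G} {i j : ℕ}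

/-- the exceptional configuration -/
structure Ex (p n : ℕ) (F : FS G) (E N Y Fo N1 K1 K : Subgroup G) (γ : ℕ → Subgroup G) (e : G) : Prop where
  c : Ch p n F.S K1 K γ
  h : Loc p F E N Y Fo N1
  h5 : 5 ≤ p
  e1 : e ∈ E
  e2 : e ∉ K1

namespace Ex

theorem n6 (x : Ex p n F E N Y Fo N1 K1 K γ e) : 6 ≤ n := (typ x.c x.h x.h5).2.2.2.2
theorem hY (x : Ex p n F E N Y Fo N1 K1 K γ e) : Y = γ (n - 2) := (typ x.c x.h x.h5).1
omit hp [Finite G] in
theorem eS (x : Ex p n F E N Y Fo N1 K1 K γ e) : e ∈ F.S := x.h.ess.le x.e1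
theorem eY (x : Ex p n F E N Y Fo N1 K1 K γ e) : e ∉ Y := fun h =>
  x.e2 (x.c.gK1 (x.c.anti (by have := x.n6; omega) (x.hY.le h)))
theorem hE (x : Ex p n F E N Y Fo N1 K1 K γ e) : γ (n - 2) ⊔ zpowers e = E :=
  x.hY ▸ PGrp.sup_zpowers_eq_of_relIndex_prime hp.out x.h.iY x.h.YE x.e1 x.eY
theorem hN (x : Ex p n F E N Y Fo N1 K1 K γ e) : γ (n - 3) ⊔ zpowers e = N := by
  rw [(typ x.c x.h x.h5).2.2.2.1, ← x.hE, sup_right_comm, sup_eq_right.2 (x.c.anti (by omega))]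
omit hp [Finite G] in
theorem PS (x : Ex p n F E N Y Fo N1 K1 K γ e) (j : ℕ) : γ j ⊔ zpowers e ≤ F.S := sup_le (x.c.le j) (zpowers_le.2 x.eS)

theorem conj (x : Ex p n F E N Y Fo N1 K1 K γ e) (hj : 2 ≤ j) (hj' : j + 3 ≤ n) (hg : F.M (γ j ⊔ zpowers e) g) :
    g * e * g⁻¹ ∉ K1 ∧ cj g (γ (n - 2)) = γ (n - 2) ∧
      ∀ i, j ≤ i → i + 2 ≤ n → cj g (γ i ⊔ zpowers e) = γ i ⊔ zpowers (g * e * g⁻¹) := by
  have c := x.c
  have hle : ∀ i, j ≤ i → F.M (γ i ⊔ zpowers e) g := fun i hi => F.mono hg (sup_le_sup_right (c.anti hi) _)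
  have hgN : F.M (F.S ⊓ nz E) g := by rw [← x.h.hN, ← x.hN]; exact hle _ (by omega)
  obtain ⟨h1, h2⟩ := x.h.toHy.cj hgN
  obtain ⟨Fo', h3⟩ := h1.loc
  obtain ⟨a1, -, a3, -, -⟩ := typ c h3 x.h5
  have a6 : cj g (γ (n - 2)) = γ (n - 2) := by
    rw [h2, ← cj_cz, ← cj_inf, ← x.h.hN, ← x.h.hY, x.hY] at a1
    exact a1
  have a7 : cj g E = γ (n - 2) ⊔ zpowers (g * e * g⁻¹) := by rw [← x.hE, cj_sup, a6, cj_zpowers]
  have a8 : g * e * g⁻¹ ∉ K1 := fun h => a3 (a7.le.trans (sup_le ((c.anti (by omega)).trans c.gK1) (zpowers_le.2 h)))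
  have a9 : g * e * g⁻¹ ∈ F.S := conj_mem hg (mem_sup_right (mem_zpowers e))
  refine ⟨a8, a6, fun i hi hi' => ?_⟩
  obtain ⟨k, hk⟩ : ∃ k, i + k + 2 = n := ⟨n - 2 - i, by omega⟩
  induction k generalizing i with
  | zero => rw [show i = n - 2 by omega, x.hE, a7]
  | succ k ih =>
    have := cj_inf_nz_le (P := γ (i + 1) ⊔ zpowers e) (hle i hi)
      ((c.nzP x.eS x.e2 (by omega) (by omega)).ge.trans inf_le_right)
    rw [ih (i + 1) (by omega) (by omega) (by omega), c.nzP a9 a8 (by omega) (by omega)] at this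
    exact Fusion.eq_of_le_of_card_le this (by rw [card_cj, c.cardP a9 a8 (by omega) hi', c.cardP x.eS x.e2 (by omega) hi'])

theorem conj' (x : Ex p n F E N Y Fo N1 K1 K γ e) (hj : 2 ≤ j) (hj' : j + 3 ≤ n) (hg : F.M (γ j ⊔ zpowers e) g)
    (hi : j ≤ i) (hi' : i + 2 ≤ n) : cj g (γ i) = γ i := by
  have c := x.c
  have n6 := x.n6
  obtain ⟨a8, a6, a⟩ := x.conj hj hj' hg
  have a9 : g * e * g⁻¹ ∈ F.S := conj_mem hg (mem_sup_right (mem_zpowers e))
  refine Fusion.eq_of_le_of_card_le (cj_le_iff.2 fun f hf => ?_) (by rw [card_cj])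
  have b1 : g * f * g⁻¹ ∈ γ i ⊔ zpowers (g * e * g⁻¹) := (a i hi hi').le (conj_mem_cj_of (mem_sup_left hf))
  refine c.infP a9 a8 (by omega) hi' b1 ?_
  by_contra hn
  obtain ⟨u, hu, k, hk⟩ := (PGrp.mem_sup_zpowers (c.nrm i a9)).1 b1
  have hu2 := c.anti (hj.trans hi) hu
  have b2 : (g * e * g⁻¹) ^ k ∉ K1 := fun h => hn (hk ▸ mul_mem (c.gK1 hu2) h)
  obtain ⟨s, hs, b3⟩ := c.cjg (zpow_mem a9 k) b2 (inv_mem hu2)
  rw [inv_inv, hk] at b3
  have fS : g * f * g⁻¹ ∈ F.S := hk ▸ mul_mem (c.le _ hu) (zpow_mem a9 k)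
  have b4 : γ (n - 2) ⊔ zpowers (g * f * g⁻¹) = cj (s * g) E := by
    refine Fusion.eq_of_le_of_card_le ?_ (by
      rw [card_cj, x.h.card, c.cardP fS hn (by omega) (by omega), pow_le_iff]; omega)
    have e1 : cj (s * g) (γ (n - 2)) = γ (n - 2) := by rw [cj_mul, a6, cj_of_nz (c.nrm _ hs)]
    have e2 : γ (n - 2) ≤ cj (s * g) E := e1.ge.trans (cj_mono (x.hY.ge.trans x.h.YE))
    refine sup_le e2 (zpowers_le.2 (mem_of_eq (mul_mem (conj_mem_cj_of (g := s * g) (zpow_mem x.e1 k))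
      (e2 (c.anti (by omega) b3))) ?_))
    rw [conj_zpow]; group
  have hR : F.M (γ (n - 2) ⊔ zpowers f) g := F.mono hg (sup_le ((c.anti (by omega)).trans le_sup_left)
    (zpowers_le.2 (mem_sup_left (c.anti hi hf))))
  have b5 : cj g (γ (n - 2) ⊔ zpowers f) = cj (s * g) E := by rw [cj_sup, a6, cj_zpowers, b4]
  have hE : F.M E (s * g) := S_mul (F.mono hg (x.hE.ge.trans (sup_le_sup_right (c.anti (by omega)) _))) hs
  have b6 := x.h.ess.fn.2 _ (mul' hE (F.inv hR) b5.ge)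
  rw [cj_mul, ← b5, cj_inv_cj, ← x.h.hN, x.h.cN] at b6
  have b7 : γ (n - 4) = F.S ⊓ nz (γ (n - 2) ⊔ zpowers f) := Fusion.eq_of_le_of_card_le
    (fun v hv => ⟨c.le _ hv, mem_nz_sup_zpowers (c.nrm _ (c.le _ hv)) (c.anti (by omega) (c.cm hf hv))⟩)
    (by rw [c.card (by omega) (by omega), show n - (n - 4) = 4 by omega]; exact b6)
  have b8 : f ∈ γ (n - 4) := b7.ge ⟨c.le _ hf, le_nz _ (mem_sup_right (mem_zpowers f))⟩
  have b9 : K1 ≤ F.S ⊓ nz (γ (n - 2) ⊔ zpowers f) := fun v hv => ⟨c.K1le hv, mem_nz_sup_zpowers (c.nrm _ (c.K1le hv))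
    (PGrp.commutator_symm_mem (c.anti (by omega) (c.cmK hv (by omega) (by omega) b8)))⟩
  have := (Fusion.card_le_of_le b9).trans b6
  rw [c.cK1, pow_le_iff] at this
  omega

theorem fn (x : Ex p n F E N Y Fo N1 K1 K γ e) (hj : 2 ≤ j) (hj' : j + 4 ≤ n) : F.FN (γ (j + 1) ⊔ zpowers e) := by
  refine ⟨x.PS _, fun g hg => ?_⟩
  obtain ⟨a8, -, a⟩ := x.conj (by omega) (by omega) hg
  have a9 : g * e * g⁻¹ ∈ F.S := conj_mem hg (mem_sup_right (mem_zpowers e))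
  rw [a _ le_rfl (by omega), x.c.nzP a9 a8 hj (by omega), x.c.nzP x.eS x.e2 hj (by omega),
    x.c.cardP a9 a8 hj (by omega), x.c.cardP x.eS x.e2 hj (by omega)]

theorem step (x : Ex p n F E N Y Fo N1 K1 K γ e) (hj : 2 ≤ j) (hj' : j + 4 ≤ n) {t : G}
    (ht : t ∈ F.aut (γ (j + 1) ⊔ zpowers e)) (htE : t ∈ nz E) :
    ∃ d ∈ cz E, t * d ∈ F.aut (γ j ⊔ zpowers e) := by
  have c := x.c
  have hM := M_of_aut (x.PS _) ht
  obtain ⟨d, hd, h1⟩ := ext_chain (R := γ j) x.h.sat (x.fn hj hj')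
    (fun i => match i with | 0 => γ (j + 1) ⊔ zpowers e | i + 1 => if j + i + 3 ≤ n then γ (j + 1 + i) else ⊥) rfl
    (fun i => match i with
      | 0 => by dsimp only; split_ifs; exacts [le_sup_left, bot_le]
      | i + 1 => by
        dsimp only; split_ifs
        exacts [c.anti (by omega), by omega, bot_le, le_rfl]) (m := n + 1) (by dsimp only; rw [if_neg (by omega)])
    (fun i => match i with
      | 0 => inf_le_right
      | i + 1 => by dsimp only; split_ifs; exacts [inf_le_left.trans (c.nrm _), le_top.trans nz_bot.ge]) ht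
    (fun i => match i with
      | 0 => F.aut_le_nz _ ht
      | i + 1 => by
        dsimp only; split_ifs
        exacts [mem_nz_iff.2 (x.conj' (by omega) (by omega) hM (by omega) (by omega)), nz_bot.ge trivial])
    (le_sup_left.trans (c.nzP x.eS x.e2 hj (by omega)).ge)
    (fun i => match i with
      | 0 => by
        dsimp only; rw [if_pos (by omega), add_zero]
        intro u hu
        have hn := c.nrm (j + 1) (c.le _ hu)
        refine mem_trv_sup (mem_trv_of_le le_rfl hn) (mem_trv_zpowers hn (c.nrm _ x.eS) ?_) (le_nz _)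
          (zpowers_le.2 (c.nrm _ x.eS))
        rw [PGrp.conj_eq_commutator_mul]
        exact cg_mem_mul (PGrp.commutator_symm_mem (c.cm1 x.eS hu)) (c.nrm _ x.eS)
      | i + 1 => by
        dsimp only; split_ifs
        · refine le_trv_of (c.anti (by omega)) fun u hu v hv => ?_
          rw [PGrp.conj_eq_commutator_mul]
          exact cg_mem_mul (c.cm1 (c.le _ hu) hv) (c.nrm _ (c.le _ hv))
        · rw [trv_bot, show j + 1 + i = n - 2 by omega]
          exact ((c.anti hj).trans c.gK).trans c.Kcz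
        · omega
        · rw [trv_bot, cz_bot]; exact le_top)
  rw [sup_right_comm, sup_eq_right.2 (c.anti (Nat.le_succ j))] at h1
  have hdE : d ∈ cz E := cz_anti (x.hE.ge.trans (sup_le_sup_right (c.anti (by omega)) _)) hd
  refine ⟨d, hdE, mem_aut_of h1 (mem_nz_of_le ?_)⟩
  rw [(x.conj hj (by omega) h1).2.2 j le_rfl (by omega)]
  refine sup_le le_sup_left (zpowers_le.2 ?_)
  exact (x.hE.ge.trans (sup_le_sup_right (c.anti (by omega)) _)) (conj_mem_of_nz (mul_mem htE (cz_le_nz _ hdE)) x.e1)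

theorem ext (x : Ex p n F E N Y Fo N1 K1 K γ e) {t : G} (ht : t ∈ F.aut N) (htE : t ∈ nz E) :
    ∃ d ∈ cz E, t * d ∈ F.aut (γ 2 ⊔ zpowers e) := by
  have n6 := x.n6
  have : ∀ k j, 2 ≤ j → j + k + 3 = n → ∃ d ∈ cz E, t * d ∈ F.aut (γ j ⊔ zpowers e) := fun k => by
    induction k with
    | zero => exact fun j _ h => ⟨1, one_mem _, by rw [mul_one, show j = n - 3 by omega, x.hN]; exact ht⟩
    | succ k ih =>
      intro j h1 h2
      obtain ⟨d, hd, h3⟩ := ih (j + 1) (by omega) (by omega)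
      obtain ⟨d', hd', h4⟩ := x.step h1 (by omega) h3 (mul_mem htE (cz_le_nz _ hd))
      exact ⟨d * d', mul_mem hd hd', mul_assoc t d d' ▸ h4⟩
  exact this (n - 5) 2 le_rfl (by omega)

theorem false (x : Ex p n F E N Y Fo N1 K1 K γ e) : False := by
  have c := x.c
  have h := x.h
  have n6 := x.n6
  have h5 := x.h5
  have hne : K ≠ K1 := fun e => x.e2 (e ▸ (typ c h h5).2.1 x.e1)
  obtain ⟨⟨m, hm⟩, y, hy, w, hw, hyw⟩ := c.exc hne
  have hy3 : y ∉ γ 3 := fun e => hyw (commutatorElement_eq_one_iff_mul_comm.2 (c.comm e hw (by omega)))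
  let v : ℕ → G := fun i => (fun z => ⁅e, z⁆)^[i] y
  have vs : ∀ i, v (i + 1) = ⁅e, v i⁆ := fun i => Function.iterate_succ_apply' _ _ _
  have hv : ∀ i, i + 4 ≤ n → v i ∈ γ (i + 2) ∧ v i ∉ γ (i + 3) := fun i => by
    induction i with
    | zero => exact fun _ => ⟨hy, hy3⟩
    | succ i ih =>
      intro hi
      obtain ⟨h1, h2⟩ := ih (by omega)
      rw [vs]
      exact ⟨c.cm1 x.eS h1, c.nm x.eS x.e2 (by omega) (by omega) h1 h2⟩
  obtain ⟨k, hk⟩ : ∃ k, n = k + 5 := ⟨n - 5, by omega⟩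
  obtain ⟨g1, g2⟩ := hv k (by omega)
  obtain ⟨g3, g4⟩ := hv (k + 1) (by omega)
  have gN : v k ∈ N := x.hN.le (mem_sup_left (c.anti (by omega) g1))
  have gE : v k ∉ E := fun e => g2 (c.anti (by omega)
    (c.infP x.eS x.e2 (j := n - 2) (by omega) (by omega) (x.hE.ge e) (c.gK1 (c.anti (by omega) g1))))
  obtain ⟨t0, t1, t2, t3, t4, z, z1, z2, z3⟩ := h.tor gN gE x.e1 x.eY (-1) (-1) (by simp)
  obtain ⟨d, hd, t5⟩ := x.ext t1 t2
  have hl : ⁅v k, e⁆ ∈ E := h.YE (h.LY gN gE x.e1 x.eY (mem_zpowers _))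
  rw [← conj_mul_cz hd hl] at t3
  rw [← conj_mul_cz hd x.e1] at t4
  rw [← conj_mul_cz hd (h.YE z1)] at z3
  generalize t0 * d = t at *
  have hM := M_of_aut (x.PS _) t5
  have tn : ∀ i, 2 ≤ i → i + 2 ≤ n → t ∈ nz (γ i) := fun i h1 h2 => mem_nz_iff.2 (x.conj' le_rfl (by omega) hM h1 h2)
  obtain ⟨a, ha⟩ := exists_wt_of_prime (c.anti (Nat.le_succ 2)) ((c.le _).trans (c.nrm _)) (c.idx le_rfl (by omega))
    (tn 2 le_rfl (by omega)) hy hy3
  have t6 : Cg (γ 2) (e ^ (-1 : ℤ)) (t * e * t⁻¹) := t4.mono (x.hY.le.trans (c.anti (by omega)))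
  have wv : ∀ i, i + 4 ≤ n → Cg (γ (i + 3)) (v i ^ ((-1 : ℤ) ^ i * a)) (t * v i * t⁻¹) := fun i => by
    induction i with
    | zero => exact fun _ => by rw [pow_zero, one_mul]; exact ha
    | succ i ih =>
      intro hi
      have B := bil (A := F.S) (A0 := γ 2) (B := γ (i + 2)) (B0 := γ (i + 3)) (Y := γ (i + 4)) le_rfl (c.le _) (c.nrm _)
        (c.le _) (c.anti (by omega)) (fun u hu w hw g hg => c.cm1 hg (c.cm1 hu hw))
        (fun u hu w hw => c.anti (by omega) (c.cm hu hw)) (fun u hu w hw => c.cm1 hu hw) x.eS (hv i (by omega)).1 t6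
        (ih (by omega))
      rw [← conj_comm, ← vs] at B
      rwa [pow_succ, mul_comm _ (-1 : ℤ), mul_assoc]
  have hko : Odd k := ⟨m - 3, by omega⟩
  have e1 : t * v (k + 1) * t⁻¹ = v (k + 1) ^ (-1 : ℤ) := by
    rw [vs, ← commutatorElement_inv, conj_inv.symm, t3]; simp
  have w1 := wv (k + 1) (by omega)
  rw [e1, (hko.add_one).neg_one_pow, one_mul] at w1
  have hpw : ∀ i, 2 ≤ i → i < n → ∀ u ∈ γ i, u ^ p ∈ γ (i + 1) := fun i h1 h2 u hu =>
    PGrp.pow_mem_of_relIndex_eq ((c.le _).trans (c.nrm _)) (c.idx h1 h2) hu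
  have d1 := (cg_zpow_iff hp.out (hpw _ (by omega) (by omega) _ g3) g4).1 w1
  have w2 := wv k (by omega)
  rw [hko.neg_one_pow] at w2
  have B := bil (A := γ 2) (A0 := γ 3) (B := γ (k + 2)) (B0 := γ (k + 3)) (Y := ⊥) (P := F.S) (c.le _) (c.le _)
    (le_top.trans nz_bot.ge) (c.anti (by omega)) (c.anti (by omega))
    (fun u hu w hw g hg => (c.bot (by omega)).le (c.cm1 hg (c.cm hu hw)))
    (fun u hu w hw => (c.bot (by omega)).le (c.cm hu hw)) (fun u hu w hw => (c.bot (by omega)).le (c.cm hu hw))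
    hy g1 ha w2
  rw [← conj_comm, cg_bot] at B
  have q1 : ⁅y, v k⁆ ∈ γ (k + 4) := c.anti (by omega) (c.cm hy g1)
  have q2 : ⁅y, v k⁆ ∉ γ (k + 5) := fun e => by
    rw [c.bot (by omega), mem_bot, commutatorElement_eq_one_iff_mul_comm] at e
    have : y ∈ cz (γ (k + 2)) := by
      rw [← PGrp.sup_zpowers_eq_of_relIndex_prime hp.out (c.idx (by omega) (by omega)) (c.anti (Nat.le_succ _)) g1 g2,
        cz_sup]
      exact ⟨cz_anti (c.anti (by omega)) (c.Kcz (c.gK hy)), mem_cz_zpowers.2 e.symm⟩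
    exact hyw (commutatorElement_eq_one_iff_mul_comm.2 (mem_cz.1 this w (c.anti (by omega) hw)).symm)
  have e2 : t * ⁅y, v k⁆ * t⁻¹ = ⁅y, v k⁆ ^ (-1 : ℤ) := by
    rw [← B]
    refine cg_bot.1 (cg_zpow_of_dvd ((c.bot (by omega)).le (hpw _ (by omega) (by omega) _ q1)) ?_)
    have : (-1 : ℤ) - a * (-1 * a) = (-1 - a) * (1 - a) := by ring
    rw [this]; exact d1.mul_right _
  have s1 := PGrp.sup_zpowers_eq_of_relIndex_prime hp.out (c.idx (by omega) (by omega)) (c.anti (Nat.le_succ _)) q1 q2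
  have s2 := PGrp.sup_zpowers_eq_of_relIndex_prime hp.out (c.idx (by omega) (by omega)) (c.anti (Nat.le_succ _)) g3 g4
  rw [c.bot (by omega), bot_sup_eq] at s1
  have hz : z ∈ γ (k + 1 + 2) := c.anti (by omega) (x.hY.le z1)
  obtain ⟨u, hu, j, hj⟩ := (PGrp.mem_sup_zpowers (c.nrm _ (c.le _ g3))).1 (s2.ge hz)
  obtain ⟨i, rfl⟩ := mem_zpowers_iff.1 (s1.ge hu)
  have e3 : t * z * t⁻¹ = z⁻¹ := by
    have hc : Commute (⁅y, v k⁆ ^ i) (v (k + 1) ^ j) := c.comm hu (zpow_mem g3 j) (by omega)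
    calc t * z * t⁻¹ = (t * ⁅y, v k⁆ * t⁻¹) ^ i * (t * v (k + 1) * t⁻¹) ^ j := by rw [← hj, conj_zpow, conj_zpow]; group
      _ = (⁅y, v k⁆ ^ i)⁻¹ * (v (k + 1) ^ j)⁻¹ := by
          rw [e1, e2, zpow_neg_one, zpow_neg_one, inv_zpow, inv_zpow]
      _ = z⁻¹ := by rw [← hj, hc.eq, mul_inv_rev]
  rw [z3] at e3
  exact z2 (eq_one_of_inv (p := p) (by omega) e3.symm (exists_pow_of_S h.sat (h.ess.le (h.YE z1))) ▸ one_mem _)

end Ex

theorem not_elem (hF : F.Sat p) (h5 : 5 ≤ p) (hS : Inv.Rg.MCl p F.S n) (hn : 5 ≤ n) (hE : F.Ess p E)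
    (hc : Nat.card E = p ^ 3) (hab : E ≤ cz E) (he : ∀ x ∈ E, x ^ p = 1) : False := by
  obtain ⟨K1, K, γ, c⟩ := exists_ch hS hn
  obtain ⟨Fo, h⟩ := Hy.loc ⟨hF, hE, hc, hab, he, by rw [hS.card, pow_le_iff]; exact hn⟩
  obtain ⟨e, e1, e2⟩ := SetLike.not_le_iff_exists.mp (typ c h h5).2.2.1
  exact Ex.false ⟨c, h, h5, e1, e2⟩

end Cfsg.Agent.H23.MCE
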