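import Mathlib
import Cfsg.Agent.Core.Basic
import Cfsg.Agent.FGS.FrobCount
import Cfsg.Agent.PGrp.CyclicTwo
import Cfsg.Agent.PGrp.Sect2

set_option autoImplicit false

namespace Cfsg.Agent.H23.SameOrd

open Subgroup Finset

variable {G : Type*} [Group G] [Finite G]

/-- number of elements of order `m` -/
noncomputable def s (G : Type*) [Group G] (m : ℕ) : ℕ := Nat.card {g : G // orderOf g = m}

theorem frob {m : ℕ} (hm : m ∣ Nat.card G) : m ∣ ∑ d ∈ m.divisors, s G d := by
  classical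
  haveI := Fintype.ofFinite G
  have h0 : m ≠ 0 := by rintro rfl; exact Nat.card_pos.ne' (zero_dvd_iff.1 hm)
  have h := FGS.dvd_card_pow_eq_one hm
  have e := sum_card_orderOf_eq_card_pow_eq_one (G := G) h0
  simp only [s, Nat.card_eq_fintype_card, Fintype.card_subtype] at h ⊢
  convert h using 2

theorem sum_mul {m p : ℕ} (hp : p.Prime) (hmp : m.Coprime p) (f : ℕ → ℕ) :
    ∑ d ∈ (m * p).divisors, f d = ∑ d ∈ m.divisors, (f (d * p) + f d) := by
  rw [Nat.divisors_mul, Finset.mul_def, sum_image hmp.mul_injOn_divisors, sum_product]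
  refine sum_congr rfl fun d _ => ?_
  rw [hp.sum_divisors]; simp

omit [Finite G] in
theorem s_one : s G 1 = 1 := by
  simp [s, orderOf_eq_one_iff]

theorem s_ne_zero {m : ℕ} (h : ∃ g : G, orderOf g = m) : s G m ≠ 0 := by
  obtain ⟨g, hg⟩ := h
  haveI : Nonempty {g : G // orderOf g = m} := ⟨⟨g, hg⟩⟩
  exact Nat.card_pos.ne'

omit [Finite G] in
theorem s_eq_zero {m : ℕ} (h : ¬ ∃ g : G, orderOf g = m) : s G m = 0 := by
  haveI : IsEmpty {g : G // orderOf g = m} := ⟨fun g => h ⟨g.1, g.2⟩⟩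
  simp [s]

omit [Finite G] in
theorem eq_of_s_eq_one {m : ℕ} (h : s G m = 1) {a b : G} (ha : orderOf a = m)
    (hb : orderOf b = m) : a = b := by
  have := (Nat.card_eq_one_iff_unique.1 h).1
  exact congrArg Subtype.val (Subsingleton.elim (⟨a, ha⟩ : {g : G // orderOf g = m}) ⟨b, hb⟩)

omit [Finite G] in
theorem s_ne_one {m : ℕ} (hm : 3 ≤ m) : s G m ≠ 1 := by
  intro h
  obtain ⟨⟨g, hg⟩⟩ := (Nat.card_eq_one_iff_unique.1 h).2
  have e := eq_of_s_eq_one h hg ((orderOf_inv g).trans hg)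
  have : g ^ 2 = 1 := by rw [pow_two]; nth_rewrite 1 [e]; exact inv_mul_cancel g
  have := Nat.le_of_dvd (by norm_num) (orderOf_dvd_of_pow_eq_one this)
  omega

theorem exists_of_dvd {g : G} {d : ℕ} (h : d ∣ orderOf g) : ∃ x : G, orderOf x = d :=
  ⟨g ^ (orderOf g / d), orderOf_pow_orderOf_div (orderOf_pos g).ne' h⟩

theorem main (n : ℕ) (hn : n ≠ 1)
    (h : ((fun m : ℕ => Nat.card {g : G // orderOf g = m}) '' Set.range (orderOf : G → ℕ)) = {1, n}) :
    (∃ p : ℕ, p.Prime ∧ IsPGroup p G ∧ 3 ≤ Nat.card G ∧ Monoid.exponent G = p) ∨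
      Nonempty (G ≃* QuaternionGroup 2) ∨ (IsCyclic G ∧ Nat.card G = 4) ∨
      (∃ (p : ℕ) (P : Type) (_ : Group P) (_ : Finite P), p.Prime ∧ p ≠ 2 ∧ IsPGroup p P ∧
        Monoid.exponent P = p ∧ Nonempty (G ≃* Multiplicative (ZMod 2) × P)) := by
  have hs : ∀ m, (∃ g : G, orderOf g = m) → s G m = 1 ∨ s G m = n := by
    rintro m ⟨g, hg⟩
    have : s G m ∈ ({1, n} : Set ℕ) := by rw [← h]; exact ⟨m, ⟨g, hg⟩, rfl⟩
    simpa using this
  have hs3 : ∀ m, 3 ≤ m → (∃ g : G, orderOf g = m) → s G m = n := fun m hm hg =>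
    (hs m hg).resolve_left (s_ne_one hm)
  have hs0 : ∀ m, 3 ≤ m → s G m = 0 ∨ s G m = n := fun m hm => by
    by_cases hg : ∃ g : G, orderOf g = m
    · exact Or.inr (hs3 m hm hg)
    · exact Or.inl (s_eq_zero hg)
  obtain ⟨m0, ⟨g0, hg0⟩, hm0⟩ : n ∈ ((fun m : ℕ => Nat.card {g : G // orderOf g = m}) ''
      Set.range (orderOf : G → ℕ)) := by rw [h]; simp
  have hm0' : s G m0 = n := hm0
  have hcard : 3 ≤ Nat.card G := by
    have hg1 : g0 ≠ 1 := by
      rintro rfl
      rw [orderOf_one] at hg0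
      rw [← hg0, s_one] at hm0'
      exact hn hm0'.symm
    have : ∃ g1 : G, orderOf g1 = m0 ∧ g1 ≠ g0 := by
      by_contra hc
      push Not at hc
      apply hn
      rw [← hm0']
      exact Nat.card_eq_one_iff_unique.2
        ⟨⟨fun a b => Subtype.ext ((hc a.1 a.2).trans (hc b.1 b.2).symm)⟩, ⟨⟨g0, hg0⟩⟩⟩
    obtain ⟨g1, hg1', hne⟩ := this
    have hg11 : g1 ≠ 1 := by
      rintro rfl
      rw [orderOf_one, ← hg0] at hg1'
      exact hg1 (orderOf_eq_one_iff.1 hg1'.symm)
    classical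
    haveI := Fintype.ofFinite G
    rw [Nat.card_eq_fintype_card]
    exact Fintype.two_lt_card_iff.2 ⟨1, g0, g1, hg1.symm, hg11.symm, hne.symm⟩
  haveI : Nontrivial G := Finite.one_lt_card_iff_nontrivial.1 (by omega)
  have cauchy : ∀ p : ℕ, p.Prime → p ∣ Nat.card G → ∃ g : G, orderOf g = p := fun p hp hd => by
    haveI := Fact.mk hp
    exact exists_prime_orderOf_dvd_card' p hd
  have h3 : ∀ p : ℕ, p.Prime → p ≠ 2 → 3 ≤ p := fun p hp h2 => by have := hp.two_le; omega
  have hp1 : ∀ p : ℕ, p.Prime → p ≠ 2 → p ∣ Nat.card G → p ∣ n + 1 := fun p hp h2 hd => by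
    have := frob hd
    rwa [hp.sum_divisors, s_one, hs3 p (h3 p hp h2) (cauchy p hp hd)] at this
  have nd1 : ∀ p : ℕ, p.Prime → ¬ p ∣ 1 := fun p hp hd => hp.one_lt.ne' (Nat.dvd_one.1 hd)
  have nd2 : ∀ p : ℕ, p.Prime → p ≠ 2 → ¬ p ∣ 2 := fun p hp h2 hd =>
    h2 ((Nat.prime_dvd_prime_iff_eq hp Nat.prime_two).1 hd)
  have dv : ∀ {p c d : ℕ}, p ∣ c → c = d → p ∣ d := fun h e => e ▸ h
  have ar : ∀ p a b : ℕ, p ∣ n + 1 → p ∣ a * n + b → a ≤ b → p ∣ b - a := by
    intro p a b h1 h2 hab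
    have h3 : a * n + b = a * (n + 1) + (b - a) := by rw [mul_add, mul_one]; omega
    rw [h3] at h2
    exact (Nat.dvd_add_right (Dvd.dvd.mul_left h1 a)).1 h2
  have ar' : ∀ p a b : ℕ, p ∣ n + 1 → p ∣ a * n + b → b ≤ a → p ∣ a - b := by
    intro p a b h1 h2 hab
    have h3 : a * (n + 1) = (a * n + b) + (a - b) := by rw [mul_add, mul_one]; omega
    have h4 := Dvd.dvd.mul_left h1 a
    rw [h3] at h4
    exact (Nat.dvd_add_right h2).1 h4
  have hsq : ∀ p : ℕ, p.Prime → p ≠ 2 → ¬ ∃ g : G, orderOf g = p ^ 2 := by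
    rintro p hp h2 ⟨g, hg⟩
    have hd : p ^ 2 ∣ Nat.card G := hg ▸ orderOf_dvd_natCard g
    have hd1 : p ∣ Nat.card G := (dvd_pow_self p two_ne_zero).trans hd
    have h4 := frob hd
    rw [Nat.sum_divisors_prime_pow hp] at h4
    simp only [sum_range_succ, range_zero, sum_empty, pow_zero, pow_one, zero_add] at h4
    have := h3 p hp h2
    rw [s_one, hs3 p this (cauchy p hp hd1), hs3 _ (by nlinarith) ⟨g, hg⟩] at h4
    have h5 := ar' p 2 1 (hp1 p hp h2 hd1) (dv ((dvd_pow_self p two_ne_zero).trans h4) (by omega)) (by norm_num)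
    exact nd1 p hp h5
  have huniq : ∀ p q : ℕ, p.Prime → p ≠ 2 → q.Prime → q ≠ 2 → p ∣ Nat.card G → q ∣ Nat.card G →
      p = q := by
    intro p q hp hp2 hq hq2 hpd hqd
    by_contra hne
    have hc : p.Coprime q := (Nat.coprime_primes hp hq).2 hne
    have h4 := frob (hc.mul_dvd_of_dvd_of_dvd hpd hqd)
    rw [sum_mul hq hc, hp.sum_divisors, one_mul, s_one, hs3 p (h3 p hp hp2) (cauchy p hp hpd),
      hs3 q (h3 q hq hq2) (cauchy q hq hqd)] at h4
    have h5 := (dvd_mul_right p q).trans h4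
    have hpq : 3 ≤ p * q := by have := h3 p hp hp2; have := h3 q hq hq2; nlinarith
    rcases hs0 _ hpq with e | e <;> rw [e] at h5
    · exact nd1 p hp (ar' p 2 1 (hp1 p hp hp2 hpd) (dv h5 (by omega)) (by norm_num))
    · exact nd2 p hp hp2
        (ar' p 3 1 (hp1 p hp hp2 hpd) (dv h5 (by omega)) (by norm_num))
  have hexp : ∀ (H : Type _) [Group H] [Finite H] [Nontrivial H] (p : ℕ), p.Prime → IsPGroup p H →
      (¬ ∃ g : H, orderOf g = p ^ 2) → Monoid.exponent H = p := by
    intro H _ _ _ p hp hH hno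
    haveI := Fact.mk hp
    rw [Monoid.exponent_eq_prime_iff hp]
    intro g hg
    obtain ⟨k, hk⟩ := IsPGroup.iff_orderOf.1 hH g
    rcases k with _ | _ | k
    · exact absurd (orderOf_eq_one_iff.1 (by simpa using hk)) hg
    · simpa using hk
    · exact absurd (exists_of_dvd (g := g) (by rw [hk]; exact pow_dvd_pow p (by omega))) hno
  have hpg : ∀ p : ℕ, p.Prime → (∀ q : ℕ, q.Prime → q ∣ Nat.card G → q = p) → IsPGroup p G := by
    intro p hp hq
    exact IsPGroup.of_card (Nat.eq_prime_pow_of_unique_prime_dvd Nat.card_pos.ne'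
      fun {d} hd hdd => hq d hd hdd)
  by_cases hodd : ∃ p : ℕ, p.Prime ∧ p ≠ 2 ∧ p ∣ Nat.card G
  · obtain ⟨p, hp, hp2, hpd⟩ := hodd
    haveI := Fact.mk hp
    by_cases h2 : 2 ∣ Nat.card G
    swap
    · have hG : IsPGroup p G := hpg p hp fun q hq hqd =>
        huniq q p hq (by rintro rfl; exact h2 hqd) hp hp2 hqd hpd
      exact Or.inl ⟨p, hp, hG, hcard, hexp G p hp hG (hsq p hp hp2)⟩
    have hc : Nat.Coprime 2 p := (Nat.coprime_primes Nat.prime_two hp).2 hp2.symm
    have hsp := hs3 p (h3 p hp hp2) (cauchy p hp hpd)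
    have hn1 := hp1 p hp hp2 hpd
    have h4 := (dvd_mul_left p 2).trans (frob (hc.mul_dvd_of_dvd_of_dvd h2 hpd))
    rw [sum_mul hp hc, Nat.prime_two.sum_divisors, one_mul, s_one, hsp] at h4
    have h2p : 3 ≤ 2 * p := by have := hp.two_le; omega
    have hs2 : s G 2 = 1 := by
      refine (hs 2 (cauchy 2 Nat.prime_two h2)).resolve_right fun e => ?_
      rw [e] at h4
      rcases hs0 _ h2p with e' | e' <;> rw [e'] at h4
      · exact nd1 p hp (ar' p 2 1 hn1 (dv h4 (by omega)) (by norm_num))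
      · exact nd2 p hp hp2 (ar' p 3 1 hn1 (dv h4 (by omega)) (by norm_num))
    have hs2p : s G (2 * p) = n := by
      refine (hs0 _ h2p).resolve_left fun e => ?_
      rw [e, hs2] at h4
      exact nd1 p hp (ar p 1 2 hn1 (dv h4 (by omega)) (by norm_num))
    have h4n : ¬ 4 ∣ Nat.card G := by
      intro h4d
      have hc4 : Nat.Coprime 4 p := by simpa using hc.pow_left 2
      have h5 := (dvd_mul_left p 4).trans (frob (hc4.mul_dvd_of_dvd_of_dvd h4d hpd))
      have h6 := frob h4d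
      have hd4 : Nat.divisors 4 = {1, 2, 4} := by decide
      rw [sum_mul hp hc4] at h5
      rw [hd4] at h5 h6
      simp only [mem_insert, mem_singleton, not_false_eq_true, sum_insert, sum_singleton,
        OfNat.one_ne_ofNat, Nat.reduceEqDiff, or_self, one_mul, s_one, hs2, hsp, hs2p] at h5 h6
      rcases hs0 4 (by norm_num) with e | e
      · rw [e] at h6; omega
      rw [e] at h5
      rcases hs0 (4 * p) (by omega) with e' | e' <;> rw [e'] at h5
      · exact nd1 p hp (ar' p 3 2 hn1 (dv h5 (by omega)) (by norm_num))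
      · exact nd2 p hp hp2 (ar' p 4 2 hn1 (dv h5 (by omega)) (by norm_num))
    obtain ⟨z, hz⟩ := cauchy 2 Nat.prime_two h2
    have hzc : ∀ g : G, g * z = z * g := by
      intro g
      have := eq_of_s_eq_one hs2 (a := g * z * g⁻¹) (b := z)
        (by rw [← MulAut.conj_apply, MulEquiv.orderOf_eq, hz]) hz
      exact mul_inv_eq_iff_eq_mul.1 this
    obtain ⟨P⟩ : Nonempty (Sylow p G) := inferInstance
    have hidx : (P : Subgroup G).index = 2 := by
      have h0 : (P : Subgroup G).index ≠ 0 := index_ne_zero_of_finite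
      have hdv : (P : Subgroup G).index ∣ Nat.card G := index_dvd_card _
      have e := Nat.eq_prime_pow_of_unique_prime_dvd (p := 2) h0 fun {d} hd hdd => by
        by_contra hne
        have := huniq d p hd hne hp hp2 (hdd.trans hdv) hpd
        exact P.not_dvd_index (this ▸ hdd)
      generalize (P : Subgroup G).index.primeFactorsList.length = k at e
      rcases k with _ | _ | k
      · exfalso
        rw [pow_zero, index_eq_one] at e
        obtain ⟨j, hj⟩ := IsPGroup.iff_card.1 P.isPGroup'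
        rw [e, card_top] at hj
        rw [hj] at h2
        exact hp2 ((Nat.prime_dvd_prime_iff_eq Nat.prime_two hp).1
          (Nat.prime_two.dvd_of_dvd_pow h2)).symm
      · simpa using e
      · exfalso
        apply h4n
        refine Dvd.dvd.trans ?_ hdv
        rw [e]; exact ⟨2 ^ k, by ring⟩
    haveI : (P : Subgroup G).Normal := normal_of_index_eq_two hidx
    haveI : (zpowers z).Normal := PGrp.normal_of_le_center (by
      rw [zpowers_le, mem_center_iff]; exact hzc)
    obtain ⟨j, hj⟩ := IsPGroup.iff_card.1 P.isPGroup'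
    have hzP : z ∉ (P : Subgroup G) := fun hm => by
      have := (P : Subgroup G).orderOf_dvd_natCard hm
      rw [hz, hj] at this
      exact hp2 ((Nat.prime_dvd_prime_iff_eq Nat.prime_two hp).1
          (Nat.prime_two.dvd_of_dvd_pow this)).symm
    obtain ⟨e⟩ := PGrp.nonempty_equiv_prod (zpowers z) P (Core.disjoint_of_coprime (by
      rw [Nat.card_zpowers, hz, hj]; exact hc.pow_right j))
      (by rw [sup_comm]; exact PGrp.sup_zpowers_eq_top_of_index_prime Nat.prime_two hidx hzP)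
    let e2 : Shrink.{0} P ≃* P := Shrink.mulEquiv
    haveI : Finite (Shrink.{0} P) := Finite.of_equiv _ e2.toEquiv.symm
    haveI : Nontrivial P := (P : Subgroup G).nontrivial_iff_ne_bot.2 (P.ne_bot_of_dvd_card hpd)
    haveI : Fact (Nat.Prime 2) := ⟨Nat.prime_two⟩
    let e3 : zpowers z ≃* Multiplicative (ZMod 2) :=
      mulEquivOfPrimeCardEq (p := 2) (by rw [Nat.card_zpowers, hz]) (by simp)
    refine Or.inr (Or.inr (Or.inr ⟨p, Shrink.{0} P, inferInstance, inferInstance, hp, hp2,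
      P.isPGroup'.of_equiv e2.symm, ?_, ⟨e.trans (e3.prodCongr e2.symm)⟩⟩))
    rw [Monoid.exponent_eq_of_mulEquiv e2]
    refine hexp P p hp P.isPGroup' ?_
    rintro ⟨g, hg⟩
    exact hsq p hp hp2 ⟨g, by rw [Subgroup.orderOf_coe, hg]⟩
  · have hG : IsPGroup 2 G := hpg 2 Nat.prime_two fun q hq hqd => by
      by_contra hne
      exact hodd ⟨q, hq, hne, hqd⟩
    by_cases h4 : ∃ g : G, orderOf g = 2 ^ 2
    swap
    · exact Or.inl ⟨2, Nat.prime_two, hG, hcard, hexp G 2 Nat.prime_two hG h4⟩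
    have hs4 : s G 4 = n := hs3 4 (by norm_num) h4
    obtain ⟨g, hg⟩ := h4
    have h4d : 4 ∣ Nat.card G := by have := orderOf_dvd_natCard g; rwa [hg] at this
    have h6 := frob h4d
    have hd4 : Nat.divisors 4 = {1, 2, 4} := by decide
    rw [hd4] at h6
    simp only [mem_insert, mem_singleton, not_false_eq_true, sum_insert, sum_singleton,
      OfNat.one_ne_ofNat, Nat.reduceEqDiff, or_self, s_one, hs4] at h6
    have hs2 : s G 2 = 1 := by
      refine (hs 2 (cauchy 2 Nat.prime_two (Dvd.dvd.trans (by norm_num) h4d))).resolve_right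
        fun e => ?_
      rw [e] at h6; omega
    rw [hs2] at h6
    have h8 : ¬ ∃ g : G, orderOf g = 8 := by
      rintro ⟨g, hg⟩
      have h7 := frob (hg ▸ orderOf_dvd_natCard g : 8 ∣ Nat.card G)
      have hd8 : Nat.divisors 8 = {1, 2, 4, 8} := by decide
      rw [hd8] at h7
      simp only [mem_insert, mem_singleton, not_false_eq_true, sum_insert, sum_singleton,
        OfNat.one_ne_ofNat, Nat.reduceEqDiff, or_self, s_one, hs4, hs2,
        hs3 8 (by norm_num) ⟨g, hg⟩] at h7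
      omega
    haveI : Fact (Nat.Prime 2) := ⟨Nat.prime_two⟩
    have hu : ∀ H K : Subgroup G, Nat.card H = 2 → Nat.card K = 2 → H = K := by
      have key : ∀ H : Subgroup G, Nat.card H = 2 → ∃ a : G, orderOf a = 2 ∧ H = zpowers a := by
        intro H hH
        obtain ⟨a, ha⟩ := exists_prime_orderOf_dvd_card' (G := H) 2 (by rw [hH])
        have ha' : orderOf (a : G) = 2 := by rw [Subgroup.orderOf_coe, ha]
        refine ⟨a, ha', (Core.eq_of_le_of_card_le (zpowers_le.2 a.2) ?_).symm⟩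
        rw [hH, Nat.card_zpowers, ha']
      intro H K hH hK
      obtain ⟨a, ha, rfl⟩ := key H hH
      obtain ⟨b, hb, rfl⟩ := key K hK
      rw [eq_of_s_eq_one hs2 ha hb]
    rcases PGrp.isCyclic_or_quaternion_of_unique hG hu with hc | ⟨-, m, hm, ⟨e⟩⟩
    · refine Or.inr (Or.inr (Or.inl ⟨hc, ?_⟩))
      obtain ⟨k, hk⟩ := IsPGroup.iff_card.1 hG
      obtain ⟨x, hx⟩ := (isCyclic_iff_exists_orderOf_eq_natCard).1 hc
      rcases k with _ | _ | _ | k
      · omega
      · omega
      · omega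
      · exact absurd (exists_of_dvd (g := x) (by rw [hx, hk]; exact ⟨2 ^ k, by ring⟩)) h8
    · refine Or.inr (Or.inl ?_)
      rcases m with _ | _ | m
      · omega
      · exact ⟨e⟩
      · refine absurd (exists_of_dvd (g := e.symm (QuaternionGroup.a 1)) ?_) h8
        rw [MulEquiv.orderOf_eq, QuaternionGroup.orderOf_a_one]
        exact ⟨2 ^ m, by ring⟩

end Cfsg.Agent.H23.SameOrd
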