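import Mathlib
import Cfsg.Agent.H23.SameOrd
import Cfsg.Agent.H23.Kulak
import Cfsg.Agent.Char.Central
import Cfsg.Agent.FGS.DPi
import Cfsg.Agent.H2.Frobenius
import Cfsg.Agent.S0205
import Cfsg.Agent.S4249

set_option autoImplicit false

namespace Cfsg.Agent.H23.SameOrd3

open Subgroup Finset SameOrd

variable {G : Type*} [Group G] [Finite G]

theorem dvd_add' {p : ℕ} (hp : p.Prime) (m : ℕ) (hc : m.Coprime p) (hd : m * p ∣ Nat.card G) :
    p ∣ s G (m * p) + s G m := by
  induction m using Nat.strong_induction_on with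
  | _ m ih =>
  have hm0 : m ≠ 0 := by
    rintro rfl
    exact Nat.card_pos.ne' (zero_dvd_iff.1 (by simpa using hd))
  have h := (dvd_mul_left p m).trans (frob hd)
  rw [sum_mul hp hc, ← Nat.insert_self_properDivisors hm0, sum_insert Nat.self_notMem_properDivisors]
    at h
  refine (Nat.dvd_add_left (dvd_sum fun d hd' => ?_)).1 h
  obtain ⟨h1, h2⟩ := Nat.mem_properDivisors.1 hd'
  exact ih d h2 (hc.coprime_dvd_left h1) ((Nat.mul_dvd_mul_right h1 p).trans hd)

theorem tot_dvd (m : ℕ) : Nat.totient m ∣ s G m := by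
  have h := Kul.cyc_mul (G := G) m
  have e : s G m = {x : G | orderOf x = m}.ncard := rfl
  rw [e, ← h]
  exact dvd_mul_left _ _

theorem two_mul_le {p m : ℕ} (hp : p.Prime) (hc : m.Coprime p) (hm : 3 ≤ m) (h : ¬ p ∣ s G m) :
    2 * s G p ≤ s G (m * p) := by
  classical
  haveI := Fact.mk hp
  letI : MulAction G {y : G // orderOf y = m} :=
    { smul := fun x y => ⟨x * y.1 * x⁻¹, by rw [← MulAut.conj_apply, MulEquiv.orderOf_eq, y.2]⟩
      one_smul := fun y => Subtype.ext (show 1 * y.1 * 1⁻¹ = y.1 by simp)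
      mul_smul := fun a b y => Subtype.ext
        (show a * b * y.1 * (a * b)⁻¹ = a * (b * y.1 * b⁻¹) * a⁻¹ by group) }
  haveI := Fintype.ofFinite {y : G // orderOf y = m}
  have hex : ∀ x : {x : G // orderOf x = p}, ∃ y : G, orderOf y = m ∧ Commute x.1 y := by
    intro x
    obtain ⟨y, hy⟩ := Equiv.Perm.exists_fixed_point_of_prime (p := p) (n := 1)
      (by rwa [← Nat.card_eq_fintype_card]) (σ := MulAction.toPermHom G {y : G // orderOf y = m} x.1)
      (by rw [pow_one, ← map_pow, show x.1 ^ p = 1 from orderOf_dvd_iff_pow_eq_one.1 x.2.dvd, map_one])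
    have : x.1 * y.1 * x.1⁻¹ = y.1 := congrArg Subtype.val hy
    exact ⟨y.1, y.2, mul_inv_eq_iff_eq_mul.1 this⟩
  choose f hf hcm using hex
  let g : {x : G // orderOf x = p} × Bool → G := fun a => if a.2 then f a.1 else (f a.1)⁻¹
  have hg : ∀ a, orderOf (g a) = m := by
    rintro ⟨x, _ | _⟩ <;> simp [g, hf]
  have hgc : ∀ a, Commute a.1.1 (g a) := by
    rintro ⟨x, _ | _⟩
    · exact (hcm x).inv_right
    · exact hcm x
  let F : {x : G // orderOf x = p} × Bool → {z : G // orderOf z = m * p} := fun a =>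
    ⟨a.1.1 * g a, by
      rw [(hgc a).orderOf_mul_eq_mul_orderOf_of_coprime (by rw [a.1.2, hg]; exact hc.symm), a.1.2,
        hg, mul_comm]⟩
  have hF : Function.Injective F := by
    intro a b hab
    have e : a.1.1 * g a = b.1.1 * g b := congrArg Subtype.val hab
    have e1 := congrArg (· ^ m) e
    simp only [(hgc _).mul_pow] at e1
    have h1 : ∀ a, g a ^ m = 1 := fun a => by rw [← hg a, pow_orderOf_eq_one]
    rw [h1, h1, mul_one, mul_one] at e1
    obtain ⟨k, -, hk⟩ := Nat.exists_mul_mod_eq_one_of_coprime hc hp.one_lt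
    have e2 := congrArg (· ^ k) e1
    simp only [← pow_mul] at e2
    rw [← pow_mod_orderOf, ← pow_mod_orderOf b.1.1, a.1.2, b.1.2, hk, pow_one, pow_one] at e2
    obtain ⟨x, i⟩ := a
    obtain ⟨x', j⟩ := b
    obtain rfl : x = x' := Subtype.ext e2
    have e3 : g (x, i) = g (x, j) := mul_left_cancel e
    have hne : f x ≠ (f x)⁻¹ := fun e => by
      have : f x ^ 2 = 1 := by rw [pow_two]; nth_rewrite 1 [e]; exact inv_mul_cancel _
      have := Nat.le_of_dvd (by norm_num) (orderOf_dvd_of_pow_eq_one this)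
      rw [hf] at this
      omega
    rcases i with _ | _ <;> rcases j with _ | _
    · rfl
    · exact absurd e3.symm hne
    · exact absurd e3 hne
    · rfl
  have := Nat.card_le_card_of_injective F hF
  simpa [s, mul_comm] using this

theorem values (h : (((fun m : ℕ => Nat.card {g : G // orderOf g = m}) ''
    Set.range (orderOf : G → ℕ))).ncard = 3) :
    ∃ a b : ℕ, a ≠ b ∧ ∀ m, s G m = 0 ∨ s G m = 1 ∨ s G m = a ∨ s G m = b := by
  obtain ⟨x, y, z, hxy, hxz, hyz, e⟩ := Set.ncard_eq_three.1 h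
  have h1 : (1 : ℕ) ∈ ({x, y, z} : Set ℕ) := by
    rw [← e]; exact ⟨1, ⟨1, orderOf_one⟩, s_one⟩
  have h2 : ∀ m, s G m = 0 ∨ s G m = x ∨ s G m = y ∨ s G m = z := fun m => by
    by_cases hg : ∃ g : G, orderOf g = m
    · have : s G m ∈ ({x, y, z} : Set ℕ) := by rw [← e]; exact ⟨m, hg, rfl⟩
      exact Or.inr (by simpa using this)
    · exact Or.inl (s_eq_zero hg)
  simp only [Set.mem_insert_iff, Set.mem_singleton_iff] at h1
  rcases h1 with rfl | rfl | rfl
  · exact ⟨y, z, hyz, h2⟩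
  · exact ⟨x, z, hxz, fun m => by have := h2 m; tauto⟩
  · exact ⟨x, y, hxy, fun m => by have := h2 m; tauto⟩

theorem cauchy {p : ℕ} (hp : p.Prime) (hd : p ∣ Nat.card G) : ∃ g : G, orderOf g = p := by
  haveI := Fact.mk hp
  exact exists_prime_orderOf_dvd_card' p hd

theorem dvd_one {p : ℕ} (hp : p.Prime) (hd : p ∣ Nat.card G) : p ∣ s G p + 1 := by
  have := dvd_add' hp 1 (by simp) (by simpa using hd)
  rwa [one_mul, s_one] at this

theorem int_dvd {p x y : ℕ} (h : p ∣ x + y) : (x : ZMod p) + y = 0 := by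
  rw [← Nat.cast_add, ZMod.natCast_eq_zero_iff]; exact h

theorem no2 {p : ℕ} (hp : p.Prime) (h2 : p ≠ 2) : (2 : ZMod p) ≠ 0 := fun h =>
  h2 ((Nat.prime_dvd_prime_iff_eq hp Nat.prime_two).1 ((ZMod.natCast_eq_zero_iff 2 p).1 (by simpa using h)))

theorem solvable (h : (((fun m : ℕ => Nat.card {g : G // orderOf g = m}) ''
    Set.range (orderOf : G → ℕ))).ncard = 3) : Group.IsSolvable G := by
  obtain ⟨a, b, -, hs⟩ := values h
  by_cases h2 : 2 ∣ Nat.card G
  swap
  · exact S0205.result (Nat.odd_iff.2 (by omega))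
  by_cases hp : ∃ p : ℕ, p.Prime ∧ p ≠ 2 ∧ p ∣ Nat.card G
  swap
  · refine Char.burnside_of_primes Nat.prime_two Nat.prime_two fun r hr hd => Or.inl ?_
    by_contra hne; exact hp ⟨r, hr, hne, hd⟩
  obtain ⟨p, hp, hp2, hpd⟩ := hp
  by_cases hq : ∃ q : ℕ, q.Prime ∧ q ≠ 2 ∧ q ≠ p ∧ q ∣ Nat.card G
  swap
  · refine Char.burnside_of_primes Nat.prime_two hp fun r hr hd => ?_
    by_contra hne; push Not at hne; exact hq ⟨r, hr, hne.1, hne.2, hd⟩
  obtain ⟨q, hq, hq2, hqp, hqd⟩ := hq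
  have h3 : ∀ p : ℕ, p.Prime → p ≠ 2 → 3 ≤ p := fun p hp h2 => by have := hp.two_le; omega
  have hs3 : ∀ m, 3 ≤ m → s G m = 0 ∨ s G m = a ∨ s G m = b := fun m hm => by
    have := hs m; have := s_ne_one (G := G) hm; tauto
  have hev : ∀ m, 3 ≤ m → 2 ∣ s G m := fun m hm =>
    (even_iff_two_dvd.1 (Nat.totient_even hm)).trans (tot_dvd m)
  have ho2 := dvd_one Nat.prime_two h2
  have hcpq : q.Coprime p := (Nat.coprime_primes hq hp).2 hqp
  have hpq : q * p ∣ Nat.card G := hcpq.mul_dvd_of_dvd_of_dvd hqd hpd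
  have e1 := int_dvd (dvd_one hp hpd)
  have e2 := int_dvd (dvd_one hq hqd)
  have e3 := int_dvd (dvd_add' hp q hcpq hpq)
  have e4 := int_dvd (dvd_add' hq p hcpq.symm (mul_comm q p ▸ hpq))
  rw [mul_comm p q] at e4
  have hp3 := h3 p hp hp2
  have hq3 := h3 q hq hq2
  have hpq3 : 3 ≤ q * p := by nlinarith
  have np := s_ne_zero (cauchy hp hpd)
  have nq := s_ne_zero (cauchy hq hqd)
  by_cases hz : s G 2 = 1
  swap
  · exfalso
    have key : ∃ c, ∀ m, 3 ≤ m → s G m = 0 ∨ s G m = c := by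
      rcases hs 2 with e | e | e | e
      · omega
      · exact absurd e hz
      · exact ⟨b, fun m hm => by have := hs3 m hm; have := hev m hm; omega⟩
      · exact ⟨a, fun m hm => by have := hs3 m hm; have := hev m hm; omega⟩
    obtain ⟨c, hc⟩ := key
    rw [(hc p hp3).resolve_left np] at e1
    rw [(hc q hq3).resolve_left nq] at e3
    rcases hc _ hpq3 with e | e <;> rw [e] at e3
    · exact no2 hp hp2 (by push_cast at e1 e3; linear_combination 2 * e1 - 2 * e3)
    · exact no2 hp hp2 (by push_cast at e1 e3; linear_combination 2 * e1 - e3)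
  by_cases h4 : 4 ∣ Nat.card G
  swap
  · obtain ⟨z, hz2⟩ := cauchy Nat.prime_two h2
    have hzc : ∀ g : G, g * z = z * g := fun g =>
      mul_inv_eq_iff_eq_mul.1 (eq_of_s_eq_one hz (a := g * z * g⁻¹) (b := z)
        (by rw [← MulAut.conj_apply, MulEquiv.orderOf_eq, hz2]) hz2)
    haveI : (zpowers z).Normal := PGrp.normal_of_le_center (by
      rw [zpowers_le, mem_center_iff]; exact hzc)
    haveI : Group.IsSolvable (G ⧸ zpowers z) := S0205.result (by
      have := card_eq_card_quotient_mul_card_subgroup (zpowers z)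
      rw [Nat.card_zpowers, hz2] at this
      exact Nat.odd_iff.2 (by omega))
    exact Group.isSolvable_of_ker_le_range (zpowers z).subtype (QuotientGroup.mk' (zpowers z)) (by simp)
  exfalso
  have h6 := frob h4
  have hd4 : Nat.divisors 4 = {1, 2, 4} := by decide
  rw [hd4] at h6
  simp only [mem_insert, mem_singleton, not_false_eq_true, sum_insert, sum_singleton,
    OfNat.one_ne_ofNat, Nat.reduceEqDiff, or_self, s_one, hz] at h6
  obtain ⟨a, b, ha, hs3⟩ : ∃ a b, s G 4 = a ∧ ∀ m, 3 ≤ m → s G m = 0 ∨ s G m = a ∨ s G m = b := by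
    rcases hs3 4 (by norm_num) with e | e | e
    · omega
    · exact ⟨a, b, e, hs3⟩
    · exact ⟨b, a, e, fun m hm => by have := hs3 m hm; tauto⟩
  have hs4 : ∀ m, 3 ≤ m → 4 ∣ Nat.totient m → s G m = 0 ∨ s G m = b := fun m hm h => by
    have := hs3 m hm; have := h.trans (tot_dvd (G := G) m); omega
  have c4 : ∀ r : ℕ, r.Prime → r ≠ 2 → Nat.Coprime 4 r := fun r hr h => by
    simpa using ((Nat.coprime_primes Nat.prime_two hr).2 h.symm).pow_left 2
  have tev : ∀ m, 3 ≤ m → 2 ∣ Nat.totient m := fun m hm => even_iff_two_dvd.1 (Nat.totient_even hm)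
  have t4 : ∀ m n, 3 ≤ m → 3 ≤ n → m.Coprime n → s G (m * n) = 0 ∨ s G (m * n) = b :=
    fun m n hm hn hc => hs4 _ (by nlinarith) (by
      rw [Nat.totient_mul hc]; exact mul_dvd_mul (tev m hm) (tev n hn))
  have c4p := c4 p hp hp2
  have c4q := c4 q hq hq2
  have e5 := int_dvd (dvd_add' hp 4 c4p (c4p.mul_dvd_of_dvd_of_dvd h4 hpd))
  have e6 := int_dvd (dvd_add' hq 4 c4q (c4q.mul_dvd_of_dvd_of_dvd h4 hqd))
  have c4qp : (4 * q).Coprime p := Nat.Coprime.mul_left c4p hcpq
  have e7 := int_dvd (dvd_add' hp (4 * q) c4qp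
    (c4qp.mul_dvd_of_dvd_of_dvd (c4q.mul_dvd_of_dvd_of_dvd h4 hqd) hpd))
  rw [ha] at e5 e6
  have f1 := (hs3 p hp3).resolve_left np
  have f2 := (hs3 q hq3).resolve_left nq
  have f3 := t4 q p hq3 hp3 hcpq
  have f5 := t4 4 p (by norm_num) hp3 c4p
  have f6 := t4 4 q (by norm_num) hq3 c4q
  have f7 := t4 (4 * q) p (by omega) hp3 c4qp
  have np2 := no2 hp hp2
  have nq2 := no2 hq hq2
  clear hs3 hs4 hs t4 hev tev c4 h3 h
  generalize s G p = x1 at *
  generalize s G q = x2 at *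
  generalize s G (q * p) = x3 at *
  generalize s G (4 * p) = x4 at *
  generalize s G (4 * q) = x5 at *
  generalize s G (4 * q * p) = x6 at *
  rcases f1 with rfl | rfl <;> rcases f2 with rfl | rfl <;> rcases f3 with rfl | rfl <;>
    rcases f5 with rfl | rfl <;> rcases f6 with rfl | rfl <;> rcases f7 with rfl | rfl <;>
    push_cast at e1 e2 e3 e4 e5 e6 e7 <;> grind

theorem ne_of_one {p m : ℕ} (hp : p.Prime) (hd : p ∣ Nat.card G) (hc : m.Coprime p) (hm : 3 ≤ m)
    (h : (s G m : ZMod p) = 1) : s G (m * p) ≠ s G p := by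
  haveI := Fact.mk hp
  have h1 := two_mul_le (G := G) hp hc hm (by
    rw [← ZMod.natCast_eq_zero_iff, h]; exact one_ne_zero)
  have := s_ne_zero (cauchy hp hd)
  omega

section Odd

variable {a b : ℕ} (hodd : Odd (Nat.card G))
  (hs : ∀ m, 3 ≤ m → s G m = 0 ∨ s G m = a ∨ s G m = b)
include hodd

theorem ne_two {p : ℕ} (hd : p ∣ Nat.card G) : p ≠ 2 := by
  rintro rfl
  exact (Nat.not_even_iff_odd.2 hodd) (even_iff_two_dvd.2 hd)

theorem three_le {p : ℕ} (hp : p.Prime) (hd : p ∣ Nat.card G) : 3 ≤ p := by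
  have := hp.two_le; have := ne_two hodd hd; omega

include hs

theorem same {p q : ℕ} (hp : p.Prime) (hq : q.Prime) (hqp : q ≠ p) (hpd : p ∣ Nat.card G)
    (hqd : q ∣ Nat.card G) (e1 : s G p = a) (e2 : s G q = a) :
    s G (q * p) = b ∧ (a : ZMod p) = -1 ∧ (b : ZMod p) = 1 := by
  have hc : q.Coprime p := (Nat.coprime_primes hq hp).2 hqp
  have f1 := int_dvd (dvd_one hp hpd)
  have f2 := int_dvd (dvd_add' hp q hc (hc.mul_dvd_of_dvd_of_dvd hqd hpd))
  have n2 := no2 hp (ne_two hodd hpd)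
  rw [e1] at f1
  rw [e2] at f2
  have := three_le hodd hp hpd
  have := three_le hodd hq hqd
  rcases hs (q * p) (by nlinarith) with e | e | e <;> rw [e] at f2 <;> push_cast at f1 f2
  · grind
  · grind
  · exact ⟨e, by grind, by grind⟩

theorem not_three {p q r : ℕ} (hp : p.Prime) (hq : q.Prime) (hr : r.Prime) (hqp : q ≠ p)
    (hrp : r ≠ p) (hrq : r ≠ q) (hpd : p ∣ Nat.card G) (hqd : q ∣ Nat.card G)
    (hrd : r ∣ Nat.card G) (e1 : s G p = a) (e2 : s G q = a) : False := by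
  obtain ⟨-, g1, g2⟩ := same hodd hs hp hq hqp hpd hqd e1 e2
  have n2 := no2 hp (ne_two hodd hpd)
  have := three_le hodd hp hpd
  have := three_le hodd hq hqd
  have hr3 := three_le hodd hr hrd
  have key : ∀ m, 3 ≤ m → m.Coprime p → m ∣ Nat.card G → s G m = b → False := by
    intro m hm hc hd e
    have f2 := int_dvd (dvd_add' hp m hc (hc.mul_dvd_of_dvd_of_dvd hd hpd))
    have f3 := ne_of_one hp hpd hc hm (by rw [e, g2])
    rw [e] at f2
    rcases hs (m * p) (by nlinarith) with e | e | e <;> rw [e] at f2 f3 <;> push_cast at f2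
    · grind
    · exact f3 e1.symm
    · grind
  have c1 : r.Coprime p := (Nat.coprime_primes hr hp).2 hrp
  have c2 : q.Coprime p := (Nat.coprime_primes hq hp).2 hqp
  have c3 : r.Coprime q := (Nat.coprime_primes hr hq).2 hrq
  rcases (hs r hr3).resolve_left (s_ne_zero (cauchy hr hrd)) with e | e
  · exact key (r * q) (by nlinarith) (Nat.Coprime.mul_left c1 c2)
      (c3.mul_dvd_of_dvd_of_dvd hrd hqd) (same hodd hs hq hr hrq hqd hrd e2 e).1
  · exact key r hr3 c1 hrd e

omit hodd hs in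
theorem dvd_sq {p : ℕ} (hp : p.Prime) (h : s G (p ^ 2) ≠ 0) : (s G (p ^ 2) : ZMod p) = 0 := by
  have hd : p ^ 2 ∣ Nat.card G := by
    by_contra hn
    exact h (s_eq_zero fun ⟨g, hg⟩ => hn (hg ▸ orderOf_dvd_natCard g))
  have h4 := (dvd_pow_self p two_ne_zero).trans (frob hd)
  rw [Nat.sum_divisors_prime_pow hp] at h4
  simp only [sum_range_succ, range_zero, sum_empty, pow_zero, pow_one, zero_add, s_one] at h4
  have h5 := dvd_one hp ((dvd_pow_self p two_ne_zero).trans hd)
  rw [add_comm] at h5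
  exact (ZMod.natCast_eq_zero_iff _ _).2 ((Nat.dvd_add_right h5).1 h4)

omit hodd hs in
theorem pow_dvd {p k : ℕ} (hp : p.Prime) (h : s G (p ^ 2) = 0) (hd : p ^ (k + 1) ∣ Nat.card G) :
    p ^ (k + 1) ∣ 1 + s G p := by
  have h4 := frob hd
  rw [Nat.sum_divisors_prime_pow hp, sum_range_succ', sum_range_succ', sum_eq_zero] at h4
  · simpa [s_one, add_comm] using h4
  · intro i _
    refine s_eq_zero fun ⟨g, hg⟩ => s_ne_zero (exists_of_dvd (g := g) ?_) h
    rw [hg]; exact pow_dvd_pow p (by omega)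

theorem not_same {p q : ℕ} (hp : p.Prime) (hq : q.Prime) (hqp : q ≠ p) (hpd : p ∣ Nat.card G)
    (hqd : q ∣ Nat.card G) (h : ∀ r : ℕ, r.Prime → r ∣ Nat.card G → r = p ∨ r = q)
    (e1 : s G p = a) (e2 : s G q = a) : False := by
  have key : ∀ p q : ℕ, p.Prime → q.Prime → q ≠ p → p ∣ Nat.card G → q ∣ Nat.card G →
      s G p = a → s G q = a → p ^ (Nat.card G).factorization p ∣ 1 + a := by
    intro p q hp hq hqp hpd hqd e1 e2
    obtain ⟨-, g1, g2⟩ := same hodd hs hp hq hqp hpd hqd e1 e2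
    have n2 := no2 hp (ne_two hodd hpd)
    have := three_le hodd hp hpd
    have h0 : s G (p ^ 2) = 0 := by
      by_contra hn
      have h1 := dvd_sq hp hn
      rcases (hs _ (by nlinarith)).resolve_left hn with e | e <;> rw [e] at h1
      · exact n2 (by linear_combination 2 * g1 - 2 * h1)
      · exact n2 (by linear_combination 2 * h1 - 2 * g2)
    obtain ⟨k, hk⟩ := Nat.exists_eq_succ_of_ne_zero
      (hp.factorization_pos_of_dvd Nat.card_pos.ne' hpd).ne'
    rw [hk, ← e1]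
    exact pow_dvd hp h0 (by have := Nat.ordProj_dvd (Nat.card G) p; rwa [hk] at this)
  have h1 := key p q hp hq hqp hpd hqd e1 e2
  have h2 := key q p hq hp hqp.symm hqd hpd e2 e1
  have h3 : Nat.card G ∣ 1 + a := by
    rw [← Nat.factorization_prime_le_iff_dvd Nat.card_pos.ne' (by omega)]
    intro r hr
    by_cases hd : r ∣ Nat.card G
    · rw [← hr.pow_dvd_iff_le_factorization (by omega)]
      rcases h r hr hd with rfl | rfl <;> assumption
    · simp [Nat.factorization_eq_zero_of_not_dvd hd]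
  have h4 := Nat.le_of_dvd (by omega) h3
  have h5 : s G 1 + (s G p + s G q) ≤ Nat.card G := by
    simp only [s]
    rw [← Nat.card_sum, ← Nat.card_sum]
    refine Nat.card_le_card_of_injective (Sum.elim (·.1) (Sum.elim (·.1) (·.1))) ?_
    have := hp.one_lt
    have := hq.one_lt
    rintro (⟨x, hx⟩ | ⟨x, hx⟩ | ⟨x, hx⟩) (⟨y, hy⟩ | ⟨y, hy⟩ | ⟨y, hy⟩) e <;>
      simp only [Sum.elim_inl, Sum.elim_inr] at e <;> subst e <;> first | rfl | omega
  have := s_ne_zero (cauchy hp hpd)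
  rw [s_one] at h5
  omega

theorem diff {p q : ℕ} (hp : p.Prime) (hq : q.Prime) (hqp : q ≠ p) (hpd : p ∣ Nat.card G)
    (hqd : q ∣ Nat.card G) (e1 : s G p = a) (e2 : s G q = b) :
    s G (q * p) = 0 ∧ s G (p ^ 2) = 0 := by
  have hc : q.Coprime p := (Nat.coprime_primes hq hp).2 hqp
  have hpq := hc.mul_dvd_of_dvd_of_dvd hqd hpd
  have f1 := int_dvd (dvd_one hp hpd)
  have f2 := int_dvd (dvd_add' hp q hc hpq)
  have f3 := int_dvd (dvd_one hq hqd)
  have f4 := int_dvd (dvd_add' hq p hc.symm (mul_comm q p ▸ hpq))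
  have n2 := no2 hp (ne_two hodd hpd)
  have n3 := no2 hq (ne_two hodd hqd)
  have := three_le hodd hp hpd
  have := three_le hodd hq hqd
  have g1 := fun h => ne_of_one hp hpd hc ‹_› h
  have g2 := fun h => ne_of_one hq hqd hc.symm ‹_› h
  rw [mul_comm p q] at f4 g2
  rw [e1] at f1 f4 g1 g2
  rw [e2] at f2 f3 g1 g2
  have h0 : s G (q * p) = 0 := by
    rcases hs (q * p) (by nlinarith) with e | e | e <;> rw [e] at f2 f4 g1 g2 <;>
      push_cast at f1 f2 f3 f4
    · exact e
    · exact absurd rfl (g1 (by grind))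
    · exact absurd rfl (g2 (by grind))
  refine ⟨h0, ?_⟩
  by_contra hn
  have h1 := dvd_sq hp hn
  have hd : p ^ 2 ∣ Nat.card G := by
    by_contra hn'
    exact hn (s_eq_zero fun ⟨g, hg⟩ => hn' (hg ▸ orderOf_dvd_natCard g))
  have hc2 : (p ^ 2).Coprime q := hc.symm.pow_left 2
  have f5 := int_dvd (dvd_add' hq _ hc2 (hc2.mul_dvd_of_dvd_of_dvd hd hqd))
  rw [show s G (p ^ 2 * q) = 0 from s_eq_zero fun ⟨g, hg⟩ =>
    s_ne_zero (exists_of_dvd (g := g) (by rw [hg]; exact ⟨p, by ring⟩)) h0] at f5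
  rcases (hs _ (by nlinarith)).resolve_left hn with e | e <;> rw [e] at h1 f5 <;>
    push_cast at f1 f3 f5 <;> grind

end Odd

theorem frob_of {p q : ℕ} (hp : p.Prime) (hq : q.Prime) (hqp : q ≠ p) (hpd : p ∣ Nat.card G)
    (ho : ∀ g : G, g ≠ 1 → orderOf g = p ∨ orderOf g = q)
    (hH : closure {g : G | g ^ q ≠ 1} ≠ ⊤) :
    ∃ C : Subgroup G, Cfsg.IsFrobeniusComplement C ∧ (Nat.card C).Prime := by
  haveI := Fact.mk hp
  haveI := Fact.mk hq
  have hc : q.Coprime p := (Nat.coprime_primes hq hp).2 hqp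
  obtain ⟨z, hz⟩ := cauchy hp hpd
  have hzq : z ^ q ≠ 1 := fun h => by
    have := orderOf_dvd_of_pow_eq_one h
    rw [hz] at this
    exact hqp ((Nat.prime_dvd_prime_iff_eq hp hq).1 this).symm
  have hnc : ∀ x y : G, orderOf x = p → orderOf y = q → ¬ Commute x y := by
    intro x y hx hy hxy
    have h1 := hxy.orderOf_mul_eq_mul_orderOf_of_coprime (by rw [hx, hy]; exact hc.symm)
    rw [hx, hy] at h1
    have := hp.two_le
    have := hq.two_le
    rcases ho (x * y) (by rintro h; rw [h, orderOf_one] at h1; nlinarith) with e | e <;> nlinarith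
  obtain ⟨hN, hi⟩ := S4249.result q hq (fun h => by
    obtain ⟨k, hk⟩ := IsPGroup.iff_orderOf.1 h z
    rw [hz] at hk
    exact hqp ((Nat.prime_dvd_prime_iff_eq hp hq).1 (hp.dvd_of_dvd_pow hk.dvd)).symm) hH
  set H := closure {g : G | g ^ q ≠ 1} with hHdef
  have hzH : z ∈ H := subset_closure hzq
  have hHo : ∀ g ∈ H, g ≠ 1 → orderOf g = p := fun g hg h1 => (ho g h1).resolve_right fun e =>
    hnc z g hz e (FGS.commute_of_nilpotent hN (p := p) (k := 1) hzH hg (by simpa using hz) (e ▸ hc))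
  haveI : H.Normal := ⟨fun x hx g => by
    have : H.map (MulAut.conj g).toMonoidHom ≤ H := by
      rw [hHdef, MonoidHom.map_closure]
      refine closure_mono ?_
      rintro _ ⟨y, hy, rfl⟩ h
      exact hy (by simpa [← map_pow] using h)
    exact this ⟨x, hx, rfl⟩⟩
  obtain ⟨y, hy⟩ : ∃ y, y ∉ H := by
    by_contra h; push Not at h; exact hH (eq_top_iff.2 fun x _ => h x)
  have hy1 : orderOf y = q := orderOf_eq_prime (by by_contra h; exact hy (subset_closure h))
    (by rintro rfl; exact hy (one_mem _))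
  have hyo : ∀ h ∈ zpowers y, h ≠ 1 → orderOf h = q := fun h hh h1 => by
    have := orderOf_dvd_of_mem_zpowers hh
    rw [hy1] at this
    exact ((Nat.dvd_prime hq).1 this).resolve_left (mt orderOf_eq_one_iff.1 h1)
  refine ⟨zpowers y, (H2.Frob.iff_semiregular (K := H) ?_ ?_ ?_).2 ?_, by rwa [Nat.card_zpowers, hy1]⟩
  · refine isComplement'_of_card_mul_and_disjoint
      (by rw [Nat.card_zpowers, hy1, ← hi, card_mul_index]) (disjoint_def.2 fun {x} h1 h2 => ?_)
    by_contra hx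
    exact hqp ((hyo x h2 hx).symm.trans (hHo x h1 hx))
  · intro h
    rw [h, Subgroup.mem_bot] at hzH
    exact hzq (by rw [hzH, one_pow])
  · intro h
    rw [zpowers_eq_bot] at h
    exact hy (h ▸ one_mem _)
  · intro h hh h1
    rw [eq_bot_iff]
    intro k hk
    by_contra hk1
    exact hnc k h (hHo k hk.1 hk1) (hyo h hh h1) (mem_centralizer_singleton_iff.1 hk.2)

theorem odd_main (hodd : Odd (Nat.card G)) (h : (((fun m : ℕ => Nat.card {g : G // orderOf g = m}) ''
    Set.range (orderOf : G → ℕ))).ncard = 3) : (Nat.card G).primeFactors.card ≤ 2 ∧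
      ((Nat.card G).primeFactors.card = 2 →
        (∀ (p : ℕ) [Fact p.Prime] (P : Sylow p G), p ∣ Nat.card G →
          Monoid.exponent ↥(P : Subgroup G) = p) ∧
        ∃ C : Subgroup G, Cfsg.IsFrobeniusComplement C ∧ (Nat.card ↥C).Prime) := by
  have hsol := solvable h
  obtain ⟨a, b, -, hs0⟩ := values h
  have hs : ∀ m, 3 ≤ m → s G m = 0 ∨ s G m = a ∨ s G m = b := fun m hm => by
    have := hs0 m; have := s_ne_one (G := G) hm; tauto
  have hs' : ∀ m, 3 ≤ m → s G m = 0 ∨ s G m = b ∨ s G m = a := fun m hm => by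
    have := hs m hm; tauto
  have hpr : ∀ p : ℕ, p.Prime → p ∣ Nat.card G → s G p = a ∨ s G p = b := fun p hp hd =>
    (hs p (three_le hodd hp hd)).resolve_left (s_ne_zero (cauchy hp hd))
  refine ⟨?_, fun h2 => ?_⟩
  · by_contra hn
    obtain ⟨p, q, r, hp, hq, hr, hpq, hpr', hqr⟩ := two_lt_card_iff.1 (not_le.1 hn)
    obtain ⟨hp, hpd, -⟩ := Nat.mem_primeFactors.1 hp
    obtain ⟨hq, hqd, -⟩ := Nat.mem_primeFactors.1 hq
    obtain ⟨hr, hrd, -⟩ := Nat.mem_primeFactors.1 hr
    have k1 := not_three hodd hs hp hq hr hpq.symm hpr'.symm hqr.symm hpd hqd hrd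
    have k2 := not_three hodd hs' hp hq hr hpq.symm hpr'.symm hqr.symm hpd hqd hrd
    have k3 := not_three hodd hs hp hr hq hpr'.symm hpq.symm hqr hpd hrd hqd
    have k4 := not_three hodd hs' hp hr hq hpr'.symm hpq.symm hqr hpd hrd hqd
    have k5 := not_three hodd hs hq hr hp hqr.symm hpq hpr' hqd hrd hpd
    have k6 := not_three hodd hs' hq hr hp hqr.symm hpq hpr' hqd hrd hpd
    have := hpr p hp hpd
    have := hpr q hq hqd
    have := hpr r hr hrd
    tauto
  obtain ⟨p, q, hpq, e⟩ := card_eq_two.1 h2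
  obtain ⟨hp, hpd, -⟩ := Nat.mem_primeFactors.1 (show p ∈ _ by rw [e]; simp)
  obtain ⟨hq, hqd, -⟩ := Nat.mem_primeFactors.1 (show q ∈ _ by rw [e]; simp)
  have hall : ∀ r : ℕ, r.Prime → r ∣ Nat.card G → r = p ∨ r = q := fun r hr hd => by
    have : r ∈ (Nat.card G).primeFactors := Nat.mem_primeFactors.2 ⟨hr, hd, Nat.card_pos.ne'⟩
    rw [e] at this; simpa using this
  obtain ⟨k1, k2, k3⟩ : s G (q * p) = 0 ∧ s G (p ^ 2) = 0 ∧ s G (q ^ 2) = 0 := by
    rcases hpr p hp hpd with e1 | e1 <;> rcases hpr q hq hqd with e2 | e2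
    · exact (not_same hodd hs hp hq hpq.symm hpd hqd hall e1 e2).elim
    · exact ⟨(diff hodd hs hp hq hpq.symm hpd hqd e1 e2).1, (diff hodd hs hp hq hpq.symm hpd hqd e1 e2).2,
        (diff hodd hs' hq hp hpq hqd hpd e2 e1).2⟩
    · exact ⟨(diff hodd hs' hp hq hpq.symm hpd hqd e1 e2).1,
        (diff hodd hs' hp hq hpq.symm hpd hqd e1 e2).2, (diff hodd hs hq hp hpq hqd hpd e2 e1).2⟩
    · exact (not_same hodd hs' hp hq hpq.symm hpd hqd hall e1 e2).elim
  have ho : ∀ g : G, g ≠ 1 → (orderOf g).Prime := by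
    intro g hg
    by_contra hn
    have h1 : 2 ≤ orderOf g := by
      have := orderOf_pos g; have := mt orderOf_eq_one_iff.1 hg; omega
    obtain ⟨r, hr, m, hm⟩ := Nat.exists_prime_and_dvd (n := orderOf g) (by omega)
    obtain ⟨t, ht, m, rfl⟩ := Nat.exists_prime_and_dvd (n := m) (by
      rintro rfl; exact hn (by simpa [hm] using hr))
    have h3 := s_ne_zero (exists_of_dvd (g := g) (d := r * t) ⟨m, by rw [hm]; ring⟩)
    have h4 := orderOf_dvd_natCard g
    rcases hall r hr (Dvd.dvd.trans ⟨_, hm⟩ h4) with rfl | rfl <;>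
      rcases hall t ht (Dvd.dvd.trans ⟨r * m, by rw [hm]; ring⟩ h4) with rfl | rfl
    · exact h3 (by rwa [← pow_two])
    · exact h3 (by rwa [mul_comm])
    · exact h3 k1
    · exact h3 (by rwa [← pow_two])
  have ho' : ∀ g : G, g ≠ 1 → orderOf g = p ∨ orderOf g = q := fun g hg =>
    hall _ (ho g hg) (orderOf_dvd_natCard g)
  refine ⟨fun r hr P hd => ?_, ?_⟩
  · haveI : Nontrivial P := (P : Subgroup G).nontrivial_iff_ne_bot.2 (P.ne_bot_of_dvd_card hd)
    rw [Monoid.exponent_eq_prime_iff hr.out]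
    intro g hg
    obtain ⟨k, hk⟩ := IsPGroup.iff_orderOf.1 P.isPGroup' g
    have := ho g (by simpa using hg)
    rw [Subgroup.orderOf_coe, hk] at this
    rw [hk, this.eq_one_of_pow, pow_one]
  by_cases h1 : closure {g : G | g ^ q ≠ 1} = ⊤
  swap
  · exact frob_of hp hq hpq.symm hpd ho' h1
  by_cases h2 : closure {g : G | g ^ p ≠ 1} = ⊤
  swap
  · exact frob_of hq hp hpq hqd (fun g hg => (ho' g hg).symm) h2
  exfalso
  haveI : Nontrivial G := Finite.one_lt_card_iff_nontrivial.1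
    (hp.one_lt.trans_le (Nat.le_of_dvd Nat.card_pos hpd))
  have key : ∀ p q : ℕ, (∀ g : G, g ≠ 1 → orderOf g = p ∨ orderOf g = q) →
      closure {g : G | g ^ q ≠ 1} = ⊤ → ∀ g : G, Abelianization.of g ^ p = 1 := by
    intro p q ho h g
    have : closure {g : G | g ^ q ≠ 1} ≤ ((powMonoidHom p).comp Abelianization.of).ker := by
      rw [closure_le]
      intro x hx
      have := (ho x (by rintro rfl; exact hx (one_pow _))).resolve_right
        fun e => hx (by rw [← e, pow_orderOf_eq_one])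
      simp [← map_pow, ← this]
    simpa using this (h ▸ mem_top g)
  refine (Group.IsSolvable.commutator_lt_top_of_nontrivial G).ne (eq_top_iff.2 fun g _ => ?_)
  have h3 := orderOf_dvd_of_pow_eq_one (key p q ho' h1 g)
  have h4 := orderOf_dvd_of_pow_eq_one (key q p (fun g hg => (ho' g hg).symm) h2 g)
  rw [← Abelianization.ker_of, MonoidHom.mem_ker, ← orderOf_eq_one_iff]
  exact Nat.eq_one_of_dvd_coprimes ((Nat.coprime_primes hp hq).2 hpq) h3 h4

end Cfsg.Agent.H23.SameOrd3
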