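import Mathlib
import Cfsg.Agent.Core.Basic
import Cfsg.Agent.Core.MinNormal
import Cfsg.Agent.Core.Coprime
import Cfsg.Agent.Core.SylowOf
import Cfsg.Agent.Core.PSolvable
import Cfsg.Agent.PGrp.Basic
import Cfsg.Agent.PGrp.Class
import Cfsg.Agent.PGrp.Frattini
import Cfsg.Agent.FGS.SylowNum

set_option autoImplicit false

namespace Cfsg.Agent.H23.Soft

open Subgroup
open scoped commutatorElement

universe u

variable {p : ℕ} [hp : Fact p.Prime]

/-- soft subgroups -/
structure Sf (p : ℕ) {G : Type*} [Group G] (A : Subgroup G) : Prop where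
  comm : IsMulCommutative A
  cent : centralizer (A : Set G) ≤ A
  idx : A.relIndex (normalizer (A : Set G)) = p

variable {G : Type*} [Group G] [Finite G] {A : Subgroup G}

theorem norm_le (hG : IsPGroup p G) {D K : Subgroup G}
    (h : D.relIndex (normalizer (D : Set G)) = p) (hlt : D < K) : normalizer (D : Set G) ≤ K := by
  have h1 := Core.lt_inf_normalizer_of_nilpotent (hG.to_subgroup K).isNilpotent hlt
  rcases PGrp.eq_or_eq_of_relIndex_prime hp.out h h1.le inf_le_right with e | e
  · exact absurd e h1.ne'
  · rw [← e]; exact inf_le_left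

omit hp [Finite G] in
theorem Sf.subgroupOf (h : Sf p A) {L : Subgroup G} (hL : normalizer (A : Set G) ≤ L) :
    Sf p (A.subgroupOf L) := by
  have hAL : A ≤ L := le_normalizer.trans hL
  refine ⟨Core.isMulCommutative_of_forall fun x hx y hy =>
    Subtype.ext (Core.comm_of_isMulCommutative h.comm hx hy), fun x hx => h.cent ?_, ?_⟩
  · rw [mem_centralizer_iff]
    intro a ha
    exact congrArg Subtype.val (mem_centralizer_iff.1 hx ⟨a, hAL ha⟩ ha)
  · rw [FGS.normalizer_subgroupOf hAL, relIndex_subgroupOf hL, h.idx]

theorem index_le (hG : IsPGroup p G) (h : Sf p A) [hn : (normalizer (A : Set G)).Normal] :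
    (normalizer (A : Set G)).index ≤ p := by
  set N := normalizer (A : Set G) with hN
  by_cases ht : N = ⊤
  · rw [ht, index_top]; exact hp.out.one_le
  obtain ⟨x, hx⟩ : ∃ x, x ∉ N := by
    by_contra hc
    push Not at hc
    exact ht (eq_top_iff.2 fun x _ => hc x)
  set Z := N ⊓ centralizer (N : Set G) with hZ
  have hAN : A ≤ N := le_normalizer
  have hZA : Z ≤ A := inf_le_right.trans ((centralizer_le hAN).trans h.cent)
  set B := A.map (MulAut.conj x).toMonoidHom with hB
  have hBN : B ≤ N := by
    rintro _ ⟨a, ha, rfl⟩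
    exact hn.conj_mem a (hAN ha) x
  have hBA : ¬ B ≤ A := fun hle => hx (mem_normalizer_iff_map_conj_eq.2
    (Core.eq_of_le_of_card_le hle (card_map_of_injective (MulAut.conj x).injective).ge))
  have hsup : A ⊔ B = N := by
    rcases PGrp.eq_or_eq_of_relIndex_prime hp.out h.idx le_sup_left (sup_le hAN hBN) with e | e
    · exact absurd (e ▸ le_sup_right) hBA
    · exact e
  have hBc : IsMulCommutative B := by haveI := h.comm; infer_instance
  have hABZ : A ⊓ B ≤ Z := by
    refine le_inf (inf_le_left.trans hAN) ?_
    rw [← hsup, PGrp.centralizer_sup]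
    haveI := h.comm
    exact inf_le_inf (le_centralizer A) (le_centralizer B)
  have hBi : B.relIndex N = p := by
    have h1 := Core.card_mul_relIndex hBN
    rw [← Core.card_mul_relIndex hAN, h.idx, hB,
      card_map_of_injective (MulAut.conj x).injective] at h1
    exact Nat.eq_of_mul_eq_mul_left Nat.card_pos h1
  have hZi : Z.relIndex N ≤ p ^ 2 := by
    have h1 := relIndex_inf_le (H := A) (K := B) (L := N)
    rw [h.idx, hBi, ← pow_two] at h1
    exact (relIndex_le_of_le_left hABZ index_ne_zero_of_finite).trans h1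
  haveI : Z.Normal := inferInstance
  set π := QuotientGroup.mk' Z
  haveI : (N.map π).Normal := hn.map π (QuotientGroup.mk'_surjective Z)
  have hV : Nat.card (N.map π) ≤ p ^ 2 := by rwa [← Core.relIndex_eq_card_map_mk']
  have hC : (centralizer (N.map π : Set (G ⧸ Z))).index ≤ p := by
    obtain ⟨a, ha⟩ := PGrp.exists_card_eq_pow (hG.to_quotient Z) (N.map π)
    rw [ha, Nat.pow_le_pow_iff_right hp.out.one_lt] at hV
    refine (PGrp.index_centralizer_le_pow_choose (hG.to_quotient Z) _ ha).trans ?_
    have := hp.out.one_le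
    interval_cases a <;> simpa
  have hle : (centralizer (N.map π : Set (G ⧸ Z))).comap π ≤ N := by
    intro g hg
    refine PGrp.mem_normalizer_of_conj_mem fun a ha => ?_
    have h1 := mem_centralizer_iff.1 hg (π a) ⟨a, hAN ha, rfl⟩
    have h2 : g * a * g⁻¹ * a⁻¹ ∈ Z := by
      rw [← QuotientGroup.ker_mk' Z, MonoidHom.mem_ker]
      change π _ = 1
      simp only [map_mul, map_inv]
      rw [← h1]; group
    exact (A.mul_mem_cancel_right (A.inv_mem ha)).1 (hZA h2)
  have h3 := index_antitone hle
  rw [index_comap_of_surjective _ (QuotientGroup.mk'_surjective Z)] at h3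
  exact h3.trans hC

theorem idx_norm (hG : IsPGroup p G) (h : Sf p A) (ht : normalizer (A : Set G) ≠ ⊤) :
    (normalizer (A : Set G)).relIndex (normalizer (normalizer (A : Set G) : Set G)) = p := by
  set N := normalizer (A : Set G) with hN
  have h1 := h.subgroupOf (L := normalizer (N : Set G)) le_normalizer
  have e := FGS.normalizer_subgroupOf (P := A) (K := normalizer (N : Set G))
    (le_normalizer.trans le_normalizer)
  have h2 := index_le (hG.to_subgroup _) h1 (hn := by rw [e]; infer_instance)
  rw [e] at h2
  obtain ⟨k, hk⟩ := (hG.to_subgroup _).index (N.subgroupOf (normalizer (N : Set G)))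
  have h3 := Core.lt_inf_normalizer_of_nilpotent (H := N) (K := ⊤)
    (hG.to_subgroup ⊤).isNilpotent (lt_top_iff_ne_top.2 ht)
  rw [top_inf_eq] at h3
  change N.relIndex _ = _ at hk
  change N.relIndex _ ≤ _ at h2
  rcases k with _ | _ | k
  · exact absurd (relIndex_eq_one.1 hk) h3.not_ge
  · simpa using hk
  · have := Nat.pow_lt_pow_right hp.out.one_lt (show 1 < k + 1 + 1 by omega)
    rw [pow_one] at this
    omega

omit hp [Finite G] in
theorem rel_map {W H K : Subgroup G} [W.Normal] (h1 : W ≤ H) (h2 : W ≤ K) :
    (H.map (QuotientGroup.mk' W)).relIndex (K.map (QuotientGroup.mk' W)) = H.relIndex K := by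
  rw [relIndex_map_map, QuotientGroup.ker_mk', sup_eq_left.2 h1, sup_eq_left.2 h2]

omit hp [Finite G] in
theorem norm_map {W H : Subgroup G} [W.Normal] (h1 : W ≤ H) :
    normalizer ((H.map (QuotientGroup.mk' W) : Subgroup (G ⧸ W)) : Set (G ⧸ W)) =
      (normalizer (H : Set G)).map (QuotientGroup.mk' W) := by
  have := comap_normalizer_eq_of_surjective (H.map (QuotientGroup.mk' W))
    (QuotientGroup.mk'_surjective W)
  rw [comap_map_eq, QuotientGroup.ker_mk', sup_eq_left.2 h1] at this
  rw [← this, map_comap_eq_self_of_surjective (QuotientGroup.mk'_surjective W)]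

theorem step (hG : IsPGroup p G) (h : Sf p A) (ht : normalizer (A : Set G) ≠ ⊤) :
    Sf p ((normalizer (A : Set G)).map (QuotientGroup.mk' A.normalCore)) := by
  set N := normalizer (A : Set G) with hN
  set W := A.normalCore with hW
  have hWA : W ≤ A := A.normalCore_le
  have hAN : A ≤ N := le_normalizer
  obtain ⟨z, -, hzW, -, hz⟩ := PGrp.exists_central_mod_normal hG ⊤ W
    (fun hle => ht (eq_top_iff.2 (hle.trans (hWA.trans hAN))))
  have hzA : z ∉ A := fun hzA => by
    haveI := PGrp.normal_sup_zpowers hz
    exact hzW (normal_le_normalCore.2 (sup_le hWA (zpowers_le.2 hzA))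
      (mem_sup_right (mem_zpowers z)))
  have hzN : z ∈ N := PGrp.mem_normalizer_of_conj_mem fun a ha => by
    have := A.mul_mem (hWA (hz a)) ha
    simpa [commutatorElement_def] using this
  have hsup : A ⊔ zpowers z = N := PGrp.sup_zpowers_eq_of_relIndex_prime hp.out h.idx hAN hzN hzA
  set π := QuotientGroup.mk' W
  refine ⟨?_, ?_, ?_⟩
  · rw [← hsup, Subgroup.map_sup, MonoidHom.map_zpowers]
    haveI := h.comm
    refine PGrp.isMulCommutative_sup_zpowers inferInstance ?_
    rw [mem_centralizer_iff]
    rintro _ ⟨a, -, rfl⟩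
    have := (QuotientGroup.eq_one_iff _).2 (hz a)
    rw [← QuotientGroup.mk'_apply, map_commutatorElement, commutatorElement_eq_one_iff_mul_comm]
      at this
    exact this.symm
  · intro y hy
    obtain ⟨g, rfl⟩ := QuotientGroup.mk'_surjective W y
    refine ⟨g, PGrp.mem_normalizer_of_conj_mem fun a ha => ?_, rfl⟩
    have h1 := mem_centralizer_iff.1 hy (π a) ⟨a, hAN ha, rfl⟩
    have h2 : g * a * g⁻¹ * a⁻¹ ∈ W := by
      rw [← QuotientGroup.ker_mk' W, MonoidHom.mem_ker]
      change π _ = 1
      change π a * π g = π g * π a at h1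
      simp only [map_mul, map_inv]
      rw [← h1]; group
    exact (A.mul_mem_cancel_right (A.inv_mem ha)).1 (hWA h2)
  · rw [norm_map (hWA.trans hAN),
      rel_map (hWA.trans hAN) ((hWA.trans hAN).trans le_normalizer)]
    exact idx_norm hG h ht

theorem core_ne_bot (hG : IsPGroup p G) (h : Sf p A) (ht : A ≠ ⊤) : A.normalCore ≠ ⊥ := by
  haveI : Nontrivial G := by
    by_contra hc
    rw [not_nontrivial_iff_subsingleton] at hc
    exact ht (Subsingleton.elim _ _)
  have h1 : center G ≤ A.normalCore :=
    normal_le_normalCore.2 ((center_le_centralizer _).trans h.cent)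
  haveI := hG.center_nontrivial
  exact fun e => (center G).nontrivial_iff_ne_bot.1 inferInstance (le_bot_iff.1 (e ▸ h1))

theorem idx_all (G : Type u) [Group G] [Finite G] : IsPGroup p G → ∀ A : Subgroup G, Sf p A →
    ∀ K : Subgroup G, A ≤ K → K ≠ ⊤ → K.relIndex (normalizer (K : Set G)) = p := by
  refine Core.induction_on_card (P := fun G _ _ => IsPGroup p G → ∀ A : Subgroup G, Sf p A →
    ∀ K : Subgroup G, A ≤ K → K ≠ ⊤ → K.relIndex (normalizer (K : Set G)) = p) ?_ G
  intro G _ _ ih hG A h K hAK hK
  rcases hAK.eq_or_lt with rfl | hlt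
  · exact h.idx
  have hNK := norm_le hG h.idx hlt
  have hWK : A.normalCore ≤ K := A.normalCore_le.trans hAK
  have := ih _ (Core.card_quotient_lt _ (core_ne_bot hG h hlt.ne_top)) (hG.to_quotient _) _
    (step hG h (ne_top_of_le_ne_top hK hNK)) (K.map (QuotientGroup.mk' _)) (map_mono hNK)
    (fun e => hK (by
      have := congrArg (comap (QuotientGroup.mk' A.normalCore)) e
      rwa [comap_map_eq, QuotientGroup.ker_mk', sup_eq_left.2 hWK, comap_top] at this))
  rwa [norm_map hWK, rel_map hWK (hWK.trans le_normalizer)] at this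

theorem chain (hG : IsPGroup p G) (h : Sf p A) (K L : Subgroup G) (hK : A ≤ K) (hL : A ≤ L) :
    K ≤ L ∨ L ≤ K := by
  by_contra hc
  push Not at hc
  have h1 : K ⊓ L < K := inf_lt_left.2 hc.1
  have h2 : K ⊓ L < L := inf_lt_right.2 hc.2
  have h3 := idx_all G hG A h _ (le_inf hK hL) h1.ne_top
  have h4 := relIndex_eq_one.2 (le_inf (norm_le hG h3 h1) (norm_le hG h3 h2))
  rw [h3] at h4
  exact hp.out.one_lt.ne' h4

theorem class_congr {H K : Type*} [Group H] [Group K] [Group.IsNilpotent H] (e : H ≃* K) :
    Group.nilpotencyClass H = Group.nilpotencyClass K := by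
  haveI := Group.nilpotent_of_mulEquiv e
  exact le_antisymm (Group.nilpotencyClass_le_of_surjective e.symm.toMonoidHom e.symm.surjective)
    (Group.nilpotencyClass_le_of_surjective e.toMonoidHom e.surjective)

theorem class_aux (i : ℕ) : ∀ (G : Type u) [Group G] [Finite G], IsPGroup p G →
    ∀ A K : Subgroup G, Sf p A → A ≤ K → K.index = p → A.relIndex K = p ^ i →
      Group.nilpotencyClass K = i + 1 := by
  induction i with
  | zero =>
    intro G _ _ hG A K h hAK hK hi
    obtain rfl : A = K := le_antisymm hAK (relIndex_eq_one.1 hi)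
    haveI := (hG.to_subgroup A).isNilpotent
    have h1 := Group.IsNilpotent.nilpotencyClass_le_one_iff.2 h.comm
    have h2 : Group.nilpotencyClass A ≠ 0 := by
      rw [Ne, Group.nilpotencyClass_zero_iff_subsingleton]
      intro hs
      refine core_ne_bot hG h (fun e => ?_) (le_bot_iff.1 (A.normalCore_le.trans
        (eq_bot_of_subsingleton A).le))
      rw [e, index_top] at hK
      exact hp.out.one_lt.ne hK
    omega
  | succ i ih =>
    intro G _ _ hG A K h hAK hK hi
    have hKt : K ≠ ⊤ := fun e => by
      rw [e, index_top] at hK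
      exact hp.out.one_lt.ne hK
    have hlt : A < K := lt_of_le_of_ne hAK fun e => by
      rw [e, relIndex_self] at hi
      exact (Nat.one_lt_pow (Nat.succ_ne_zero i) hp.out.one_lt).ne hi
    have hNK := norm_le hG h.idx hlt
    set W := A.normalCore
    have hWA : W ≤ A := A.normalCore_le
    have hWK : W ≤ K := hWA.trans hAK
    haveI := PGrp.normal_of_index_eq_prime hG hK
    have h1 := ih _ (hG.to_quotient W) _ (K.map (QuotientGroup.mk' W))
      (step hG h (ne_top_of_le_ne_top hKt hNK)) (map_mono hNK)
      (by rw [index_map, QuotientGroup.ker_mk', sup_eq_left.2 hWK,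
        MonoidHom.range_eq_top.2 (QuotientGroup.mk'_surjective W), index_top, mul_one, hK])
      (by
        rw [rel_map (hWA.trans le_normalizer) hWK]
        have := relIndex_mul_relIndex A _ K le_normalizer hNK
        rw [h.idx, hi, pow_succ'] at this
        exact Nat.eq_of_mul_eq_mul_left hp.out.pos this)
    have hKC : K ≤ centralizer (W : Set G) := by
      have hAC : A ≤ centralizer (W : Set G) := by
        haveI := h.comm
        exact (le_centralizer A).trans (centralizer_le hWA)
      refine (chain hG h _ _ hAK hAC).elim id fun hle => ?_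
      have h2 := idx_all G hG A h _ hAC (ne_top_of_le_ne_top hKt hle)
      rw [normalizer_eq_top, relIndex_top_right] at h2
      have h3 := relIndex_mul_index hle
      rw [h2, hK] at h3
      exact relIndex_eq_one.1 (Nat.eq_of_mul_eq_mul_right hp.out.pos (h3.trans (one_mul p).symm))
    have hker : ((QuotientGroup.mk' W).subgroupMap K).ker = center K := by
      ext x
      rw [MonoidHom.mem_ker, Subtype.ext_iff, mem_center_iff]
      change ((x : G) : G ⧸ W) = 1 ↔ _
      rw [QuotientGroup.eq_one_iff]
      constructor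
      · intro hx g
        exact Subtype.ext (mem_centralizer_iff.1 (hKC g.2) x hx).symm
      · intro hx
        have h2 : K ⊓ centralizer (K : Set G) ≤ W :=
          normal_le_normalCore.2 (inf_le_right.trans ((centralizer_le hAK).trans h.cent))
        exact h2 ⟨x.2, mem_centralizer_iff.2 fun g hg => congrArg Subtype.val (hx ⟨g, hg⟩)⟩
    haveI := (hG.to_subgroup K).isNilpotent
    haveI : Nontrivial K := K.nontrivial_iff_ne_bot.2 hlt.ne_bot
    rw [Group.nilpotencyClass_eq_quotient_center_plus_one, ← h1,
      class_congr ((QuotientGroup.quotientMulEquivOfEq hker.symm).trans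
        (QuotientGroup.quotientKerEquivOfSurjective _ ((QuotientGroup.mk' W).subgroupMap_surjective K)))]

theorem class_eq (hG : IsPGroup p G) (h : Sf p A) (i : ℕ)
    (K : Subgroup G) (hAK : A ≤ K) (hK : K ≠ ⊤) (hi : K.index * p ^ i = A.index) :
    Group.nilpotencyClass K = i + 1 := by
  have h1 := idx_all G hG A h K hAK hK
  have hN : normalizer (A : Set G) ≤ normalizer (K : Set G) := by
    rcases hAK.eq_or_lt with rfl | hlt
    · exact le_rfl
    · exact (norm_le hG h.idx hlt).trans le_normalizer
  have h2 := class_aux i _ (hG.to_subgroup _) _ (K.subgroupOf (normalizer (K : Set G)))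
    (h.subgroupOf hN) (subgroupOf_mono _ hAK) h1 (by
      rw [relIndex_subgroupOf le_normalizer]
      have := relIndex_mul_index hAK
      rw [← hi, mul_comm] at this
      exact Nat.eq_of_mul_eq_mul_left (Nat.pos_of_ne_zero index_ne_zero_of_finite) this)
  haveI := (hG.to_subgroup K).isNilpotent
  rw [← h2]
  exact class_congr (subgroupOfEquivOfLe le_normalizer).symm

end Cfsg.Agent.H23.Soft
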