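import Mathlib
import Cfsg.Agent.Core.Basic
import Cfsg.Agent.Core.MinNormal
import Cfsg.Agent.Core.Coprime
import Cfsg.Agent.Core.Super
import Cfsg.Agent.Core.PSolvable
import Cfsg.Agent.H2.FrobCenter
import Cfsg.Agent.H2.Fac2
import Cfsg.Agent.FGS.DPi
import Cfsg.Agent.H23.PL2
import Cfsg.Agent.H23.SameOrd
import Cfsg.Agent.S0035
import Cfsg.Agent.S0042

set_option autoImplicit false

namespace Cfsg.Agent.H23.TwoFrob

open Subgroup
open scoped Pointwise

theorem frob {X : Type*} [Group X] [Finite X] {N : Subgroup X} [hN : N.Normal]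
    (h : ∃ C : Subgroup X, IsFrobeniusComplement C ∧ frobeniusKernel C = (N : Set X)) :
    N ≠ ⊥ ∧ Group.IsNilpotent N ∧ (∀ n ∈ N, n ≠ 1 → ∀ x, Commute x n → x ∈ N) ∧
      (Nat.card N).Coprime N.index ∧ ∃ C : Subgroup X, C ≠ ⊥ ∧ IsComplement' N C := by
  obtain ⟨C, hC, hk⟩ := h
  obtain ⟨N1, h1, -, hc⟩ := S0035.result C hC
  obtain ⟨N2, h2, -, hn⟩ := S0042.result C hC
  obtain rfl : N1 = N := SetLike.coe_injective (h1.trans hk)
  obtain rfl : N2 = N1 := SetLike.coe_injective (h2.trans hk)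
  have hne : N2 ≠ ⊥ := by
    rintro rfl
    exact hC.2.1 (isComplement'_bot_left.1 hc)
  have hsr := (H2.Frob.iff_semiregular hc hne hC.1).1 hC
  refine ⟨hne, hn, fun n hn hn1 x hx => ?_, ?_, C, hC.1, hc⟩
  · by_contra hxN
    have hx' : x ∉ frobeniusKernel C := by rw [hk]; exact hxN
    simp only [frobeniusKernel, Set.mem_setOf_eq, not_or, not_forall, not_not] at hx'
    obtain ⟨hx1, g, hg⟩ := hx'
    rw [mem_pointwise_smul_iff_inv_smul_mem] at hg
    simp only [MulAut.smul_def, MulAut.conj_inv_apply] at hg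
    have h3 := hsr _ hg (by simpa [mul_assoc, inv_mul_eq_one] using hx1)
    have h4 : g⁻¹ * n * g ∈ N2 ⊓ centralizer {g⁻¹ * x * g} := by
      refine mem_inf.2 ⟨by simpa using hN.conj_mem n hn g⁻¹, ?_⟩
      rw [mem_centralizer_singleton_iff]
      calc g⁻¹ * n * g * (g⁻¹ * x * g) = g⁻¹ * (n * x) * g := by group
        _ = _ := by rw [← hx.eq]; group
    rw [h3, mem_bot] at h4
    apply hn1
    calc n = g * (g⁻¹ * n * g) * g⁻¹ := by group
      _ = 1 := by rw [h4]; group
  · rw [hc.symm.index_eq_card, ← hc.index_eq_card]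
    exact (H2.Frob.coprime_index hC).symm

theorem semireg {X : Type*} [Group X] {N P C : Subgroup X} (hP : P ≤ N) (hd : Disjoint N C)
    (h : ∀ n ∈ N, n ≠ 1 → ∀ x ∈ C, Commute x n → x ∈ N) :
    ∀ c ∈ C, c ≠ 1 → P ⊓ centralizer {c} = ⊥ := by
  intro c hc hc1
  rw [eq_bot_iff]
  rintro n ⟨hn, hcn⟩
  by_contra hn1
  have := h n (hP hn) hn1 c hc (mem_centralizer_singleton_iff.1 hcn).symm
  exact hc1 (disjoint_def.1 hd this hc)

theorem main {G : Type*} [Group G] [Finite G] (H K : Subgroup G) [H.Normal] [K.Normal]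
    (hlt : H < K)
    (hK : ∃ C : Subgroup ↥K, IsFrobeniusComplement C ∧ frobeniusKernel C = (H.subgroupOf K : Set ↥K))
    (hGH : ∃ C : Subgroup (G ⧸ H), IsFrobeniusComplement C ∧
      frobeniusKernel C = (K.map (QuotientGroup.mk' H) : Set (G ⧸ H))) :
    Group.IsSolvable G ∧ Odd (Nat.card (↥K ⧸ H.subgroupOf K)) ∧
      Nat.Coprime (Nat.card (↥K ⧸ H.subgroupOf K)) (Nat.card ↥H * Nat.card (G ⧸ K)) ∧
      IsCyclic (G ⧸ K) ∧
      ∀ p q : ℕ, p.Prime → q.Prime → p ≠ q → p ∣ Nat.card G → q ∣ Nat.card G →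
        ((∃ g : G, orderOf g = p * q) ↔
          (p ∣ Nat.card (↥K ⧸ H.subgroupOf K) ↔ q ∣ Nat.card (↥K ⧸ H.subgroupOf K))) := by
  set π := QuotientGroup.mk' H with hπ
  have hπs : Function.Surjective π := QuotientGroup.mk'_surjective H
  have hπk : π.ker = H := QuotientGroup.ker_mk' H
  set B := K.map π with hB
  haveI hBn : B.Normal := Normal.map inferInstance π hπs
  have hHK := hlt.le
  have hmem : ∀ g, π g ∈ B ↔ g ∈ K := fun g => by
    rw [← mem_comap, hB, comap_map_eq, hπk, sup_eq_left.2 hHK]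
  have hmemH : ∀ g, π g = 1 ↔ g ∈ H := fun g => by rw [← MonoidHom.mem_ker, hπk]
  obtain ⟨hH1, hHn, hHc, hHco, C0, hC1, hC⟩ := frob hK
  obtain ⟨hB1, hBnil, hBc, hBco, D, hD1, hD⟩ := frob hGH
  have hm : Nat.card (↥K ⧸ H.subgroupOf K) = Nat.card B := Core.relIndex_eq_card_map_mk' H K
  have hidx : B.index = Nat.card (G ⧸ K) := by
    rw [hB, index_map, hπk, sup_eq_left.2 hHK, MonoidHom.range_eq_top.2 hπs, index_top, mul_one]
    rfl
  rw [Core.card_subgroupOf_of_le hHK, index, hm] at hHco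
  rw [hidx] at hBco
  rw [hm]
  have hHne : H ≠ ⊥ := by rintro rfl; simp at hH1
  have hHnil : Group.IsNilpotent H :=
    Group.nilpotent_of_mulEquiv (subgroupOfEquivOfLe hHK)
  have centK : ∀ n ∈ H, n ≠ 1 → ∀ x ∈ K, Commute x n → x ∈ H := by
    intro n hn hn1 x hx hc
    exact hHc ⟨n, hHK hn⟩ hn (fun e => hn1 (congrArg Subtype.val e)) ⟨x, hx⟩ (Subtype.ext hc)
  set C := C0.map K.subtype with hCd
  have hCK : C ≤ K := map_subtype_le _
  have hdis : Disjoint H C := by
    rw [disjoint_def]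
    rintro _ hx ⟨y, hy, rfl⟩
    exact congrArg Subtype.val (disjoint_def.1 hC.disjoint hx hy)
  have hCB : C.map π = B := by
    refine le_antisymm (map_mono hCK) ?_
    rintro _ ⟨k, hk, rfl⟩
    obtain ⟨⟨h, c⟩, e⟩ := hC.2 ⟨k, hk⟩
    refine ⟨c, ⟨c, c.2, rfl⟩, ?_⟩
    have e' : ((h : K) : G) * ((c : K) : G) = k := congrArg Subtype.val e
    rw [← e', map_mul, (hmemH ((h : K) : G)).2 h.2, one_mul]
  have hinf : C ⊓ π.ker = ⊥ := by rw [hπk]; exact hdis.symm.eq_bot
  have hinj : Function.Injective (π.subgroupMap C) := by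
    rw [injective_iff_map_eq_one]
    intro a ha
    have : (a : G) ∈ C ⊓ π.ker := ⟨a.2, congrArg Subtype.val ha⟩
    rw [hinf] at this
    exact Subtype.ext this
  let e : C ≃* B := (MulEquiv.ofBijective _ ⟨hinj, π.subgroupMap_surjective C⟩).trans
    (MulEquiv.subgroupCongr hCB)
  have hcard : Nat.card C = Nat.card B := Nat.card_congr e.toEquiv
  have hsrC := semireg le_rfl hdis fun n hn hn1 x hx => centK n hn hn1 x (hCK hx)
  have hnC : C ≤ normalizer (H : Set G) := by rw [normalizer_eq_top]; exact le_top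
  have hBt : B ≠ ⊤ := by
    rintro h
    rw [h] at hD
    exact hD1 (isComplement'_top_left.1 hD)
  have hodd : Odd (Nat.card B) := by
    rw [← Nat.not_even_iff_odd, even_iff_two_dvd]
    intro h2
    haveI : Fact (Nat.Prime 2) := ⟨Nat.prime_two⟩
    obtain ⟨s, hs⟩ := exists_prime_orderOf_dvd_card' (G := B) 2 h2
    apply hBt
    rw [eq_top_iff]
    intro x _
    refine hBc s s.2 (fun h => ?_) x ?_
    · rw [← Subgroup.orderOf_coe, h, orderOf_one] at hs; omega
    let t : B := ⟨x * s * x⁻¹, hBn.conj_mem _ s.2 x⟩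
    have ht : orderOf t = 2 := by
      rw [← Subgroup.orderOf_coe, ← hs, ← Subgroup.orderOf_coe]
      exact (MulAut.conj x).orderOf_eq (s : G ⧸ H)
    have := H2.involution_unique_of_semiregular hnC hsrC hHne (e.symm s).2 (e.symm t).2
      (by rw [Subgroup.orderOf_coe, MulEquiv.orderOf_eq, hs])
      (by rw [Subgroup.orderOf_coe, MulEquiv.orderOf_eq, ht])
    have h3 := congrArg Subtype.val (e.symm.injective (Subtype.ext this))
    exact mul_inv_eq_iff_eq_mul.1 h3
  haveI : IsZGroup C := H2.isZGroup_of_semiregular_of_odd hnC hsrC hHne (hcard ▸ hodd)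
  haveI : Group.IsNilpotent C := Group.nilpotent_of_mulEquiv e.symm
  haveI hCcyc : IsCyclic C := inferInstance
  haveI hBcyc : IsCyclic B := isCyclic_of_surjective e e.surjective
  have hsrD := semireg le_rfl hD.disjoint fun n hn hn1 x _ => hBc n hn hn1 x
  have hDc : IsMulCommutative D := by
    obtain ⟨b, hb, hb1⟩ := (Subgroup.bot_or_exists_ne_one B).resolve_left hB1
    refine Core.isMulCommutative_of_forall fun x hx y hy => ?_
    have h1 : x * y * x⁻¹ * y⁻¹ ∈ commutator (G ⧸ H) :=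
      commutator_mem_commutator (mem_top x) (mem_top y)
    have h2 := hBc b hb hb1 _
      (mem_centralizer_iff.1 (Core.commutator_le_centralizer_of_isCyclic B h1) b hb).symm
    have h3 := disjoint_def.1 hD.disjoint h2
      (D.mul_mem (D.mul_mem (D.mul_mem hx hy) (D.inv_mem hx)) (D.inv_mem hy))
    rw [mul_inv_eq_one, mul_inv_eq_iff_eq_mul] at h3
    exact h3
  haveI hDcyc : IsCyclic D := H2.isCyclic_of_semiregular_of_comm
    (by rw [normalizer_eq_top]; exact le_top) hsrD hB1 le_rfl hDc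
  have hGK : IsCyclic (G ⧸ K) := by
    let f : G ⧸ H →* G ⧸ K := QuotientGroup.map H K (MonoidHom.id G) hHK
    refine isCyclic_of_surjective (f.comp D.subtype) fun y => ?_
    obtain ⟨g, rfl⟩ := QuotientGroup.mk_surjective y
    obtain ⟨⟨⟨_, b, hb, rfl⟩, d⟩, e⟩ := hD.2 (π g)
    refine ⟨d, ?_⟩
    have h1 : f (π g) = (g : G ⧸ K) := rfl
    have h2 : f (π b) = 1 := (QuotientGroup.eq_one_iff b).2 hb
    rw [← h1, ← e]
    simp only [map_mul, h2, one_mul]
    rfl
  have hsolv : Group.IsSolvable G := by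
    refine H2.solvable_of_normal_quotient H inferInstance
      (H2.solvable_of_normal_quotient B inferInstance ?_)
    haveI : IsCyclic ((G ⧸ H) ⧸ B) :=
      isCyclic_of_surjective _ hD.symm.QuotientMulEquiv.symm.surjective
    exact Core.solvable_of_isMulCommutative
  have hcop : (Nat.card B).Coprime (Nat.card H * Nat.card (G ⧸ K)) :=
    Nat.Coprime.mul_right hHco.symm hBco
  refine ⟨hsolv, hodd, hcop, hGK, ?_⟩
  have hG : Nat.card G = Nat.card B * (Nat.card H * Nat.card (G ⧸ K)) := by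
    rw [card_eq_card_quotient_mul_card_subgroup H, ← B.card_mul_index, hidx]; ring
  -- membership of elements of suitable order
  have inK : ∀ g : G, (orderOf g).Coprime (Nat.card (G ⧸ K)) → g ∈ K := fun g hg =>
    Core.mem_of_pow_mem_of_coprime (K.pow_index_mem g) hg.symm
  have inH : ∀ g ∈ K, (orderOf g).Coprime (Nat.card B) → g ∈ H := fun g hg h => by
    refine Core.mem_of_pow_mem_of_coprime (n := Nat.card B) ?_ h.symm
    rw [← hmemH, map_pow]
    exact congrArg Subtype.val (pow_card_eq_one' (x := (⟨π g, (hmem g).2 hg⟩ : B)))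
  have nomix : ∀ p q : ℕ, p.Prime → q.Prime → p ∣ Nat.card B → ¬ q ∣ Nat.card B →
      ¬ ∃ g : G, orderOf g = p * q := by
    rintro p q hp hq hpd hqd ⟨g, hg⟩
    have ha : orderOf (g ^ q) = p := by
      rw [orderOf_pow' _ hq.ne_zero, hg, Nat.gcd_eq_right (dvd_mul_left q p),
        Nat.mul_div_cancel _ hq.pos]
    have hb : orderOf (g ^ p) = q := by
      rw [orderOf_pow' _ hp.ne_zero, hg, Nat.gcd_eq_right (dvd_mul_right p q),
        Nat.mul_div_cancel_left _ hp.pos]
    have haK := inK _ (ha ▸ (hBco.coprime_dvd_left hpd))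
    have haH : g ^ q ∉ H := fun h => by
      have := H.orderOf_dvd_natCard h
      rw [ha] at this
      exact hp.one_lt.ne' (Nat.eq_one_of_dvd_coprimes hHco this hpd)
    have hc : Commute (g ^ p) (g ^ q) := Commute.pow_pow_self g p q
    have hbK := (hmem _).1 (hBc _ ((hmem _).2 haK) (mt (hmemH _).1 haH) _ (hc.map π))
    have hbH := inH _ hbK (hb ▸ (Nat.Prime.coprime_iff_not_dvd hq).2 hqd)
    refine haH (centK _ hbH (fun h => ?_) _ haK hc.symm)
    rw [h, orderOf_one] at hb
    exact hq.one_lt.ne hb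
  have mixed : ∀ p q : ℕ, p.Prime → q.Prime → p ≠ q → p ∣ Nat.card H → ¬ q ∣ Nat.card H →
      q ∣ Nat.card (G ⧸ K) → ∃ g : G, orderOf g = p * q := by
    intro p q hp hq hpq hpd hqH hqd
    by_contra hno
    haveI := Fact.mk hp
    haveI := Fact.mk hq
    obtain ⟨d, hd⟩ := exists_prime_orderOf_dvd_card' (G := D) q
      (by rw [← hD.symm.index_eq_card, hidx]; exact hqd)
    have hd' : orderOf (d : G ⧸ H) = q := by rw [Subgroup.orderOf_coe, hd]
    have hd1 : (d : G ⧸ H) ≠ 1 := fun h => by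
      rw [h, orderOf_one] at hd'; exact hq.one_lt.ne hd'
    have hdB : (d : G ⧸ H) ∉ B := fun h => hd1 (disjoint_def.1 hD.disjoint h d.2)
    have hdq : (d : G ⧸ H) ^ q = 1 := by rw [← hd', pow_orderOf_eq_one]
    set L1 := B ⊔ zpowers (d : G ⧸ H) with hL1
    have hL1c : Nat.card L1 = Nat.card B * q := PGrp.card_sup_zpowers hq
      (by rw [normalizer_eq_top]; trivial) (by rw [hdq]; exact B.one_mem) hdB
    have hL1q : ∀ y ∈ L1, y ∉ B → y ^ q = 1 := by
      intro y hy hyB
      by_contra hne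
      refine hyB (hBc _ ?_ hne y (Commute.self_pow y q))
      obtain ⟨b, hb, k, rfl⟩ :=
        (PGrp.mem_sup_zpowers (by rw [normalizer_eq_top]; trivial)).1 hy
      rw [← QuotientGroup.eq_one_iff] at hb ⊢
      rw [QuotientGroup.mk_pow, QuotientGroup.mk_mul, hb, one_mul, ← QuotientGroup.mk_pow,
        ← zpow_natCast, ← zpow_mul, mul_comm, zpow_mul, zpow_natCast, hdq, one_zpow,
        QuotientGroup.mk_one]
    have hHL : H ≤ L1.comap π := fun h hh => by
      rw [mem_comap, (hmemH h).2 hh]; exact L1.one_mem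
    have hrel : H.relIndex (L1.comap π) = Nat.card B * q := by
      rw [Core.relIndex_eq_card_map_mk', map_comap_eq_self_of_surjective hπs, hL1c]
    obtain ⟨L, hL, hHLd, hsup, -⟩ := Core.exists_complement_in H (L1.comap π) hHL
      (by rw [normalizer_eq_top]; exact le_top)
      (by rw [hrel]; exact hHco.mul_right ((Nat.Prime.coprime_iff_not_dvd hq).2 hqH).symm)
    have hlift : ∀ y ∈ L1, ∃ l ∈ L, π l = y := by
      intro y hy
      obtain ⟨g, rfl⟩ := hπs y
      have : g ∈ H ⊔ L := hsup ▸ hy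
      obtain ⟨h, hh, l, hl, rfl⟩ :=
        (Core.mem_sup_of_le_normalizer (by rw [normalizer_eq_top]; exact le_top)).1 this
      exact ⟨l, hl, by rw [map_mul, (hmemH h).2 hh, one_mul]⟩
    have hLq : ∀ l ∈ L, l ∉ K → orderOf l = q := by
      intro l hl hlK
      refine orderOf_eq_prime ?_ (fun h => hlK (h ▸ K.one_mem))
      refine disjoint_def.1 hHLd ((hmemH _).1 ?_) (L.pow_mem hl q)
      rw [map_pow]
      exact hL1q _ (hL hl) (mt (hmem l).1 hlK)
    obtain ⟨S⟩ : Nonempty (Sylow p H) := inferInstance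
    haveI : (S : Subgroup H).Characteristic := S.characteristic_of_normal inferInstance
    set P := (S : Subgroup H).map H.subtype with hP
    have hPn : P.Normal := inferInstance
    have hP1 : P ≠ ⊥ := by
      rw [hP, Ne, map_eq_bot_iff_of_injective _ H.subtype_injective]
      exact S.ne_bot_of_dvd_card hpd
    have hPp : IsPGroup p P := S.isPGroup'.map _
    have hsr : ∀ l ∈ L, l ≠ 1 → P ⊓ centralizer {l} = ⊥ := by
      intro l hl hl1
      rw [eq_bot_iff]
      rintro v ⟨hv, hc⟩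
      by_contra hv1
      have hc' : Commute v l := mem_centralizer_singleton_iff.1 hc
      by_cases hlK : l ∈ K
      · exact hl1 (disjoint_def.1 hHLd (centK v (map_subtype_le _ hv) hv1 l hlK hc'.symm) hl)
      obtain ⟨k, hk⟩ := PGrp.exists_orderOf_eq_pow_of_mem hPp hv
      rcases k with _ | k
      · exact hv1 (orderOf_eq_one_iff.1 (by simpa using hk))
      have ho := PGrp.orderOf_pow_pow_eq_prime hp hk
      refine hno ⟨v ^ p ^ k * l, ?_⟩
      rw [(hc'.pow_left _).orderOf_mul_eq_mul_orderOf_of_coprime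
        (by rw [ho, hLq l hl hlK]; exact (Nat.coprime_primes hp hq).2 hpq), ho, hLq l hl hlK]
    obtain ⟨V, -, hV1, hVc, hVn, hVs⟩ := H2.exists_invariant_comm_of_semiregular
      (by rw [normalizer_eq_top]; exact le_top) hsr hP1
    obtain ⟨x, hx, hxd⟩ := hlift d (mem_sup_right (mem_zpowers _))
    refine H2.not_coset_of_semiregular hVc hV1 hVn hVs (K.subgroupOf L) ?_ ⟨x, hx⟩ hq ?_
    · obtain ⟨b, hb, hb1⟩ := (Subgroup.bot_or_exists_ne_one B).resolve_left hB1
      obtain ⟨l, hl, rfl⟩ := hlift b (mem_sup_left hb)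
      intro h
      have : (⟨l, hl⟩ : L) ∈ K.subgroupOf L := (hmem l).1 hb
      rw [h, mem_bot] at this
      apply hb1
      rw [show l = 1 from congrArg Subtype.val this, map_one]
    · intro y hy
      rw [← Subgroup.orderOf_coe]
      refine hLq _ (y * ⟨x, hx⟩).2 fun h => hdB ?_
      rw [← hxd, hmem]
      exact (K.mul_mem_cancel_left hy).1 h
  intro p q hp hq hpq hpd hqd
  have hpq' := (Nat.coprime_primes hp hq).2 hpq
  constructor
  · intro hg
    constructor
    · intro h
      by_contra h'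
      exact nomix p q hp hq h h' hg
    · intro h
      by_contra h'
      exact nomix q p hq hp h h' (by rwa [mul_comm])
  · intro hiff
    by_cases hpB : p ∣ Nat.card B
    · obtain ⟨c, hc⟩ := isCyclic_iff_exists_orderOf_eq_natCard.1 hCcyc
      refine SameOrd.exists_of_dvd (g := (c : G)) ?_
      rw [Subgroup.orderOf_coe, hc, hcard]
      exact hpq'.mul_dvd_of_dvd_of_dvd hpB (hiff.1 hpB)
    have hqB := mt hiff.2 hpB
    rw [hG] at hpd hqd
    have hpd' := (hp.dvd_mul.1 hpd).resolve_left hpB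
    have hqd' := (hq.dvd_mul.1 hqd).resolve_left hqB
    by_cases hpH : p ∣ Nat.card H <;> by_cases hqH : q ∣ Nat.card H
    · haveI := Fact.mk hp
      haveI := Fact.mk hq
      obtain ⟨a, ha⟩ := exists_prime_orderOf_dvd_card' (G := H) p hpH
      obtain ⟨b, hb⟩ := exists_prime_orderOf_dvd_card' (G := H) q hqH
      rw [← Subgroup.orderOf_coe] at ha hb
      have hc : Commute (a : G) b := FGS.commute_of_nilpotent (p := p) (k := 1) hHnil a.2 b.2
        (by rw [ha, pow_one]) (by rw [hb]; exact hpq'.symm)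
      exact ⟨a * b, by
        rw [hc.orderOf_mul_eq_mul_orderOf_of_coprime (by rw [ha, hb]; exact hpq'), ha, hb]⟩
    · exact mixed p q hp hq hpq hpH hqH ((hq.dvd_mul.1 hqd').resolve_left hqH)
    · rw [mul_comm]
      exact mixed q p hq hp hpq.symm hqH hpH ((hp.dvd_mul.1 hpd').resolve_left hpH)
    · obtain ⟨c, hc⟩ := isCyclic_iff_exists_orderOf_eq_natCard.1 hGK
      obtain ⟨g, rfl⟩ := QuotientGroup.mk_surjective c
      refine SameOrd.exists_of_dvd (g := g) (Dvd.dvd.trans ?_
        (orderOf_map_dvd (QuotientGroup.mk' K) g))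
      rw [QuotientGroup.mk'_apply, hc]
      exact hpq'.mul_dvd_of_dvd_of_dvd ((hp.dvd_mul.1 hpd').resolve_left hpH)
        ((hq.dvd_mul.1 hqd').resolve_left hqH)

end Cfsg.Agent.H23.TwoFrob
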